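import Mathlib.Data.Rat.Cast.Order
import Mathlib.Data.Nat.Factorial.Basic
import Mathlib.Data.Nat.Prime.Basic
import Mathlib.Algebra.BigOperators.Intervals
import Mathlib.Algebra.Order.BigOperators.Ring.Finset
import Mathlib.Tactic.Linarith
import Mathlib.Tactic.Positivity
import Mathlib.Tactic.NormNum
import Mathlib.Tactic.NormNum.Prime
import Mathlib.Tactic.IntervalCases
import Mathlib.Tactic.FieldSimp

/-!
The arithmetic of the bound for solvable linear groups.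
-/

set_option autoImplicit false

namespace CfsgLib.SolvLinK

/-- The bound in dimension `d` for the ratio of order and class number. -/
def gB (d : ℕ) : ℚ :=
  if d ≤ 1 then 1 else if d = 2 then 6 else if d = 3 then 81 else if d = 4 then 900 else 59 / 10 * 11 ^ (d - 2)

theorem gB_of_five {d : ℕ} (h : 5 ≤ d) : gB d = 59 / 10 * 11 ^ (d - 2) := by
  rw [gB, if_neg (by omega), if_neg (by omega), if_neg (by omega), if_neg (by omega)]

theorem gB_pos (d : ℕ) : 0 < gB d := by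
  unfold gB; split_ifs <;> positivity

theorem one_le_gB (d : ℕ) : 1 ≤ gB d := by
  unfold gB
  split_ifs <;> norm_num
  have h : (1 : ℚ) ≤ 11 ^ (d - 2) := one_le_pow₀ (by norm_num)
  linarith

theorem gB_le {d : ℕ} (h : 2 ≤ d) : gB d ≤ 8 * 11 ^ (d - 2) := by
  unfold gB
  split_ifs with h1 h2 h3 h4
  · omega
  all_goals subst_vars
  all_goals norm_num

theorem le_gB {d : ℕ} (h : 5 ≤ d) {x : ℚ} (hx : x ≤ 59 / 10 * 11 ^ (d - 2)) : x ≤ gB d := by
  rwa [gB_of_five h]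

theorem gB_mul {a b : ℕ} (ha : 1 ≤ a) (hb : 1 ≤ b) : gB a * gB b ≤ gB (a + b) := by
  wlog hab : a ≤ b generalizing a b
  · rw [mul_comm, add_comm a b]; exact this hb ha (by omega)
  rcases (by omega : a = 1 ∨ 2 ≤ a) with rfl | ha2
  · rw [show gB 1 = 1 by rfl, one_mul]
    rcases Nat.lt_or_ge b 5 with h | h
    · interval_cases b <;> norm_num [gB]
    · rw [gB_of_five h, gB_of_five (by omega), show 1 + b - 2 = (b - 2) + 1 by omega, pow_succ]
      have : (0 : ℚ) < 11 ^ (b - 2) := by positivity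
      linarith
  rcases Nat.lt_or_ge (a + b) 5 with h | h
  · obtain rfl : a = 2 := by omega
    obtain rfl : b = 2 := by omega
    norm_num [gB]
  refine le_gB h (le_trans (mul_le_mul (gB_le ha2) (gB_le (by omega)) (gB_pos b).le (by positivity)) ?_)
  rw [show a + b - 2 = (a - 2) + (b - 2) + 2 by omega, pow_add, pow_add]
  have : (0 : ℚ) < 11 ^ (a - 2) * 11 ^ (b - 2) := by positivity
  nlinarith

theorem factorial_le {t T : ℕ} (ht : t ≤ 4) (hT : T ≤ t.factorial) : T ≤ [1, 1, 2, 6, 24].getD t 0 := by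
  interval_cases t <;> simpa [Nat.factorial] using hT

/-- Blocks. -/
theorem block_arith {t b T : ℕ} (ht : 2 ≤ t) (hb : 1 ≤ b) (h1 : T ≤ t.factorial) (h2 : T ^ 3 ≤ 24 ^ (t - 1)) :
    (T : ℚ) ^ 2 * gB b ^ t ≤ gB (t * b) := by
  have hg : (0 : ℚ) ≤ gB b ^ t := pow_nonneg (gB_pos b).le t
  rcases Nat.lt_or_ge t 5 with h5 | h5
  · have hT := factorial_le (by omega) h1
    interval_cases t
    all_goals simp only [List.getD_cons_succ, List.getD_cons_zero] at hT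
    all_goals refine le_trans (mul_le_mul_of_nonneg_right
      (pow_le_pow_left₀ (Nat.cast_nonneg _) (Nat.cast_le.2 hT) 2) hg) ?_
    · rcases (by omega : b = 1 ∨ b = 2 ∨ 3 ≤ b) with rfl | rfl | h
      · norm_num [gB]
      · norm_num [gB]
      · refine le_gB (by omega) ?_
        refine le_trans (mul_le_mul_of_nonneg_left (pow_le_pow_left₀ (gB_pos b).le (gB_le (by omega)) 2) (by norm_num)) ?_
        rw [show 2 * b - 2 = 2 * (b - 2) + 2 by omega, mul_pow, ← pow_mul, pow_add, mul_comm (b - 2) 2]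
        have : (0 : ℚ) < 11 ^ (2 * (b - 2)) := by positivity
        norm_num; linarith
    · rcases (by omega : b = 1 ∨ 2 ≤ b) with rfl | h
      · norm_num [gB]
      · refine le_gB (by omega) ?_
        refine le_trans (mul_le_mul_of_nonneg_left (pow_le_pow_left₀ (gB_pos b).le (gB_le h) 3) (by norm_num)) ?_
        rw [show 3 * b - 2 = 3 * (b - 2) + 4 by omega, mul_pow, ← pow_mul, pow_add, mul_comm (b - 2) 3]
        have : (0 : ℚ) < 11 ^ (3 * (b - 2)) := by positivity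
        norm_num; linarith
    · rcases (by omega : b = 1 ∨ 2 ≤ b) with rfl | h
      · norm_num [gB]
      · refine le_gB (by omega) ?_
        refine le_trans (mul_le_mul_of_nonneg_left (pow_le_pow_left₀ (gB_pos b).le (gB_le h) 4) (by norm_num)) ?_
        rw [show 4 * b - 2 = 4 * (b - 2) + 6 by omega, mul_pow, ← pow_mul, pow_add, mul_comm (b - 2) 4]
        have : (0 : ℚ) < 11 ^ (4 * (b - 2)) := by positivity
        norm_num; linarith
  have hT : T ^ 2 ≤ 9 ^ (t - 1) := by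
    refine (Nat.pow_le_pow_iff_left (n := 3) (by norm_num)).1 ?_
    calc (T ^ 2) ^ 3 = (T ^ 3) ^ 2 := by rw [← pow_mul, ← pow_mul]
      _ ≤ (24 ^ (t - 1)) ^ 2 := Nat.pow_le_pow_left h2 2
      _ = 576 ^ (t - 1) := by rw [← pow_mul, mul_comm, pow_mul]; norm_num
      _ ≤ 729 ^ (t - 1) := Nat.pow_le_pow_left (by norm_num) _
      _ = (9 ^ (t - 1)) ^ 3 := by rw [← pow_mul, mul_comm, pow_mul]; norm_num
  refine le_trans (mul_le_mul_of_nonneg_right
    (show (T : ℚ) ^ 2 ≤ 9 ^ (t - 1) by exact_mod_cast hT) hg) ?_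
  refine le_gB (by nlinarith) ?_
  obtain ⟨u, rfl⟩ : ∃ u, t = u + 5 := ⟨t - 5, by omega⟩
  rcases (by omega : b = 1 ∨ 2 ≤ b) with rfl | h
  · rw [show gB 1 = 1 by rfl, one_pow, mul_one, show u + 5 - 1 = u + 4 by omega,
      show (u + 5) * 1 - 2 = u + 3 by omega, pow_add, pow_add]
    have : (9 : ℚ) ^ u ≤ 11 ^ u := pow_le_pow_left₀ (by norm_num) (by norm_num) u
    have : (0 : ℚ) < 11 ^ u := by positivity
    norm_num; linarith
  · refine le_trans (mul_le_mul_of_nonneg_left (pow_le_pow_left₀ (gB_pos b).le (gB_le h) _) (by positivity)) ?_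
    rw [show (u + 5) * b - 2 = (b - 2) * (u + 5) + (2 * u + 8) by
      obtain ⟨c, rfl⟩ : ∃ c, b = c + 2 := ⟨b - 2, by omega⟩
      rw [Nat.add_sub_cancel]; ring_nf; omega]
    rw [show u + 5 - 1 = u + 4 by omega, mul_pow, ← pow_mul, pow_add _ ((b - 2) * (u + 5))]
    have h0 : (72 : ℚ) ^ u ≤ 121 ^ u := pow_le_pow_left₀ (by norm_num) (by norm_num) u
    have h121 : (0 : ℚ) < 121 ^ u := by positivity
    have key : (9 : ℚ) ^ (u + 4) * 8 ^ (u + 5) ≤ 59 / 10 * 11 ^ (2 * u + 8) := by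
      rw [pow_add, pow_add, pow_add, pow_mul]
      norm_num
      have : (9 : ℚ) ^ u * 8 ^ u = 72 ^ u := by rw [← mul_pow]; norm_num
      nlinarith
    calc (9 : ℚ) ^ (u + 4) * (8 ^ (u + 5) * 11 ^ ((b - 2) * (u + 5)))
        = ((9 : ℚ) ^ (u + 4) * 8 ^ (u + 5)) * 11 ^ ((b - 2) * (u + 5)) := by ring
      _ ≤ (59 / 10 * 11 ^ (2 * u + 8)) * 11 ^ ((b - 2) * (u + 5)) := mul_le_mul_of_nonneg_right key (by positivity)
      _ = _ := by ring

theorem cube_le_three_pow : ∀ {q : ℕ}, 3 ≤ q → q ^ 3 ≤ 3 ^ q := by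
  intro q hq
  induction q, hq using Nat.le_induction with
  | base => norm_num
  | succ q hq ih =>
    rw [pow_succ 3 q]
    nlinarith [Nat.mul_le_mul hq hq]

theorem two_exp_arith : ∀ {n : ℕ}, 4 ≤ n → 3 * (2 * n ^ 2 + 3 * n) ≤ 10 * (2 ^ n - 2) := by
  intro n hn
  suffices 3 * (2 * n ^ 2 + 3 * n) + 20 ≤ 10 * 2 ^ n by omega
  induction n, hn using Nat.le_induction with
  | base => norm_num
  | succ n hn ih => rw [pow_succ 2 n]; nlinarith

theorem odd_exp_arith {q : ℕ} (hq : 3 ≤ q) : ∀ {n : ℕ}, 2 ≤ n → q * (2 * n ^ 2 + 3 * n) + 12 ≤ 6 * q ^ n := by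
  intro n hn
  induction n, hn using Nat.le_induction with
  | base => nlinarith
  | succ n hn ih =>
    rw [pow_succ q n]
    have : 2 * (n + 1) ^ 2 + 3 * (n + 1) + 12 ≤ 3 * (2 * n ^ 2 + 3 * n) + 24 := by nlinarith
    nlinarith [Nat.mul_le_mul_left q ih, Nat.zero_le (q * (2 * n ^ 2 + 3 * n))]

/-- Large symplectic types. -/
theorem big_arith {q n s : ℕ} (hq : q.Prime) (hn : 1 ≤ n) (he : 5 ≤ q ^ n)
    (hs : s ≤ q ^ (n * (2 * n + 1))) (h8 : q = 2 → n = 3 → s ≤ 483840) :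
    10 * ((q ^ n) ^ 2 * s + 1) ≤ 177 * 11 ^ (q ^ n - 2) := by
  by_cases h : q = 2 ∧ n = 3
  · obtain ⟨rfl, rfl⟩ := h
    have := h8 rfl rfl
    norm_num; omega
  suffices hP : q ^ (2 * n ^ 2 + 3 * n) ≤ 8 * 11 ^ (q ^ n - 2) by
    have h1 : (q ^ n) ^ 2 * s ≤ q ^ (2 * n ^ 2 + 3 * n) := by
      rw [show 2 * n ^ 2 + 3 * n = n * 2 + n * (2 * n + 1) by ring, pow_add, pow_mul]
      exact Nat.mul_le_mul_left _ hs
    have : 1 ≤ 11 ^ (q ^ n - 2) := Nat.one_le_pow _ _ (by norm_num)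
    omega
  rcases hq.two_le.eq_or_lt with rfl | hq3
  · have hn4 : 4 ≤ n := by
      by_contra hc
      interval_cases n <;> simp_all
    refine le_trans ?_ (Nat.le_mul_of_pos_left _ (by norm_num))
    refine (Nat.pow_le_pow_iff_left (n := 3) (by norm_num)).1 ?_
    calc (2 ^ (2 * n ^ 2 + 3 * n)) ^ 3 = 2 ^ (3 * (2 * n ^ 2 + 3 * n)) := by rw [← pow_mul, mul_comm]
      _ ≤ 2 ^ (10 * (2 ^ n - 2)) := Nat.pow_le_pow_right (by norm_num) (two_exp_arith hn4)
      _ = (2 ^ 10) ^ (2 ^ n - 2) := pow_mul _ _ _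
      _ ≤ (11 ^ 3) ^ (2 ^ n - 2) := Nat.pow_le_pow_left (by norm_num) _
      _ = _ := by rw [← pow_mul, ← pow_mul, mul_comm]
  by_cases hsmall : n = 1 ∧ q < 12
  · obtain ⟨rfl, hq12⟩ := hsmall
    rw [pow_one] at he ⊢
    interval_cases q <;> first | (norm_num; done) | (revert hq; norm_num)
  refine le_trans ?_ (Nat.le_mul_of_pos_left _ (by norm_num))
  refine (Nat.pow_le_pow_iff_left (n := 3) (by norm_num)).1 ?_
  have hexp : q * (2 * n ^ 2 + 3 * n) ≤ 6 * (q ^ n - 2) := by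
    rcases hn.eq_or_lt with rfl | hn2
    · rw [pow_one]; norm_num; omega
    · have := odd_exp_arith (q := q) (by omega) hn2
      omega
  calc (q ^ (2 * n ^ 2 + 3 * n)) ^ 3 = (q ^ 3) ^ (2 * n ^ 2 + 3 * n) := by rw [← pow_mul, ← pow_mul, mul_comm]
    _ ≤ (3 ^ q) ^ (2 * n ^ 2 + 3 * n) := Nat.pow_le_pow_left (cube_le_three_pow (by omega)) _
    _ ≤ 3 ^ (6 * (q ^ n - 2)) := by rw [← pow_mul]; exact Nat.pow_le_pow_right (by norm_num) hexp
    _ = ((3 ^ 2) ^ (q ^ n - 2)) ^ 3 := by rw [← pow_mul, ← pow_mul]; congr 1; ring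
    _ ≤ (11 ^ (q ^ n - 2)) ^ 3 := Nat.pow_le_pow_left (Nat.pow_le_pow_left (by norm_num) _) 3

theorem four_cases {q n : ℕ} (hq : q.Prime) (hn : 1 ≤ n) :
    (q = 2 ∧ n = 1) ∨ (q = 3 ∧ n = 1) ∨ (q = 2 ∧ n = 2) ∨ 5 ≤ q ^ n := by
  rcases Nat.lt_or_ge (q ^ n) 5 with h | h
  · have h2 : 2 ≤ q := hq.two_le
    have h1 : q ≤ q ^ n := Nat.le_self_pow (by omega) q
    have hn3 : n ≤ 2 := by
      by_contra hc
      have : 2 ^ 3 ≤ q ^ n := (Nat.pow_le_pow_left h2 3).trans (Nat.pow_le_pow_right (by omega) (by omega))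
      omega
    have hq4 : q ≤ 4 := by omega
    interval_cases q <;> interval_cases n <;> first | (norm_num; done) | (revert hq; norm_num; done) | (revert h; norm_num)
  · tauto

/-- One-dimensional multiplicity. -/
theorem center_arith {q n s : ℕ} (hq : q.Prime) (hn : 1 ≤ n) (hne : ¬ (q = 2 ∧ n = 1))
    (hs : s ≤ q ^ (n * (2 * n + 1))) (h4 : q = 2 → n = 2 → s ≤ 144) (h8 : q = 2 → n = 3 → s ≤ 483840)
    (h3 : q = 3 → n = 1 → s ≤ 24) :
    ((((q ^ n) ^ 2 * s : ℕ) : ℚ) + 1) / 3 ≤ gB (q ^ n) := by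
  rcases four_cases hq hn with h | ⟨rfl, rfl⟩ | ⟨rfl, rfl⟩ | h
  · exact absurd h hne
  · have : (s : ℚ) ≤ 24 := by exact_mod_cast h3 rfl rfl
    norm_num [gB]; linarith
  · have : (s : ℚ) ≤ 144 := by exact_mod_cast h4 rfl rfl
    norm_num [gB]; linarith
  · refine le_gB h ?_
    have := big_arith hq hn h hs h8
    have h' : (10 : ℚ) * ((((q ^ n) ^ 2 * s : ℕ) : ℚ) + 1) ≤ 177 * 11 ^ (q ^ n - 2) := by exact_mod_cast this
    linarith

/-- Higher multiplicity. -/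
theorem mult_arith {q n m s : ℕ} (hq : q.Prime) (hn : 1 ≤ n) (hm : 2 ≤ m)
    (hs : s ≤ q ^ (n * (2 * n + 1))) (h2 : q = 2 → n = 1 → s ≤ 6) (h4 : q = 2 → n = 2 → s ≤ 144)
    (h8 : q = 2 → n = 3 → s ≤ 483840) (h3 : q = 3 → n = 1 → s ≤ 24) :
    (s : ℚ) ^ 2 * q * gB m ≤ gB (q ^ n * m) := by
  have hgm := gB_le hm
  rcases four_cases hq hn with ⟨rfl, rfl⟩ | ⟨rfl, rfl⟩ | ⟨rfl, rfl⟩ | he
  · have hs6 : (s : ℚ) ^ 2 ≤ 36 := by
      have : (s : ℚ) ≤ 6 := by exact_mod_cast h2 rfl rfl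
      nlinarith [(Nat.cast_nonneg s : (0 : ℚ) ≤ s)]
    rcases (by omega : m = 2 ∨ 3 ≤ m) with rfl | hm3
    · norm_num [gB]; linarith
    refine le_gB (by norm_num; omega) ?_
    rw [show 2 ^ 1 * m - 2 = (m - 2) + m by omega, pow_add]
    have h0 : (0 : ℚ) < 11 ^ (m - 2) := by positivity
    have : (1331 : ℚ) ≤ 11 ^ m := by
      calc (1331 : ℚ) = 11 ^ 3 := by norm_num
        _ ≤ 11 ^ m := pow_le_pow_right₀ (by norm_num) hm3
    push_cast
    calc (s : ℚ) ^ 2 * 2 * gB m ≤ 36 * 2 * (8 * 11 ^ (m - 2)) :=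
          mul_le_mul (by linarith) hgm (gB_pos m).le (by norm_num)
      _ ≤ _ := by nlinarith
  · have hs6 : (s : ℚ) ^ 2 ≤ 576 := by
      have : (s : ℚ) ≤ 24 := by exact_mod_cast h3 rfl rfl
      nlinarith [(Nat.cast_nonneg s : (0 : ℚ) ≤ s)]
    refine le_gB (by norm_num; omega) ?_
    rw [show 3 ^ 1 * m - 2 = (m - 2) + 2 * m by omega, pow_add]
    have h0 : (0 : ℚ) < 11 ^ (m - 2) := by positivity
    have : (14641 : ℚ) ≤ 11 ^ (2 * m) := by
      calc (14641 : ℚ) = 11 ^ 4 := by norm_num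
        _ ≤ 11 ^ (2 * m) := pow_le_pow_right₀ (by norm_num) (by omega)
    push_cast
    calc (s : ℚ) ^ 2 * 3 * gB m ≤ 576 * 3 * (8 * 11 ^ (m - 2)) :=
          mul_le_mul (by linarith) hgm (gB_pos m).le (by norm_num)
      _ ≤ _ := by nlinarith
  · have hs6 : (s : ℚ) ^ 2 ≤ 20736 := by
      have : (s : ℚ) ≤ 144 := by exact_mod_cast h4 rfl rfl
      nlinarith [(Nat.cast_nonneg s : (0 : ℚ) ≤ s)]
    refine le_gB (by norm_num; omega) ?_
    rw [show 2 ^ 2 * m - 2 = (m - 2) + 3 * m by omega, pow_add]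
    have h0 : (0 : ℚ) < 11 ^ (m - 2) := by positivity
    have : (1771561 : ℚ) ≤ 11 ^ (3 * m) := by
      calc (1771561 : ℚ) = 11 ^ 6 := by norm_num
        _ ≤ 11 ^ (3 * m) := pow_le_pow_right₀ (by norm_num) (by omega)
    push_cast
    calc (s : ℚ) ^ 2 * 2 * gB m ≤ 20736 * 2 * (8 * 11 ^ (m - 2)) :=
          mul_le_mul (by linarith) hgm (gB_pos m).le (by norm_num)
      _ ≤ _ := by nlinarith
  · have hb := big_arith hq hn he hs h8
    obtain ⟨e, hee⟩ : ∃ e, q ^ n = e + 2 := ⟨q ^ n - 2, by omega⟩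
    have hqe : (q : ℚ) ≤ ((q ^ n : ℕ) : ℚ) := Nat.cast_le.2 (Nat.le_self_pow (by omega) q)
    rw [hee, Nat.add_sub_cancel] at hb
    rw [hee] at hqe ⊢
    have hb' : (10 : ℚ) * (((e + 2 : ℕ) : ℚ) ^ 2 * s + 1) ≤ 177 * 11 ^ e := by exact_mod_cast hb
    refine le_gB (by nlinarith) ?_
    rw [show (e + 2) * m - 2 = (m - 2) + (2 * e + 2) + (e + 1 - 0) * (m - 2) + 0 by
      obtain ⟨c, rfl⟩ : ∃ c, m = c + 2 := ⟨m - 2, by omega⟩
      rw [Nat.add_sub_cancel, Nat.sub_zero]; ring_nf; omega, pow_add, pow_add, pow_add, pow_zero, mul_one]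
    have h0 : (0 : ℚ) < 11 ^ (m - 2) := by positivity
    have h1 : (1 : ℚ) ≤ 11 ^ ((e + 1 - 0) * (m - 2)) := one_le_pow₀ (by norm_num)
    have hE : (5 : ℚ) ≤ ((e + 2 : ℕ) : ℚ) := by exact_mod_cast (hee ▸ he)
    have he0 : (0 : ℚ) < 11 ^ e := by positivity
    set E := ((e + 2 : ℕ) : ℚ)
    have hse : E ^ 2 * s ≤ 177 / 10 * 11 ^ e := by linarith
    have key : (s : ℚ) ^ 2 * q * 8 ≤ 59 / 10 * 11 ^ (2 * e + 2) := by
      have h3 : (s : ℚ) ^ 2 * E * 125 ≤ (177 / 10 * 11 ^ e) ^ 2 := by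
        refine le_trans ?_ (pow_le_pow_left₀ (by positivity) hse 2)
        have : 125 * E ≤ E ^ 4 := by
          nlinarith [mul_le_mul (mul_le_mul hE hE (by norm_num) (by linarith)) hE (by norm_num) (by positivity)]
        nlinarith [mul_le_mul_of_nonneg_left this (sq_nonneg (s : ℚ))]
      rw [mul_comm 2 e, pow_add, pow_mul]
      norm_num
      nlinarith [mul_le_mul_of_nonneg_left hqe (sq_nonneg (s : ℚ))]
    calc (s : ℚ) ^ 2 * q * gB m ≤ (s : ℚ) ^ 2 * q * (8 * 11 ^ (m - 2)) :=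
          mul_le_mul_of_nonneg_left hgm (by positivity)
      _ = ((s : ℚ) ^ 2 * q * 8) * 11 ^ (m - 2) := by ring
      _ ≤ (59 / 10 * 11 ^ (2 * e + 2)) * 11 ^ (m - 2) := mul_le_mul_of_nonneg_right key h0.le
      _ ≤ (59 / 10 * 11 ^ (2 * e + 2)) * 11 ^ (m - 2) * 11 ^ ((e + 1 - 0) * (m - 2)) :=
          le_mul_of_one_le_right (by positivity) h1
      _ = _ := by ring

end CfsgLib.SolvLinK
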