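import Mathlib.GroupTheory.Coset.Card
import Mathlib.GroupTheory.GroupAction.Quotient
import Mathlib.Algebra.Group.End
import Mathlib.LinearAlgebra.LinearIndependent.Basic
import Mathlib.LinearAlgebra.Dimension.Constructions
import Mathlib.LinearAlgebra.Dimension.Finite
import Mathlib.GroupTheory.PGroup
import Mathlib.RingTheory.Noetherian.Basic

/-!
The number of isometries of a non-degenerate pairing on a group of prime power order.
-/

set_option autoImplicit false
set_option linter.style.haveILetI false
set_option linter.unusedSectionVars false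

namespace CfsgLib.SolvLinK

open Module

variable {k : Type*} [Field k]

theorem finite_monoidHom_units (Q : Type*) [Group Q] [Finite Q] : Finite (Q →* kˣ) := by
  haveI : Finite (Q →* k) := (linearIndependent_monoidHom Q k).finite_of_isNoetherian
  exact Finite.of_injective (fun f : Q →* kˣ => (Units.coeHom k).comp f)
    fun f g h => MonoidHom.ext fun x => Units.ext (DFunLike.congr_fun h x)

/-- A finite group has at most as many linear characters as elements. -/
theorem card_monoidHom_units_le (Q : Type*) [Group Q] [Finite Q] : Nat.card (Q →* kˣ) ≤ Nat.card Q := by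
  haveI := Fintype.ofFinite Q
  haveI : Finite (Q →* k) := (linearIndependent_monoidHom Q k).finite_of_isNoetherian
  haveI := Fintype.ofFinite (Q →* k)
  refine (Nat.card_le_card_of_injective (fun f : Q →* kˣ => (Units.coeHom k).comp f)
    fun f g h => MonoidHom.ext fun x => Units.ext (DFunLike.congr_fun h x)).trans ?_
  rw [Nat.card_eq_fintype_card, Nat.card_eq_fintype_card]
  exact (linearIndependent_monoidHom Q k).fintype_card_le_finrank.trans (Module.finrank_pi k).le

variable {V : Type*} [CommGroup V] [Finite V] (β : V →* V →* kˣ)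

/-- The isometries commuting with `a` that fix a subgroup pointwise. -/
def isoFix (a : MulAut V) (H : Subgroup V) : Subgroup (MulAut V) where
  carrier := {φ | (∀ x y, β (φ x) (φ y) = β x y) ∧ Commute φ a ∧ ∀ h ∈ H, φ h = h}
  one_mem' := ⟨fun _ _ => rfl, Commute.one_left a, fun _ _ => rfl⟩
  mul_mem' := fun {φ ψ} hφ hψ => ⟨fun x y => by rw [MulAut.mul_apply, MulAut.mul_apply, hφ.1, hψ.1],
    hφ.2.1.mul_left hψ.2.1, fun h hh => by rw [MulAut.mul_apply, hψ.2.2 h hh, hφ.2.2 h hh]⟩
  inv_mem' := fun {φ} hφ => ⟨fun x y => by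
      rw [← hφ.1 (φ⁻¹ x) (φ⁻¹ y), MulAut.apply_inv_self, MulAut.apply_inv_self],
    hφ.2.1.inv_left, fun h hh => by conv_lhs => rw [← hφ.2.2 h hh, MulAut.inv_apply_self]⟩

/-- The elements paired trivially with a subgroup. -/
def perp (H : Subgroup V) : Subgroup V where
  carrier := {x | ∀ h ∈ H, β x h = 1}
  one_mem' := fun h _ => by rw [map_one]; rfl
  mul_mem' := fun {x y} hx hy h hh => by rw [map_mul, MonoidHom.mul_apply, hx h hh, hy h hh, mul_one]
  inv_mem' := fun {x} hx h hh => by rw [map_inv, MonoidHom.inv_apply, hx h hh, inv_one]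

theorem card_mul_perp_le (hnd : ∀ y, (∀ x, β x y = 1) → y = 1) (H : Subgroup V) :
    Nat.card H * Nat.card (perp β H) ≤ Nat.card V := by
  rw [Subgroup.card_eq_card_quotient_mul_card_subgroup (perp β H)]
  refine Nat.mul_le_mul_right _ ?_
  refine le_trans ?_ (card_monoidHom_units_le (k := k) (V ⧸ perp β H))
  haveI := finite_monoidHom_units (k := k) (V ⧸ perp β H)
  refine Nat.card_le_card_of_injective
    (fun h : H => QuotientGroup.lift (perp β H) (β.flip (h : V)) fun x hx => MonoidHom.mem_ker.2 (hx h h.2))
    fun h h' e => ?_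
  have h1 : (h : V) * (h' : V)⁻¹ = 1 := hnd _ fun x => by
    have h2 : β x (h : V) = β x (h' : V) := DFunLike.congr_fun e (x : V ⧸ perp β H)
    rw [map_mul, map_inv, h2, mul_inv_cancel]
  exact Subtype.ext (mul_inv_eq_one.1 h1)

theorem card_isoFix_le {q n : ℕ} (hq : q.Prime) (hV : Nat.card V = q ^ n)
    (hnd : ∀ y, (∀ x, β x y = 1) → y = 1) (a : MulAut V) (J : Finset ℕ)
    (hJ : ∀ (H : Subgroup V) (j : ℕ), (∀ h ∈ H, a h ∈ H) → Nat.card H = q ^ j → j ∈ J) :
    ∀ (m j : ℕ) (H : Subgroup V), n - j = m → (∀ h ∈ H, a h ∈ H) → Nat.card H = q ^ j →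
      Nat.card (isoFix β a H) ≤
        ∏ i ∈ (Finset.Ico j n).filter (· ∈ J), min (q ^ n - q ^ i) (q ^ (n - i)) := by
  intro m
  induction m using Nat.strong_induction_on with
  | _ m ih =>
    intro j H hm hHa hH
    have hjd : j ≤ n := by
      have := Subgroup.card_le_card_group H
      rw [hH, hV] at this
      exact (Nat.pow_le_pow_iff_right hq.one_lt).1 this
    rcases hjd.eq_or_lt with rfl | hlt
    · rw [Finset.Ico_self, Finset.filter_empty, Finset.prod_empty]
      have hHt : H = ⊤ := Subgroup.eq_top_of_card_eq H (hH.trans hV.symm)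
      have : Subsingleton (isoFix β a H) := ⟨fun φ ψ => Subtype.ext (MulEquiv.ext fun x => by
        rw [φ.2.2.2 x (hHt ▸ trivial), ψ.2.2.2 x (hHt ▸ trivial)])⟩
      exact Finite.card_le_one_iff_subsingleton.2 this
    · have hpow := Nat.pow_lt_pow_right hq.one_lt hlt
      obtain ⟨v, hv⟩ : ∃ v, v ∉ H := by
        by_contra hc
        push Not at hc
        have : H = ⊤ := eq_top_iff.2 fun x _ => hc x
        rw [this, Subgroup.card_top, hV] at hH
        omega
      let K := Subgroup.closure ((H : Set V) ∪ Set.range fun i : ℤ => (a ^ i) v)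
      have hKv : v ∈ K := Subgroup.subset_closure (Or.inr ⟨0, by simp⟩)
      have hHK : H ≤ K := fun x hx => Subgroup.subset_closure (Or.inl hx)
      have hKa : ∀ h ∈ K, a h ∈ K := by
        intro h hh
        induction hh using Subgroup.closure_induction with
        | mem x hx =>
          rcases hx with hx | ⟨i, rfl⟩
          · exact hHK (hHa x hx)
          · refine Subgroup.subset_closure (Or.inr ⟨1 + i, ?_⟩)
            show (a ^ (1 + i)) v = a ((a ^ i) v)
            rw [zpow_add, zpow_one]; rfl
        | one => rw [map_one]; exact K.one_mem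
        | mul x y _ _ hx hy => rw [map_mul]; exact K.mul_mem hx hy
        | inv x _ hx => rw [map_inv]; exact K.inv_mem hx
      obtain ⟨j', hj', hK⟩ := (Nat.dvd_prime_pow hq).1 (hV ▸ Subgroup.card_subgroup_dvd_card K)
      have hjj' : j < j' := by
        refine (Nat.pow_lt_pow_iff_right hq.one_lt).1 ?_
        rw [← hK, ← hH]
        refine lt_of_le_of_ne (Subgroup.card_le_of_le hHK) fun h => hv ?_
        have := Subgroup.eq_of_le_of_card_ge hHK h.ge
        rwa [this]
      have hfix : (MulAction.stabilizer (isoFix β a H) v).map (isoFix β a H).subtype ≤ isoFix β a K := by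
        rintro _ ⟨φ, hφ, rfl⟩
        refine ⟨φ.2.1, φ.2.2.1, fun x hx => ?_⟩
        have hφv : (φ : MulAut V) v = v := hφ
        induction hx using Subgroup.closure_induction with
        | mem x hx =>
          rcases hx with hx | ⟨i, rfl⟩
          · exact φ.2.2.2 x hx
          · show (φ : MulAut V) ((a ^ i) v) = (a ^ i) v
            rw [← MulAut.mul_apply, (φ.2.2.1.zpow_right i).eq, MulAut.mul_apply, hφv]
        | one => rw [map_one]
        | mul x y _ _ hx hy => rw [map_mul, hx, hy]
        | inv x _ hx => rw [map_inv, hx]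
      haveI : Finite (isoFix β a H) := Finite.of_injective (fun φ : isoFix β a H => ((φ : MulAut V) : V → V))
        fun φ ψ e => Subtype.ext (MulEquiv.ext (congrFun e))
      have horb1 : Nat.card (MulAction.orbit (isoFix β a H) v) ≤ q ^ n - q ^ j := by
        rw [Nat.card_coe_set_eq]
        refine le_trans (Set.ncard_le_ncard (t := (H : Set V)ᶜ) ?_) ?_
        · rintro _ ⟨φ, rfl⟩ hb
          refine hv ?_
          have h1 : (φ : MulAut V) ((φ : MulAut V) v) = (φ : MulAut V) v := φ.2.2.2 _ hb
          rw [← (φ : MulAut V).injective h1]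
          exact hb
        · rw [Set.ncard_compl, hV, ← Nat.card_coe_set_eq]
          exact le_of_eq (congrArg (q ^ n - ·) hH)
      have horb2 : Nat.card (MulAction.orbit (isoFix β a H) v) ≤ q ^ (n - j) := by
        have hp : Nat.card (perp β H) ≤ q ^ (n - j) := by
          refine Nat.le_of_mul_le_mul_left ?_ (pow_pos hq.pos j)
          rw [← pow_add, Nat.add_sub_cancel' hjd]
          conv_lhs => rw [← hH]
          rw [← hV]
          exact card_mul_perp_le β hnd H
        refine le_trans ?_ hp
        refine Nat.card_le_card_of_injective (fun b : MulAction.orbit (isoFix β a H) v =>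
          (⟨(b : V) * v⁻¹, ?_⟩ : perp β H)) fun b b' e => Subtype.ext (mul_right_cancel (congrArg Subtype.val e))
        obtain ⟨φ, hφ⟩ := b.2
        intro h hh
        have h1 := φ.2.1 v h
        rw [φ.2.2.2 h hh] at h1
        rw [map_mul, map_inv, MonoidHom.mul_apply, MonoidHom.inv_apply, ← hφ]
        exact mul_inv_eq_one.2 h1
      have hjJ := hJ H j hHa hH
      calc Nat.card (isoFix β a H)
          = Nat.card (MulAction.orbit (isoFix β a H) v) *
              Nat.card (MulAction.stabilizer (isoFix β a H) v) := by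
            rw [← Nat.card_prod]
            exact Nat.card_congr (MulAction.orbitProdStabilizerEquivGroup (isoFix β a H) v).symm
        _ ≤ min (q ^ n - q ^ j) (q ^ (n - j)) *
              ∏ i ∈ (Finset.Ico j' n).filter (· ∈ J), min (q ^ n - q ^ i) (q ^ (n - i)) := by
            refine Nat.mul_le_mul (le_min horb1 horb2) ((?_ : _ ≤ Nat.card (isoFix β a K)).trans
              (ih _ (by omega) j' K rfl hKa hK))
            refine le_trans (le_of_eq ?_) (Subgroup.card_le_of_le hfix)
            exact Nat.card_congr (Subgroup.equivMapOfInjective _ _ (Subgroup.subtype_injective _)).toEquiv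
        _ ≤ _ := by
            rw [← Finset.insert_Ico_succ_left_eq_Ico hlt, Finset.filter_insert, if_pos hjJ,
              Finset.prod_insert (by simp)]
            refine Nat.mul_le_mul_left _ (Finset.prod_le_prod_of_subset_of_one_le'
              (Finset.filter_subset_filter _ (Finset.Ico_subset_Ico hjj' le_rfl)) fun i hi _ => ?_)
            rw [Finset.mem_filter, Finset.mem_Ico] at hi
            have := Nat.pow_lt_pow_right hq.one_lt hi.1.2
            have := pow_pos hq.pos (n - i)
            omega

/-- The isometries commuting with `a`. -/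
theorem card_isometry_le {q n : ℕ} (hq : q.Prime) (hV : Nat.card V = q ^ n)
    (hnd : ∀ y, (∀ x, β x y = 1) → y = 1) (a : MulAut V) (J : Finset ℕ)
    (hJ : ∀ (H : Subgroup V) (j : ℕ), (∀ h ∈ H, a h ∈ H) → Nat.card H = q ^ j → j ∈ J)
    (S : Subgroup (MulAut V)) (hS : ∀ φ ∈ S, ∀ x y, β (φ x) (φ y) = β x y)
    (hSa : ∀ φ ∈ S, Commute φ a) :
    Nat.card S ≤ ∏ i ∈ (Finset.range n).filter (· ∈ J), min (q ^ n - q ^ i) (q ^ (n - i)) := by
  haveI : Finite (MulAut V) := Finite.of_injective (fun φ : MulAut V => (φ : V → V)) DFunLike.coe_injective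
  rw [Finset.range_eq_Ico]
  refine le_trans ?_ (card_isoFix_le β hq hV hnd a J hJ _ 0 ⊥ rfl (fun h hh => by
    rw [Subgroup.mem_bot] at hh ⊢; rw [hh, map_one]) (by rw [Subgroup.card_bot, pow_zero]))
  refine Subgroup.card_le_of_le fun φ hφ => ⟨hS φ hφ, hSa φ hφ, fun h hh => ?_⟩
  rw [Subgroup.mem_bot] at hh
  rw [hh, map_one]

end CfsgLib.SolvLinK
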