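import Mathlib.Algebra.Group.End
import Mathlib.GroupTheory.GroupAction.Quotient
import Mathlib.GroupTheory.PGroup
import Mathlib.Algebra.BigOperators.Intervals
import Mathlib.Tactic.Ring

/-!
The number of automorphisms of a group of prime power order.
-/

set_option autoImplicit false
set_option linter.style.haveILetI false

namespace CfsgLib.SolvLinK

variable {A : Type*} [Group A] [Finite A]

/-- The automorphisms fixing a subgroup pointwise. -/
def pointwiseFixer (H : Subgroup A) : Subgroup (MulAut A) where
  carrier := {φ | ∀ h ∈ H, φ h = h}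
  one_mem' := fun h _ => rfl
  mul_mem' := fun {φ ψ} hφ hψ h hh => by rw [MulAut.mul_apply, hψ h hh, hφ h hh]
  inv_mem' := fun {φ} hφ h hh => by conv_lhs => rw [← hφ h hh, MulAut.inv_apply_self]

theorem mem_pointwiseFixer {H : Subgroup A} {φ : MulAut A} :
    φ ∈ pointwiseFixer H ↔ ∀ h ∈ H, φ h = h := Iff.rfl

theorem card_pointwiseFixer_le {q d : ℕ} (hq : q.Prime) (hA : Nat.card A = q ^ d) :
    ∀ (n j : ℕ) (H : Subgroup A), d - j = n → Nat.card H = q ^ j →
      Nat.card (pointwiseFixer H) ≤ ∏ i ∈ Finset.Ico j d, (q ^ d - q ^ i) := by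
  intro n
  induction n using Nat.strong_induction_on with
  | _ n ih =>
    intro j H hn hH
    have hjd : j ≤ d := by
      have := Subgroup.card_le_card_group H
      rw [hH, hA] at this
      exact (Nat.pow_le_pow_iff_right hq.one_lt).1 this
    rcases hjd.eq_or_lt with rfl | hlt
    · rw [Finset.Ico_self, Finset.prod_empty]
      have hsub : Subsingleton (pointwiseFixer H) := by
        have htop : H = ⊤ := Subgroup.eq_top_of_card_eq H (hH.trans hA.symm)
        exact ⟨fun φ ψ => Subtype.ext (MulEquiv.ext fun a => by
          rw [φ.2 a (htop ▸ Subgroup.mem_top a), ψ.2 a (htop ▸ Subgroup.mem_top a)])⟩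
      exact Finite.card_le_one_iff_subsingleton.2 hsub
    · obtain ⟨a, ha⟩ : ∃ a, a ∉ H := by
        by_contra hc
        push Not at hc
        have : H = ⊤ := eq_top_iff.2 fun a _ => hc a
        rw [this, Subgroup.card_top, hA] at hH
        exact hlt.ne ((Nat.pow_right_injective hq.two_le) hH).symm
      let K := H ⊔ Subgroup.zpowers a
      have haK : a ∈ K := (le_sup_right : Subgroup.zpowers a ≤ K) (Subgroup.mem_zpowers a)
      obtain ⟨j', hj', hK⟩ : ∃ j' ≤ d, Nat.card K = q ^ j' :=
        (Nat.dvd_prime_pow hq).1 (hA ▸ Subgroup.card_subgroup_dvd_card K)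
      have hjj' : j < j' := by
        refine (Nat.pow_lt_pow_iff_right hq.one_lt).1 ?_
        rw [← hK, ← hH]
        refine lt_of_le_of_ne (Subgroup.card_le_of_le le_sup_left) fun e => ha ?_
        rw [Subgroup.eq_of_le_of_card_ge le_sup_left e.ge]
        exact haK
      have hfix : (MulAction.stabilizer (pointwiseFixer H) a).map (pointwiseFixer H).subtype ≤ pointwiseFixer K := by
        rintro _ ⟨φ, hφ, rfl⟩ k hk
        let E : Subgroup A :=
          { carrier := {x | (φ : MulAut A) x = x}
            one_mem' := map_one _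
            mul_mem' := fun {x y} hx hy => by
              show (φ : MulAut A) (x * y) = x * y
              rw [map_mul]; exact congrArg₂ (· * ·) hx hy
            inv_mem' := fun {x} hx => by
              show (φ : MulAut A) x⁻¹ = x⁻¹
              rw [map_inv]; exact congrArg Inv.inv hx }
        have : K ≤ E := sup_le (fun h hh => φ.2 h hh) (Subgroup.zpowers_le.2 hφ)
        exact this hk
      haveI : Finite (pointwiseFixer H) := inferInstance
      have horb : Nat.card (MulAction.orbit (pointwiseFixer H) a) ≤ q ^ d - q ^ j := by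
        classical
        have hs : MulAction.orbit (pointwiseFixer H) a ⊆ (H : Set A)ᶜ := by
          rintro _ ⟨φ, rfl⟩ hm
          refine ha ?_
          have h1 : (φ : MulAut A) ((φ : MulAut A) a) = (φ : MulAut A) a := φ.2 _ hm
          rw [← (φ : MulAut A).injective h1]
          exact hm
        rw [Nat.card_coe_set_eq]
        refine (Set.ncard_le_ncard hs).trans ?_
        rw [Set.ncard_compl, hA, ← Nat.card_coe_set_eq]
        exact le_of_eq (congrArg (q ^ d - ·) hH)
      calc Nat.card (pointwiseFixer H)
          = Nat.card (MulAction.orbit (pointwiseFixer H) a) *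
              Nat.card (MulAction.stabilizer (pointwiseFixer H) a) := by
            rw [← Nat.card_prod]
            exact Nat.card_congr (MulAction.orbitProdStabilizerEquivGroup (pointwiseFixer H) a).symm
        _ ≤ (q ^ d - q ^ j) * ∏ i ∈ Finset.Ico j' d, (q ^ d - q ^ i) := by
            refine Nat.mul_le_mul horb ((?_ : _ ≤ Nat.card (pointwiseFixer K)).trans
              (ih _ (by omega) j' K rfl hK))
            refine le_trans (le_of_eq ?_) (Subgroup.card_le_of_le hfix)
            exact Nat.card_congr (Subgroup.equivMapOfInjective _ _ (Subgroup.subtype_injective _)).toEquiv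
        _ ≤ ∏ i ∈ Finset.Ico j d, (q ^ d - q ^ i) := by
            rw [Finset.prod_eq_prod_Ico_succ_bot hlt]
            refine Nat.mul_le_mul_left _ (Finset.prod_le_prod_of_subset_of_one_le'
              (Finset.Ico_subset_Ico hjj' le_rfl) fun i hi _ => ?_)
            have := Nat.pow_lt_pow_right hq.one_lt (Finset.mem_Ico.1 hi).2
            omega

/-- The automorphism group of a group of order `q ^ d`. -/
theorem card_mulAut_le {q d : ℕ} (hq : q.Prime) (hA : Nat.card A = q ^ d) :
    Nat.card (MulAut A) ≤ ∏ i ∈ Finset.range d, (q ^ d - q ^ i) := by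
  rw [Finset.range_eq_Ico]
  refine le_trans (le_of_eq ?_) (card_pointwiseFixer_le hq hA _ 0 ⊥ rfl (by rw [Subgroup.card_bot, pow_zero]))
  have : pointwiseFixer (⊥ : Subgroup A) = ⊤ := eq_top_iff.2 fun φ _ h hh => by
    rw [Subgroup.mem_bot] at hh
    rw [hh, map_one]
  rw [this, Subgroup.card_top]

end CfsgLib.SolvLinK
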