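import Cfsg.Agent.SolvLinK.Isometry
import Cfsg.Agent.SolvLinK.AutBound
import Cfsg.Agent.Solvable.Basics
import Mathlib.Algebra.Group.Subgroup.Pointwise
import Mathlib.GroupTheory.Perm.Cycle.Type
import Mathlib.Data.Finite.Perm
import Mathlib.Tactic.NormNum.Prime

/-!
Solvable irreducible groups of isometries in characteristic two, in dimensions two, four and six.
-/

set_option autoImplicit false
set_option linter.style.haveILetI false
set_option linter.unusedSectionVars false

open scoped Pointwise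

namespace CfsgLib.SolvLinK

variable {V : Type*} [CommGroup V] [Finite V] (S : Subgroup (MulAut V))

theorem finite_mulAut : Finite (MulAut V) :=
  Finite.of_injective (fun φ : MulAut V => (φ : V → V)) DFunLike.coe_injective

theorem sub_apply (s : S) (x : V) : s • x = (s : MulAut V) x := rfl

/-- Only the trivial invariant subgroups. -/
def IrrAut : Prop := ∀ U : Subgroup V, (∀ φ ∈ S, ∀ u ∈ U, φ u ∈ U) → U = ⊥ ∨ U = ⊤

/-- The common fixed points. -/
def fixS (L : Subgroup S) : Subgroup V where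
  carrier := {x | ∀ l ∈ L, l • x = x}
  one_mem' := fun l _ => smul_one l
  mul_mem' := fun {x y} hx hy l hl => by rw [smul_mul', hx l hl, hy l hl]
  inv_mem' := fun {x} hx l hl => by rw [smul_inv', hx l hl]

variable {S}

theorem mem_fixS {L : Subgroup S} {x : V} : x ∈ fixS S L ↔ ∀ l ∈ L, l • x = x := Iff.rfl

theorem smul_mem_fixS {L : Subgroup S} (g : S) (hg : ∀ l ∈ L, g⁻¹ * l * g ∈ L) {x : V}
    (hx : x ∈ fixS S L) : g • x ∈ fixS S L := fun l hl => by
  have := hx _ (hg l hl)
  conv_rhs => rw [← this]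
  rw [mul_smul, mul_smul, smul_inv_smul]

theorem fixS_normal (hirr : IrrAut S) {L : Subgroup S} [hL : L.Normal] (hL0 : L ≠ ⊥) :
    fixS S L = ⊥ := by
  refine (hirr _ fun φ hφ u hu => smul_mem_fixS ⟨φ, hφ⟩ (fun l hl => ?_) hu).resolve_right fun ht => hL0 ?_
  · simpa using hL.conj_mem l hl (⟨φ, hφ⟩ : S)⁻¹
  · refine eq_bot_iff.2 fun l hl => (Subgroup.mem_bot).2 (Subtype.ext (MulEquiv.ext fun x => ?_))
    exact (ht.ge (Subgroup.mem_top x) : x ∈ fixS S L) l hl

/-- A normal subgroup of two power order is trivial. -/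
theorem not_two_group (hirr : IrrAut S) {n : ℕ} (hn : n ≠ 0) (hV : Nat.card V = 2 ^ n)
    {L : Subgroup S} [L.Normal] (hL0 : L ≠ ⊥) : ¬ IsPGroup 2 L := by
  intro hP
  haveI : Fact (Nat.Prime 2) := ⟨Nat.prime_two⟩
  have h := hP.card_modEq_card_fixedPoints V
  have h1 : (MulAction.fixedPoints L V : Set V) = (fixS S L : Set V) := Set.ext fun x =>
    ⟨fun hx l hl => hx ⟨l, hl⟩, fun hx l => hx l l.2⟩
  rw [h1, SetLike.coe_sort_coe, fixS_normal hirr hL0, Subgroup.card_bot, hV, Nat.ModEq,
    Nat.pow_mod] at h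
  simp [zero_pow hn] at h

theorem binary_two (hirr : IrrAut S) (hV : Nat.card V = 2 ^ 2) :
    Nat.card S = 3 ∨ Nat.card S = 6 := by
  haveI := finite_mulAut (V := V)
  have h6 : Nat.card S ≤ 6 := (Subgroup.card_le_card_group S).trans
    ((card_mulAut_le Nat.prime_two hV).trans (by simp [Finset.prod_range_succ]))
  have h24 : Nat.card S ∣ 24 := by
    let f : S →* Equiv.Perm V := MulAction.toPermHom S V
    have hf : Function.Injective f := (injective_iff_map_eq_one f).2 fun s hs =>
      Subtype.ext (MulEquiv.ext fun x => DFunLike.congr_fun hs x)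
    have := Subgroup.card_dvd_of_injective f hf
    rwa [Nat.card_perm, hV] at this
  have hne : ∀ i, Nat.card S ≠ 2 ^ i := fun i hi => by
    have h0 : Nat.card S ≠ 1 := fun h1 => by
      obtain ⟨x, hx⟩ := exists_prime_orderOf_dvd_card' (G := V) 2 (by rw [hV]; norm_num)
      have hinv : ∀ φ ∈ S, ∀ u ∈ Subgroup.zpowers x, φ u ∈ Subgroup.zpowers x := fun φ hφ u hu => by
        have : (⟨φ, hφ⟩ : S) = 1 := by
          haveI := Finite.card_le_one_iff_subsingleton.1 h1.le
          exact Subsingleton.elim _ _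
        rw [show φ = 1 from congrArg Subtype.val this]
        exact hu
      rcases hirr _ hinv with h | h
      · have hc := Nat.card_zpowers x
        rw [h, Subgroup.card_bot, hx] at hc
        omega
      · have hc := Nat.card_zpowers x
        rw [h, Subgroup.card_top, hV, hx] at hc
        omega
    refine not_two_group hirr two_ne_zero hV (L := (⊤ : Subgroup S)) ?_ ?_
    · intro h
      exact h0 (by rw [← Subgroup.card_top, h, Subgroup.card_bot])
    · exact IsPGroup.of_card (n := i) (by rw [Subgroup.card_top, hi])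
  have h1 := hne 0
  have h2 := hne 1
  have h4 := hne 2
  have hpos : 0 < Nat.card S := Nat.card_pos
  obtain ⟨c, hc⟩ : ∃ c, Nat.card S = c := ⟨_, rfl⟩
  rw [hc] at h6 h24 h1 h2 h4 hpos ⊢
  interval_cases c <;> simp_all <;> omega

/-- The product of the general linear orders over two elements. -/
theorem binary_decomp {n r t : ℕ} (hn : n = 4 ∨ n = 6) (hr : 2 ≤ r) (ht : 2 ≤ t) (hrt : r * t ≤ n) :
    (∏ i ∈ Finset.range r, (2 ^ r - 2 ^ i)) ^ t * t.factorial ≤ if n = 4 then 144 else 483840 := by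
  have hr3 : r ≤ 3 := by rcases hn with rfl | rfl <;> nlinarith
  have ht3 : t ≤ 3 := by rcases hn with rfl | rfl <;> nlinarith
  interval_cases r <;> interval_cases t <;> rcases hn with rfl | rfl <;>
    simp_all [Finset.prod_range_succ, Nat.factorial]

variable {k : Type*} [Field k]

/-- A solvable irreducible group of isometries on `2 ^ 4` or `2 ^ 6` elements. -/
theorem binary_bound (β : V →* V →* kˣ) (hnd : ∀ y, (∀ x, β x y = 1) → y = 1)
    (hiso : ∀ φ ∈ S, ∀ x y, β (φ x) (φ y) = β x y) (hsol : Group.IsSolvable S) (hirr : IrrAut S)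
    (hexp : ∀ x : V, x ^ 2 = 1) {n : ℕ} (hn : n = 4 ∨ n = 6) (hV : Nat.card V = 2 ^ n) :
    Nat.card S ≤ if n = 4 then 144 else 483840 := by
  classical
  haveI := finite_mulAut (V := V)
  have hn0 : n ≠ 0 := by omega
  rcases eq_or_ne (Nat.card S) 1 with h1 | h1
  · rw [h1]; split_ifs <;> norm_num
  have htop : (⊤ : Subgroup S) ≠ ⊥ := fun h => h1 (by rw [← Subgroup.card_top, h, Subgroup.card_bot])
  haveI : Group.IsSolvable (⊤ : Subgroup S) :=
    Group.isSolvable_of_isSolvable_injective (Subgroup.subtype_injective (⊤ : Subgroup S))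
  obtain ⟨A, hA, hA0, -, hAc, -, ℓ, hℓ, hexpA, hAp⟩ :=
    CfsgLib.Solvable.exists_normal_elementary_le (N := (⊤ : Subgroup S)) htop inferInstance
  haveI := hA
  haveI : Fact ℓ.Prime := ⟨hℓ⟩
  have hℓ2 : ℓ ≠ 2 := fun h => not_two_group hirr hn0 hV hA0 (h ▸ hAp)
  have hodd : Odd ℓ := hℓ.odd_of_ne_two hℓ2
  have hcomm : ∀ a ∈ A, ∀ b ∈ A, a * b = b * a := fun a ha b hb =>
    congrArg Subtype.val (hAc.is_comm.comm ⟨a, ha⟩ ⟨b, hb⟩)
  have hfA : fixS S A = ⊥ := fixS_normal hirr hA0
  have hne : fixS S (⊥ : Subgroup S) ≠ ⊥ := by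
    intro h
    have : fixS S (⊥ : Subgroup S) = ⊤ := eq_top_iff.2 fun x _ l hl => by
      rw [Subgroup.mem_bot] at hl; rw [hl, one_smul]
    rw [this] at h
    have hc := congrArg (fun U : Subgroup V => Nat.card U) h
    simp only [Subgroup.card_top, Subgroup.card_bot, hV] at hc
    exact absurd hc (Nat.one_lt_two_pow hn0).ne'
  obtain ⟨M, hM⟩ := Set.Finite.exists_maximalFor (fun L : Subgroup S => Nat.card L)
    {L : Subgroup S | L ≤ A ∧ fixS S L ≠ ⊥} (Set.toFinite _) ⟨⊥, bot_le, hne⟩
  obtain ⟨hMA, hMU⟩ := hM.1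
  have hbig : ∀ L, L ≤ A → Nat.card M < Nat.card L → fixS S L = ⊥ := fun L hL hlt => by
    by_contra h
    exact (hM.2 ⟨hL, h⟩ hlt.le).not_gt hlt
  -- norms vanish outside `M`
  have hnorm : ∀ c ∈ A, c ∉ M → ∀ x ∈ fixS S M, ∏ i ∈ Finset.range ℓ, c ^ i • x = 1 := by
    intro c hcA hcM x hx
    have hlt : Nat.card M < Nat.card (M ⊔ Subgroup.zpowers c : Subgroup S) :=
      CfsgLib.Solvable.card_lt_of_lt (lt_of_le_of_ne le_sup_left fun h =>
        hcM (h ▸ Subgroup.mem_sup_right (Subgroup.mem_zpowers c)))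
    have h0 := hbig _ (sup_le hMA ((Subgroup.zpowers_le).2 hcA)) hlt
    rw [← Subgroup.mem_bot, ← h0]
    intro l hl
    have hcfix : c • (∏ i ∈ Finset.range ℓ, c ^ i • x) = ∏ i ∈ Finset.range ℓ, c ^ i • x := by
      rw [Finset.smul_prod']
      simp only [← mul_smul, ← pow_succ']
      have e := Finset.prod_range_succ' (fun i => c ^ i • x) ℓ
      rw [Finset.prod_range_succ, hexpA c hcA, pow_zero] at e
      exact (mul_right_cancel e).symm
    have hle : M ⊔ Subgroup.zpowers c ≤ MulAction.stabilizer S (∏ i ∈ Finset.range ℓ, c ^ i • x) := by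
      refine sup_le (fun m hm => ?_) ((Subgroup.zpowers_le).2 hcfix)
      show m • _ = _
      rw [Finset.smul_prod']
      refine Finset.prod_congr rfl fun i _ => ?_
      rw [← mul_smul, hcomm m (hMA hm) _ (A.pow_mem hcA i), mul_smul, hx m hm]
    exact hle hl
  obtain ⟨b, hbA, hbM⟩ : ∃ b ∈ A, b ∉ M := by
    by_contra hc
    push Not at hc
    exact hMU (by rw [le_antisymm hMA hc]; exact hfA)
  have hsup : ∀ a ∈ A, a ∈ M ⊔ Subgroup.zpowers b := by
    intro a haA
    by_contra ha
    refine hMU (eq_bot_iff.2 fun x hx => Subgroup.mem_bot.2 ?_)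
    have h0 : ∏ i ∈ Finset.range ℓ, ∏ j ∈ Finset.range ℓ, (a * b ^ i) ^ j • x = 1 :=
      Finset.prod_eq_one fun i _ => hnorm _ (A.mul_mem haA (A.pow_mem hbA i)) (fun h => ha (by
        rw [show a = (a * b ^ i) * (b ^ i)⁻¹ by group]
        exact Subgroup.mul_mem _ (Subgroup.mem_sup_left h)
          (Subgroup.inv_mem _ (Subgroup.pow_mem _ (Subgroup.mem_sup_right (Subgroup.mem_zpowers b)) _)))) x hx
    rw [Finset.prod_comm, Finset.prod_eq_single 0] at h0
    · simp only [pow_zero, one_smul, Finset.prod_const, Finset.card_range] at h0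
      obtain ⟨e, rfl⟩ := hodd
      rwa [pow_succ, pow_mul, hexp, one_pow, one_mul] at h0
    · intro j hj hj0
      have hcj : ∀ i, (a * b ^ i) ^ j • x = a ^ j • (b ^ j) ^ i • x := fun i => by
        rw [(show Commute a (b ^ i) from hcomm a haA _ (A.pow_mem hbA i)).mul_pow, mul_smul, ← pow_mul,
          ← pow_mul, mul_comm i j]
      simp only [hcj, ← Finset.smul_prod']
      rw [hnorm _ (A.pow_mem hbA j) (fun h => hbM ?_) x hx, smul_one]
      have hjlt := Finset.mem_range.1 hj
      obtain ⟨u, hu⟩ : ∃ u, j * u ≡ 1 [MOD ℓ] := by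
        obtain ⟨u, hu⟩ := Nat.exists_mul_mod_eq_one_of_coprime (k := ℓ) (n := j)
          ((hℓ.coprime_iff_not_dvd.2 fun hd => absurd (Nat.le_of_dvd (by omega) hd) (by omega)).symm) hℓ.one_lt
        exact ⟨u, by rw [Nat.ModEq, hu.2, Nat.one_mod_eq_one.2 hℓ.one_lt.ne']⟩
      have hb1 : b ^ (j * u) = b ^ 1 := pow_eq_pow_iff_modEq.2 (hu.of_dvd (orderOf_dvd_of_pow_eq_one (hexpA b hbA)))
      rw [pow_one, pow_mul] at hb1
      rw [← hb1]
      exact M.pow_mem h u
    · intro h; exact absurd (Finset.mem_range.2 hℓ.pos) h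
  rcases eq_or_ne M ⊥ with rfl | hM0
  · -- a fixed-point-free element of order `ℓ`
    have hAz : A = Subgroup.zpowers b := le_antisymm (fun a ha => by simpa using hsup a ha)
      ((Subgroup.zpowers_le).2 hbA)
    have hob : orderOf b = ℓ := orderOf_eq_prime (hexpA b hbA) fun h => hbM (by rw [h]; exact Subgroup.one_mem _)
    have hcardA : Nat.card A = ℓ ^ 1 := by rw [hAz, Nat.card_zpowers, hob, pow_one]
    have hJ : ∀ (H : Subgroup V) (j : ℕ), (∀ h ∈ H, (b : MulAut V) h ∈ H) → Nat.card H = 2 ^ j →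
        2 ^ j % ℓ = 1 := by
      intro H j hinv hH
      haveI := Fintype.ofFinite H
      let f : Function.End H := fun h => ⟨(b : MulAut V) h, hinv h h.2⟩
      have hf : ∀ (i : ℕ) (h : H), (((f ^ i) h : H) : V) = b ^ i • (h : V) := fun i => by
        induction i with
        | zero => intro h; rw [pow_zero, pow_zero, one_smul]; rfl
        | succ i ih => intro h; rw [pow_succ', pow_succ', mul_smul, ← ih]; rfl
      have hfp : f ^ ℓ ^ 1 = 1 := funext fun h => Subtype.ext (by
        rw [hf, pow_one, hexpA b hbA, one_smul]; rfl)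
      have h := Equiv.Perm.card_fixedPoints_modEq hfp
      have h1 : Fintype.card f.fixedPoints = 1 := by
        rw [Fintype.card_eq_one_iff]
        refine ⟨⟨1, Subtype.ext (map_one _)⟩, fun y => Subtype.ext (Subtype.ext (?_ : ((y : H) : V) = 1))⟩
        rw [← Subgroup.mem_bot, ← hfA]
        intro l hl
        rw [hAz] at hl
        have hle : Subgroup.zpowers b ≤ MulAction.stabilizer S ((y : H) : V) :=
          (Subgroup.zpowers_le).2 (congrArg Subtype.val y.2)
        exact hle hl
      rw [h1, ← Nat.card_eq_fintype_card, hH, Nat.ModEq, Nat.one_mod_eq_one.2 hℓ.one_lt.ne'] at h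
      exact h
    have hℓn : 2 ^ n % ℓ = 1 := hJ ⊤ n (fun _ _ => trivial) (by rw [Subgroup.card_top, hV])
    let σ : S →* MulAut A := MulAut.conjNormal
    have hσ : Nat.card σ.range ≤ ℓ - 1 := by
      refine (Subgroup.card_le_card_group _).trans ((card_mulAut_le hℓ hcardA).trans ?_)
      simp
    have hker : Nat.card σ.ker ≤ ∏ i ∈ (Finset.range n).filter (· ∈ (Finset.range (n + 1)).filter fun i => 2 ^ i % ℓ = 1),
        min (2 ^ n - 2 ^ i) (2 ^ (n - i)) := by
      rw [Nat.card_congr (Subgroup.equivMapOfInjective σ.ker S.subtype (Subgroup.subtype_injective _)).toEquiv]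
      refine card_isometry_le β Nat.prime_two hV hnd (b : MulAut V) _ (fun H j hinv hH => ?_) _
        (fun φ hφ => hiso φ (Subgroup.map_subtype_le _ hφ)) fun φ hφ => ?_
      · refine Finset.mem_filter.2 ⟨Finset.mem_range.2 (Nat.lt_succ_of_le ?_), hJ H j hinv hH⟩
        have := Subgroup.card_le_card_group H
        rw [hH, hV] at this
        exact (Nat.pow_le_pow_iff_right (by norm_num)).1 this
      · obtain ⟨s, hs, rfl⟩ := hφ
        have h1 : s * b * s⁻¹ = b := by
          rw [← MulAut.conjNormal_apply s ⟨b, hbA⟩]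
          exact congrArg Subtype.val (DFunLike.congr_fun hs ⟨b, hbA⟩)
        exact congrArg Subtype.val (mul_inv_eq_iff_eq_mul.1 h1)
    rw [← σ.ker.card_mul_index, Subgroup.index_ker]
    refine (Nat.mul_le_mul hker hσ).trans ?_
    have hℓle : ℓ ≤ 2 ^ n - 1 := Nat.le_of_dvd (Nat.sub_pos_of_lt (Nat.one_lt_two_pow hn0)) (Nat.dvd_of_mod_eq_zero (by
      have := Nat.div_add_mod (2 ^ n) ℓ
      rw [hℓn] at this
      rw [show 2 ^ n - 1 = ℓ * (2 ^ n / ℓ) by omega, Nat.mul_mod_right]))
    rcases hn with rfl | rfl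
    · interval_cases ℓ <;> first | decide | (revert hℓn; decide) | (exfalso; revert hℓ; norm_num)
    · interval_cases ℓ <;> first | decide | (revert hℓn; decide) | (exfalso; revert hℓ; norm_num)
  -- blocks
  let U := fixS S M
  have hUne : U ≠ ⊤ := fun h => hM0 (eq_bot_iff.2 fun l hl => Subgroup.mem_bot.2 (Subtype.ext (MulEquiv.ext fun x =>
    (h.ge (Subgroup.mem_top x) : x ∈ fixS S M) l hl)))
  let Ω := MulAction.orbit S U
  haveI : Fintype Ω := Fintype.ofFinite _
  have hconj : ∀ (g : S) (y : V), y ∈ g • U ↔ ∀ m ∈ M, (g * m * g⁻¹) • y = y := by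
    intro g y
    show y ∈ (g : MulAut V) • U ↔ _
    rw [Subgroup.mem_pointwise_smul_iff_inv_smul_mem]
    show g⁻¹ • y ∈ fixS S M ↔ _
    rw [mem_fixS]
    refine forall₂_congr fun m _ => ?_
    rw [mul_smul, mul_smul]
    exact ⟨fun h => by rw [h, smul_inv_smul],
      fun h => smul_left_cancel g (h.trans (smul_inv_smul g y).symm)⟩
  have hpow : Odd (Nat.card M) := by
    obtain ⟨e, he⟩ := IsPGroup.iff_card.1 (hAp.to_le hMA)
    rw [he]; exact hodd.pow
  let f : (∀ ω : Ω, (ω : Subgroup V)) → V := fun u => ∏ ω : Ω, (u ω : V)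
  have hfinj : Function.Injective f := by
    intro u u' huu
    funext ω
    obtain ⟨g, hg⟩ := ω.2
    let M' := M.map (MulAut.conj g).toMonoidHom
    haveI : Fintype M' := Fintype.ofFinite _
    let P : V →* V :=
      { toFun := fun y => ∏ m : M', (m : S) • y
        map_one' := by simp
        map_mul' := fun y z => by simp [smul_mul', Finset.prod_mul_distrib] }
    have hM'A : M' ≤ A := by
      rintro _ ⟨m, hm, rfl⟩
      exact hA.conj_mem m (hMA hm) g
    have hM'c : Nat.card M' = Nat.card M :=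
      (Nat.card_congr (Subgroup.equivMapOfInjective M _ (MulAut.conj g).injective).toEquiv).symm
    have hfixP : ∀ y, P y ∈ fixS S M' := fun y l hl => by
      show l • ∏ m : M', (m : S) • y = ∏ m : M', (m : S) • y
      rw [Finset.smul_prod']
      exact Fintype.prod_equiv (Equiv.mulLeft ⟨l, hl⟩) _ _ fun m => by rw [← mul_smul]; rfl
    have hPeq : ∀ y ∈ (ω : Subgroup V), P y = y := by
      intro y hy
      show ∏ m : M', (m : S) • y = y
      rw [Finset.prod_eq_pow_card (b := y), Finset.card_univ, ← Nat.card_eq_fintype_card, hM'c]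
      · obtain ⟨e, he⟩ := hpow
        rw [he, pow_succ, pow_mul, hexp, one_pow, one_mul]
      · rintro ⟨_, m, hm, rfl⟩ -
        exact (hconj g y).1 (by rw [show g • U = (ω : Subgroup V) from hg]; exact hy) m hm
    have hPne : ∀ ω' : Ω, ω' ≠ ω → ∀ y ∈ (ω' : Subgroup V), P y = 1 := by
      intro ω' hne' y hy
      obtain ⟨g', hg'⟩ := ω'.2
      let M'' := M.map (MulAut.conj g').toMonoidHom
      have hM''A : M'' ≤ A := by
        rintro _ ⟨m, hm, rfl⟩
        exact hA.conj_mem m (hMA hm) g'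
      have hne'' : M' ≠ M'' := by
        intro h
        refine hne' (Subtype.ext ?_)
        rw [← hg, ← hg']
        ext z
        show z ∈ g' • U ↔ z ∈ g • U
        rw [hconj, hconj]
        constructor <;> intro hz m hm
        · obtain ⟨m', hm', e⟩ : g * m * g⁻¹ ∈ M'' := h ▸ ⟨m, hm, rfl⟩
          rw [← e]; exact hz m' hm'
        · obtain ⟨m', hm', e⟩ : g' * m * g'⁻¹ ∈ M' := h.symm ▸ ⟨m, hm, rfl⟩
          rw [← e]; exact hz m' hm'
      have hlt : Nat.card M < Nat.card (M' ⊔ M'' : Subgroup S) := by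
        rw [← hM'c]
        refine CfsgLib.Solvable.card_lt_of_lt (lt_of_le_of_ne le_sup_left fun h => hne'' ?_)
        refine (CfsgLib.Solvable.eq_of_le_of_card_le (h ▸ le_sup_right) ?_).symm
        rw [hM'c]
        exact (Nat.card_congr (Subgroup.equivMapOfInjective M _ (MulAut.conj g').injective).toEquiv).le
      rw [← Subgroup.mem_bot, ← hbig _ (sup_le hM'A hM''A) hlt]
      intro l hl
      have hle : M' ⊔ M'' ≤ MulAction.stabilizer S (P y) := by
        refine sup_le (fun m hm => hfixP y m hm) ?_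
        rintro _ ⟨m, hm, rfl⟩
        show (g' * m * g'⁻¹) • ∏ x : M', (x : S) • y = ∏ x : M', (x : S) • y
        rw [Finset.smul_prod']
        refine Finset.prod_congr rfl fun x _ => ?_
        rw [← mul_smul, hcomm _ (hA.conj_mem m (hMA hm) g') _ (hM'A x.2), mul_smul,
          (hconj g' y).1 (by rw [show g' • U = (ω' : Subgroup V) from hg']; exact hy) m hm]
      exact hle hl
    have hPf : ∀ w : (∀ ω : Ω, (ω : Subgroup V)), P (f w) = w ω := fun w => by
      show P (∏ ω' : Ω, (w ω' : V)) = w ω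
      rw [map_prod, Finset.prod_eq_single ω (fun ω' _ h => hPne ω' h _ (w ω').2) (by simp)]
      exact hPeq _ (w ω).2
    exact Subtype.ext (by rw [← hPf u, ← hPf u', huu])
  obtain ⟨r, hr, hUc⟩ := (Nat.dvd_prime_pow Nat.prime_two).1 (hV ▸ Subgroup.card_subgroup_dvd_card U)
  have hωc : ∀ ω : Ω, Nat.card (ω : Subgroup V) = 2 ^ r := by
    rintro ⟨_, g, rfl⟩
    rw [← hUc]
    exact (Nat.card_congr (Subgroup.equivSMul g U).toEquiv).symm
  obtain ⟨t, ht⟩ : ∃ t, Nat.card Ω = t := ⟨_, rfl⟩
  have hrt : r * t ≤ n := by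
    refine (Nat.pow_le_pow_iff_right (a := 2) (by norm_num)).1 ?_
    rw [← hV]
    refine le_trans (le_of_eq ?_) (Nat.card_le_card_of_injective f hfinj)
    rw [Nat.card_pi, Finset.prod_congr rfl fun ω _ => hωc ω, Finset.prod_const, Finset.card_univ,
      ← Nat.card_eq_fintype_card, ht, pow_mul]
  have hr2 : 2 ≤ r := by
    by_contra h
    rcases (by omega : r = 0 ∨ r = 1) with rfl | rfl
    · exact hMU (Subgroup.eq_bot_of_card_eq _ (by simpa using hUc))
    · obtain ⟨x, hx, hx1⟩ := (Subgroup.bot_or_exists_ne_one U).resolve_left hMU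
      refine hx1 ?_
      rw [← Subgroup.mem_bot, ← hfA]
      intro l hl
      have hmem : l • x ∈ U := smul_mem_fixS l (fun m hm => by
        rw [mul_assoc, hcomm m (hMA hm) l hl, inv_mul_cancel_left]; exact hm) hx
      rw [pow_one] at hUc
      haveI := Fintype.ofFinite U
      by_contra hne'
      have h3 : 3 ≤ Nat.card U := by
        rw [Nat.card_eq_fintype_card]
        refine Fintype.two_lt_card_iff.2 ⟨1, ⟨x, hx⟩, ⟨l • x, hmem⟩, fun h => hx1 (congrArg Subtype.val h).symm,
          fun h => hx1 ((MulEquiv.map_eq_one_iff (l : MulAut V)).1 (congrArg Subtype.val h).symm), fun h => hne' (congrArg Subtype.val h).symm⟩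
      omega
  have hspan : (⨆ ω : Ω, (ω : Subgroup V)) = ⊤ := by
    refine (hirr _ fun φ hφ u hu => ?_).resolve_left fun h => hMU (eq_bot_iff.2
      ((le_iSup (fun ω : Ω => (ω : Subgroup V)) ⟨U, MulAction.mem_orbit_self U⟩).trans h.le))
    have hle : (⨆ ω : Ω, (ω : Subgroup V)) ≤ (⨆ ω : Ω, (ω : Subgroup V)).comap (φ.toMonoidHom) := by
      refine iSup_le fun ω y hy => ?_
      refine (le_iSup (fun ω : Ω => (ω : Subgroup V)) ((⟨φ, hφ⟩ : S) • ω)) ?_
      exact Subgroup.smul_mem_pointwise_smul y (⟨φ, hφ⟩ : S) _ hy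
    exact hle hu
  have ht2 : 2 ≤ t := by
    by_contra h
    refine hUne (eq_top_iff.2 (hspan.ge.trans (iSup_le fun ω => ?_)))
    have : Subsingleton Ω := Finite.card_le_one_iff_subsingleton.1 (by omega)
    rw [Subsingleton.elim ω ⟨U, MulAction.mem_orbit_self U⟩]
  let π : S →* Equiv.Perm Ω := MulAction.toPermHom S Ω
  have hπ : Nat.card π.range ≤ t.factorial := by
    rw [← ht, ← Nat.card_perm]; exact Subgroup.card_le_card_group _
  have hkω : ∀ (s : π.ker) (ω : Ω) (y : V), y ∈ (ω : Subgroup V) → (s : S) • y ∈ (ω : Subgroup V) := by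
    intro s ω y hy
    have h1 : ((s : S) • ω : Ω) = ω := DFunLike.congr_fun s.2 ω
    exact (congrArg Subtype.val h1).le (Subgroup.smul_mem_pointwise_smul y (s : S) (ω : Subgroup V) hy)
  let ρ : π.ker → ∀ ω : Ω, MulAut (ω : Subgroup V) := fun s ω =>
    { toFun := fun y => ⟨(s : S) • (y : V), hkω s ω y y.2⟩
      invFun := fun y => ⟨((s⁻¹ : π.ker) : S) • (y : V), hkω s⁻¹ ω y y.2⟩
      left_inv := fun y => Subtype.ext (inv_smul_smul (s : S) (y : V))
      right_inv := fun y => Subtype.ext (smul_inv_smul (s : S) (y : V))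
      map_mul' := fun y z => Subtype.ext (smul_mul' _ _ _) }
  have hρ : Function.Injective ρ := by
    intro s s' h
    refine Subtype.ext (Subtype.ext (MulEquiv.ext fun x => ?_))
    have hx : x ∈ (⨆ ω : Ω, (ω : Subgroup V)) := hspan.ge (Subgroup.mem_top x)
    induction hx using Subgroup.iSup_induction' with
    | hp ω y hy => exact congrArg Subtype.val (DFunLike.congr_fun (congrFun h ω) ⟨y, hy⟩)
    | h1 => rw [map_one, map_one]
    | hmul y z _ _ hy hz => rw [map_mul, map_mul, hy, hz]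
  have hkcard : Nat.card π.ker ≤ (∏ i ∈ Finset.range r, (2 ^ r - 2 ^ i)) ^ t := by
    haveI : ∀ ω : Ω, Finite (MulAut (ω : Subgroup V)) := fun ω => finite_mulAut
    refine (Nat.card_le_card_of_injective ρ hρ).trans ?_
    rw [Nat.card_pi, ← ht, Nat.card_eq_fintype_card, ← Finset.card_univ, ← Finset.prod_const]
    exact Finset.prod_le_prod' fun ω _ => card_mulAut_le Nat.prime_two (hωc ω)
  rw [← π.ker.card_mul_index, Subgroup.index_ker]
  exact (Nat.mul_le_mul hkcard hπ).trans (binary_decomp hn hr2 ht2 hrt)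

end CfsgLib.SolvLinK
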