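import Cfsg.Agent.S0547
import Cfsg.Agent.Solvable.Basics
import Cfsg.Agent.Perm.Basic
import Cfsg.Agent.SolvLinK.AutBound
import Mathlib.GroupTheory.Perm.Finite
import Mathlib.SetTheory.Cardinal.Finite
import Mathlib.Data.Finite.Perm
import Mathlib.Tactic.Linarith
import Mathlib.Tactic.Positivity
import Mathlib.Tactic.NormNum

/-!
The order of a solvable permutation group.
-/

set_option autoImplicit false
set_option linter.style.haveILetI false
set_option linter.unusedSectionVars false

open scoped Pointwise

namespace CfsgLib.SolvLinK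

universe u v

theorem sq_le_two_pow : ∀ {q : ℕ}, 4 ≤ q → q ^ 2 ≤ 2 ^ q := by
  intro q hq
  induction q, hq using Nat.le_induction with
  | base => norm_num
  | succ q hq ih =>
    rw [pow_succ 2 q]
    nlinarith

theorem le_two_pow_pred {q : ℕ} (hq : 1 ≤ q) : q ≤ 2 ^ (q - 1) := by
  have := Nat.lt_two_pow_self (n := q - 1)
  omega

/-- The arithmetic of a primitive solvable group. -/
theorem prim_arith {q d : ℕ} (hq : 2 ≤ q) (hd : 1 ≤ d) (ht : 5 ≤ q ^ d) :
    (q ^ d * ∏ i ∈ Finset.range d, (q ^ d - q ^ i)) ^ 3 ≤ 24 ^ (q ^ d - 1) := by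
  have h16 : ∀ k : ℕ, 2 ^ (4 * k) ≤ 24 ^ k := fun k => by
    rw [pow_mul]
    exact Nat.pow_le_pow_left (by norm_num) k
  have hle : q ^ d * ∏ i ∈ Finset.range d, (q ^ d - q ^ i) ≤ q ^ (d * (d + 1)) := by
    rw [show q ^ (d * (d + 1)) = q ^ d * (q ^ d) ^ d by ring]
    refine Nat.mul_le_mul_left _ ((Finset.prod_le_pow_card _ _ _ fun i _ => Nat.sub_le _ _).trans ?_)
    rw [Finset.card_range]
  by_cases hexc : (q = 2 ∧ d = 3) ∨ (q = 3 ∧ d = 2)
  · rcases hexc with ⟨rfl, rfl⟩ | ⟨rfl, rfl⟩ <;> norm_num [Finset.prod_range_succ]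
  push Not at hexc
  refine (Nat.pow_le_pow_left hle 3).trans ?_
  rw [← pow_mul]
  rcases Nat.lt_or_ge d 2 with hd2 | hd2
  · obtain rfl : d = 1 := by omega
    rw [pow_one] at ht ⊢
    calc q ^ (1 * (1 + 1) * 3) = (q ^ 2) ^ 3 := by ring
      _ ≤ (2 ^ q) ^ 3 := Nat.pow_le_pow_left (sq_le_two_pow (by omega)) 3
      _ = 2 ^ (q * 3) := (pow_mul _ _ _).symm
      _ ≤ 2 ^ (4 * (q - 1)) := Nat.pow_le_pow_right (by norm_num) (by omega)
      _ ≤ 24 ^ (q - 1) := h16 _
  · have hgeom : ∀ n : ℕ, (∑ i ∈ Finset.range n, q ^ i) * (q - 1) + 1 = q ^ n := fun n => by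
      induction n with
      | zero => simp
      | succ n ih =>
        obtain ⟨r, rfl⟩ : ∃ r, q = r + 1 := ⟨q - 1, by omega⟩
        rw [Nat.add_sub_cancel] at ih ⊢
        rw [Finset.sum_range_succ, add_mul, add_right_comm, ih]
        ring
    have hsum : 3 * (d * (d + 1)) ≤ 4 * ∑ i ∈ Finset.range d, q ^ i := by
      rcases Nat.lt_or_ge d 4 with h4 | h4
      · interval_cases d
        · rw [Finset.sum_range_succ, Finset.sum_range_one]
          have : q ≠ 3 := fun h => hexc.2 h rfl
          rcases (by omega : q = 2 ∨ 4 ≤ q) with rfl | h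
          · norm_num at ht
          · simp; omega
        · rw [Finset.sum_range_succ, Finset.sum_range_succ, Finset.sum_range_one]
          have : q ≠ 2 := fun h => hexc.1 h rfl
          have : 3 ≤ q := by omega
          simp; nlinarith
      · have h2 : ∀ n, 4 ≤ n → 3 * (n * (n + 1)) ≤ 4 * ∑ i ∈ Finset.range n, 2 ^ i := by
          intro n hn
          induction n, hn using Nat.le_induction with
          | base => decide
          | succ n hn ih =>
            rw [Finset.sum_range_succ]
            have h1 : ∀ m, 4 ≤ m → 3 * (m + 1) ≤ 2 * 2 ^ m := by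
              intro m hm
              induction m, hm using Nat.le_induction with
              | base => norm_num
              | succ m hm ih => rw [pow_succ]; omega
            have := h1 n hn
            nlinarith
        exact (h2 d h4).trans (Nat.mul_le_mul_left _ (Finset.sum_le_sum fun i _ => Nat.pow_le_pow_left hq i))
    calc q ^ (d * (d + 1) * 3) ≤ (2 ^ (q - 1)) ^ (d * (d + 1) * 3) :=
          Nat.pow_le_pow_left (le_two_pow_pred (by omega)) _
      _ = 2 ^ ((q - 1) * (d * (d + 1) * 3)) := (pow_mul _ _ _).symm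
      _ ≤ 2 ^ (4 * (q ^ d - 1)) := by
          refine Nat.pow_le_pow_right (by norm_num) ?_
          calc (q - 1) * (d * (d + 1) * 3) = (3 * (d * (d + 1))) * (q - 1) := by ring
            _ ≤ (4 * ∑ i ∈ Finset.range d, q ^ i) * (q - 1) := Nat.mul_le_mul_right _ hsum
            _ = 4 * (q ^ d - 1) := by
              rw [mul_assoc]
              congr 1
              have := hgeom d
              omega
      _ ≤ 24 ^ (q ^ d - 1) := h16 _

/-- A solvable permutation group on `n` points has order at most `24 ^ ((n - 1) / 3)`, and at most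
`24` for five points. -/
theorem perm_bound : ∀ (n : ℕ) (α : Type v) [Finite α], Nat.card α = n →
    ∀ G : Subgroup (Equiv.Perm α), Group.IsSolvable G →
      Nat.card G ^ 3 ≤ 24 ^ (n - 1) ∧ (n = 5 → Nat.card G ≤ 24) := by
  intro n
  induction n using Nat.strong_induction_on with
  | _ n ih =>
    intro α _ hn G hG
    classical
    haveI := Fintype.ofFinite α
    by_cases h4 : n ≤ 4
    · refine ⟨?_, fun h => by omega⟩
      have h1 : Nat.card G ≤ n.factorial := by
        refine (Subgroup.card_le_card_group G).trans ?_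
        rw [Nat.card_perm, hn]
      refine (Nat.pow_le_pow_left h1 3).trans ?_
      interval_cases n <;> norm_num [Nat.factorial]
    haveI : Nonempty α := Nat.card_pos_iff.1 (by omega) |>.1
    by_cases htr : MulAction.IsPretransitive G α
    swap
    · -- intransitive
      obtain ⟨a⟩ := ‹Nonempty α›
      let s : Set α := MulAction.orbit G a
      have hs : s ≠ Set.univ := fun h => htr ((MulAction.isPretransitive_iff_base a).2 fun x => by
        have : x ∈ s := h ▸ Set.mem_univ x
        exact this)
      have hinv : ∀ g : G, ∀ x, (g : Equiv.Perm α) x ∈ s ↔ x ∈ s := fun g x => by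
        show g • x ∈ MulAction.orbit G a ↔ x ∈ MulAction.orbit G a
        constructor <;> intro h
        · have := MulAction.mem_orbit_of_mem_orbit g⁻¹ h
          rwa [inv_smul_smul] at this
        · exact MulAction.mem_orbit_of_mem_orbit g h
      let f : G →* Equiv.Perm s :=
        { toFun := fun g => (g : Equiv.Perm α).subtypePerm (hinv g)
          map_one' := Equiv.ext fun x => rfl
          map_mul' := fun g h => Equiv.ext fun x => rfl }
      let f' : G →* Equiv.Perm (sᶜ : Set α) :=
        { toFun := fun g => (g : Equiv.Perm α).subtypePerm (fun x => not_congr (hinv g x))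
          map_one' := Equiv.ext fun x => rfl
          map_mul' := fun g h => Equiv.ext fun x => rfl }
      have hfi : Function.Injective (fun g : G => (f.rangeRestrict g, f'.rangeRestrict g)) := by
        intro g h e
        refine Subtype.ext (Equiv.ext fun x => ?_)
        by_cases hx : x ∈ s
        · exact congrArg (fun t : f.range × f'.range => (((t.1 : Equiv.Perm s) ⟨x, hx⟩ : s) : α)) e
        · exact congrArg (fun t : f.range × f'.range =>
            (((t.2 : Equiv.Perm (sᶜ : Set α)) ⟨x, hx⟩ : (sᶜ : Set α)) : α)) e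
      have hc : Nat.card s + Nat.card (sᶜ : Set α) = n := by
        rw [Nat.card_coe_set_eq, Nat.card_coe_set_eq, Set.ncard_add_ncard_compl, hn]
      haveI : Nonempty s := ⟨⟨a, MulAction.mem_orbit_self a⟩⟩
      haveI : Nonempty (sᶜ : Set α) := by
        obtain ⟨x, hx⟩ := (Set.ne_univ_iff_exists_notMem s).1 hs
        exact ⟨⟨x, hx⟩⟩
      have hs1 : 0 < Nat.card s := Nat.card_pos
      have hs2 : 0 < Nat.card (sᶜ : Set α) := Nat.card_pos
      obtain ⟨i1, j1⟩ := ih (Nat.card s) (by omega) s rfl f.range
        (Group.isSolvable_of_surjective f.rangeRestrict_surjective)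
      obtain ⟨i2, j2⟩ := ih (Nat.card (sᶜ : Set α)) (by omega) (sᶜ : Set α) rfl f'.range
        (Group.isSolvable_of_surjective f'.rangeRestrict_surjective)
      have hle : Nat.card G ≤ Nat.card f.range * Nat.card f'.range := by
        rw [← Nat.card_prod]; exact Nat.card_le_card_of_injective _ hfi
      refine ⟨?_, fun h5 => ?_⟩
      · calc Nat.card G ^ 3 ≤ (Nat.card f.range * Nat.card f'.range) ^ 3 := Nat.pow_le_pow_left hle 3
          _ = Nat.card f.range ^ 3 * Nat.card f'.range ^ 3 := mul_pow _ _ _
          _ ≤ 24 ^ (Nat.card s - 1) * 24 ^ (Nat.card (sᶜ : Set α) - 1) := Nat.mul_le_mul i1 i2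
          _ ≤ 24 ^ (n - 1) := by
            rw [← pow_add]; exact Nat.pow_le_pow_right (by norm_num) (by omega)
      · refine hle.trans ?_
        have b1 : Nat.card f.range ≤ (Nat.card s).factorial :=
          (Subgroup.card_le_card_group _).trans (Nat.card_perm (α := s)).le
        have b2 : Nat.card f'.range ≤ (Nat.card (sᶜ : Set α)).factorial :=
          (Subgroup.card_le_card_group _).trans (Nat.card_perm (α := (sᶜ : Set α))).le
        refine (Nat.mul_le_mul b1 b2).trans ?_
        obtain ⟨c1, hc1⟩ : ∃ c, Nat.card s = c := ⟨_, rfl⟩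
        obtain ⟨c2, hc2⟩ : ∃ c, Nat.card (sᶜ : Set α) = c := ⟨_, rfl⟩
        rw [hc1, hc2]
        have : c2 = 5 - c1 := by omega
        subst this
        have : c1 ≤ 4 := by omega
        interval_cases c1 <;> simp_all [Nat.factorial]
    by_cases hprim : MulAction.IsPreprimitive G α
    · -- primitive
      haveI : Nontrivial G := by
        by_contra hc
        haveI := not_nontrivial_iff_subsingleton.1 hc
        obtain ⟨a⟩ := ‹Nonempty α›
        have : ∀ x : α, x = a := fun x => by
          obtain ⟨g, rfl⟩ := htr.exists_smul_eq a x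
          rw [Subsingleton.elim g 1, one_smul]
        haveI : Subsingleton α := ⟨fun x y => (this x).trans (this y).symm⟩
        have := Finite.card_le_one_iff_subsingleton.2 ‹Subsingleton α›
        omega
      haveI : Group.IsSolvable G := hG
      obtain ⟨M, hM, hM1, -, hmin⟩ := CfsgLib.Solvable.exists_minimal_normal_le (G := G) (N := ⊤) top_ne_bot
      obtain ⟨hMt, hreg, q, d, hq, hd, hcard, hMcard⟩ := Cfsg.Agent.S0547.result hprim M hM1 hmin
      obtain ⟨a⟩ := ‹Nonempty α›
      have hstab : Nat.card (MulAction.stabilizer G a) ≤ Nat.card (MulAut M) := by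
        let c : MulAction.stabilizer G a →* MulAut M := MulAut.conjNormal.comp (MulAction.stabilizer G a).subtype
        refine Nat.card_le_card_of_injective c ((injective_iff_map_eq_one c).2 fun g hg => Subtype.ext ?_)
        haveI := hMt
        refine CfsgLib.PermBasic.eq_one_of_commute_of_fix M (fun t ht => ?_) (a := a) g.2
        have h1 : (g : G) * t * (g : G)⁻¹ = t := by
          rw [← MulAut.conjNormal_apply (g : G) ⟨t, ht⟩]
          exact congrArg Subtype.val (DFunLike.congr_fun hg ⟨t, ht⟩)
        conv_lhs => rw [← h1, inv_mul_cancel_right]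
      have hG' : Nat.card G = n * Nat.card (MulAction.stabilizer G a) := by
        rw [← (MulAction.stabilizer G a).card_mul_index, MulAction.index_stabilizer_of_transitive, hn, mul_comm]
      have hb : Nat.card G ≤ q ^ d * ∏ i ∈ Finset.range d, (q ^ d - q ^ i) := by
        rw [hG', ← hn, hcard]
        exact Nat.mul_le_mul_left _ (hstab.trans (card_mulAut_le hq hMcard))
      refine ⟨?_, fun h5 => ?_⟩
      · refine (Nat.pow_le_pow_left hb 3).trans ?_
        rw [← hn, hcard]
        exact prim_arith hq.two_le hd (by rw [← hcard, hn]; omega)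
      · refine hb.trans ?_
        have h5' : q ^ d = 5 := by rw [← hcard, hn, h5]
        have hd1 : d = 1 := by
          by_contra hne
          have h2 : q ^ 2 ≤ q ^ d := Nat.pow_le_pow_right hq.pos (by omega)
          have : q ≤ 2 := by nlinarith [hq.two_le]
          obtain rfl : q = 2 := le_antisymm this hq.two_le
          have : d ≤ 2 := by
            by_contra h3
            have : 2 ^ 3 ≤ 2 ^ d := Nat.pow_le_pow_right two_pos (by omega)
            omega
          interval_cases d <;> omega
        subst hd1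
        rw [pow_one] at h5'
        subst h5'
        norm_num
    -- imprimitive
    obtain ⟨B, hB, hBt⟩ : ∃ B : Set α, MulAction.IsBlock G B ∧ ¬ MulAction.IsTrivialBlock B := by
      by_contra hc
      push Not at hc
      exact hprim { toIsPretransitive := htr, isTrivialBlock_of_isBlock := fun {B} hB => hc B hB }
    haveI := htr
    rw [MulAction.IsTrivialBlock, not_or, Set.not_subsingleton_iff] at hBt
    obtain ⟨hBn, hBu⟩ := hBt
    have hmul := hB.ncard_block_mul_ncard_orbit_eq hBn.nonempty
    obtain ⟨b, hb⟩ : ∃ b, Set.ncard B = b := ⟨_, rfl⟩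
    obtain ⟨s, hs⟩ : ∃ s, Set.ncard (MulAction.orbit G B) = s := ⟨_, rfl⟩
    rw [hb, hs, hn] at hmul
    have hb2 : 2 ≤ b := hb ▸ (Set.one_lt_ncard (s := B)).2 hBn
    have hs2 : 2 ≤ s := by
      by_contra hc
      have : b = n := by
        have : s = 0 ∨ s = 1 := by omega
        rcases this with rfl | rfl <;> omega
      exact hBu (Set.eq_of_subset_of_ncard_le (Set.subset_univ _) (by
        rw [Set.ncard_univ, hn, hb, this]))
    let Q := MulAction.orbit G B
    let π : G →* Equiv.Perm Q := MulAction.toPermHom G Q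
    have hQ : Nat.card Q = s := by rw [Nat.card_coe_set_eq, hs]
    have hsn : s < n := by nlinarith
    have hbn : b < n := by nlinarith
    obtain ⟨i1, -⟩ := ih s hsn Q hQ π.range (Group.isSolvable_of_surjective π.rangeRestrict_surjective)
    have hpart := hB.isBlockSystem hBn.nonempty
    have hker : ∀ (g : π.ker) (C : Q) (x : α), (g : G) • x ∈ (C : Set α) ↔ x ∈ (C : Set α) := by
      intro g C x
      have h1 : (g : G) • (C : Set α) = C := congrArg Subtype.val (DFunLike.congr_fun g.2 C)
      conv_lhs => rw [← h1]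
      exact Set.smul_mem_smul_set_iff
    let r : ∀ C : Q, π.ker →* Equiv.Perm (C : Set α) := fun C =>
      { toFun := fun g => ((g : G) : Equiv.Perm α).subtypePerm (hker g C)
        map_one' := Equiv.ext fun x => rfl
        map_mul' := fun g h => Equiv.ext fun x => rfl }
    haveI := Fintype.ofFinite Q
    have hri : Function.Injective (fun g : π.ker => fun C : Q => (r C).rangeRestrict g) := by
      intro g h e
      refine Subtype.ext (Subtype.ext (Equiv.ext fun x => ?_))
      obtain ⟨C, ⟨⟨g₀, hg₀⟩, hxC⟩, -⟩ := hpart.1.2 x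
      have := congrFun e ⟨C, ⟨g₀, hg₀⟩⟩
      exact congrArg (fun t : (r ⟨C, ⟨g₀, hg₀⟩⟩).range =>
        (((t : Equiv.Perm (C : Set α)) ⟨x, hxC⟩ : (C : Set α)) : α)) this
    have hCb : ∀ C : Q, Nat.card (C : Set α) = b := by
      rintro ⟨_, g, rfl⟩
      rw [Nat.card_coe_set_eq, ← hb]
      exact Set.ncard_image_of_injective B (MulAction.injective g)
    have hrb : ∀ C : Q, Nat.card (r C).range ^ 3 ≤ 24 ^ (b - 1) := fun C => by
      haveI : Group.IsSolvable G := hG
      exact (ih b hbn _ (hCb C) (r C).range (Group.isSolvable_of_surjective (r C).rangeRestrict_surjective)).1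
    have hGcard : Nat.card G = Nat.card π.ker * Nat.card π.range := by
      rw [← π.ker.card_mul_index, Subgroup.index_ker]
    refine ⟨?_, fun h5 => ?_⟩
    · calc Nat.card G ^ 3 = Nat.card π.ker ^ 3 * Nat.card π.range ^ 3 := by rw [hGcard, mul_pow]
        _ ≤ (∏ C : Q, Nat.card (r C).range) ^ 3 * 24 ^ (s - 1) := by
          refine Nat.mul_le_mul (Nat.pow_le_pow_left ?_ 3) i1
          rw [← Nat.card_pi]
          exact Nat.card_le_card_of_injective _ hri
        _ ≤ (∏ _C : Q, 24 ^ (b - 1)) * 24 ^ (s - 1) := by
          refine Nat.mul_le_mul_right _ ?_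
          rw [← Finset.prod_pow]
          exact Finset.prod_le_prod' fun C _ => hrb C
        _ = 24 ^ ((b - 1) * s + (s - 1)) := by
          rw [Finset.prod_const, Finset.card_univ, ← Nat.card_eq_fintype_card, hQ, ← pow_mul, ← pow_add]
        _ ≤ 24 ^ (n - 1) := by
          refine Nat.pow_le_pow_right (by norm_num) ?_
          have : (b - 1) * s + s = b * s := by
            obtain ⟨b', rfl⟩ : ∃ b', b = b' + 1 := ⟨b - 1, by omega⟩
            rw [Nat.add_sub_cancel]; ring
          omega
    · exfalso
      subst h5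
      have : b ≤ 5 := by nlinarith
      interval_cases b <;> omega

end CfsgLib.SolvLinK
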