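import Cfsg.Agent.SolvLinK.Primitive
import Cfsg.Agent.SolvLinK.PermBound
import Mathlib.GroupTheory.GroupAction.Quotient

/-!
The ratio of order and class number in a solvable irreducible linear group.
-/

set_option autoImplicit false
set_option linter.style.haveILetI false
set_option linter.unusedSectionVars false

namespace CfsgLib.SolvLinK

open Module

universe u v w

variable {k : Type w} [Field k] [IsAlgClosed k]

/-- The bound for the image of a completely reducible representation. -/
theorem rb_image {d : ℕ} (ih : BoundBelow.{u, v, w} k d) {H : Type u} [Group H] [Finite H] {U : Type v}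
    [AddCommGroup U] [Module k U] [FiniteDimensional k U] (hH : Group.IsSolvable H) (ρ : H →* Module.End k U)
    (hcr : IsCR ρ) (hdim : finrank k U < d) : RB (H ⧸ ρ.toHomUnits.ker) (gB (finrank k U)) := by
  haveI := hH
  refine ih _ hdim (H ⧸ ρ.toHomUnits.ker) U ((Units.coeHom _).comp (QuotientGroup.kerLift ρ.toHomUnits))
    ?_ (Group.isSolvable_of_surjective (QuotientGroup.mk'_surjective _))
    (hcr.of_surjective (QuotientGroup.mk'_surjective _) fun _ => rfl) rfl
  intro a b h
  exact QuotientGroup.kerLift_injective _ (Units.ext h)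

theorem irreducible_case {G : Type u} [Group G] [Finite G] {W : Type v} [AddCommGroup W] [Module k W]
    [FiniteDimensional k W] (π : G →* Module.End k W) (hinj : Function.Injective π) (hsol : Group.IsSolvable G)
    (hirr : IsIrr π) {d : ℕ} (hd : finrank k W = d) (ih : BoundBelow.{u, v, w} k d) :
    RB G (gB d) ∧ (d = 2 → RB G 4 ∨ IsOctType π) := by
  classical
  have hd1 : 1 ≤ d := by
    obtain ⟨v, -, hv⟩ := (Submodule.ne_bot_iff _).1 hirr.1
    haveI : Nontrivial W := ⟨⟨v, 0, hv⟩⟩
    rw [← hd]; exact Module.finrank_pos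
  rcases hd1.eq_or_lt with rfl | hd2
  · refine ⟨(RB.of_comm fun a b => hinj ?_).mono (one_le_gB 1), fun h => absurd h (by omega)⟩
    obtain ⟨e, he, hsp⟩ := finrank_eq_one_iff'.1 hd
    rw [map_mul, map_mul]
    refine LinearMap.ext fun x => ?_
    obtain ⟨cx, rfl⟩ := hsp x
    obtain ⟨ca, hca⟩ := hsp (π a e)
    obtain ⟨cb, hcb⟩ := hsp (π b e)
    simp only [Module.End.mul_apply, map_smul, ← hca, ← hcb, smul_smul]
    ring_nf
  by_cases hsc : ∀ A : Subgroup G, A.Normal → (∀ a ∈ A, ∀ b ∈ A, a * b = b * a) →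
      ∀ a ∈ A, ∃ c : k, π a = c • (1 : Module.End k W)
  · exact primitive_case π hinj hsol hirr hsc hd hd2 ih
  push Not at hsc
  obtain ⟨A, hA, hAc, a₀, ha₀, hns⟩ := hsc
  haveI := hA
  obtain ⟨v, hv0, hvA⟩ := exists_common_eigvec (π := π.comp A.subtype) hirr.1 fun a c => by
    rw [← map_mul, ← map_mul]
    exact congrArg _ (Subtype.ext (hAc a a.2 c c.2))
  obtain ⟨Λ, hΛ⟩ := exists_eigHom (π.comp A.subtype) hv0 hvA
  let lam : G → k := fun a => if h : a ∈ A then (Λ ⟨a, h⟩ : k) else 0
  have hlam : ∀ (a : G) (h : a ∈ A), lam a = (Λ ⟨a, h⟩ : k) := fun a h => dif_pos h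
  set W₀ := eigS π A lam with hW₀
  have hvmem : v ∈ W₀ := fun a ha => by rw [hlam a ha]; exact hΛ ⟨a, ha⟩
  have h0 : W₀ ≠ ⊥ := (Submodule.ne_bot_iff _).2 ⟨v, hvmem, hv0⟩
  have hspan := hirr.span_translates h0
  set S := valStab A lam with hS
  haveI : Fintype (G ⧸ S) := Fintype.ofFinite _
  have hdim := finrank_blocks π A lam hspan
  rw [hd] at hdim
  set t := S.index with ht
  set b := finrank k W₀ with hb
  have hb1 : 1 ≤ b := by
    by_contra h
    rw [show b = 0 by omega, mul_zero] at hdim
    omega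
  have ht2 : 2 ≤ t := by
    by_contra h
    have htop : S = ⊤ := Subgroup.index_eq_one.1 (by have : t ≠ 0 := Subgroup.index_ne_zero_of_finite; omega)
    have hinv : Invt π W₀ := fun g x hx => invt_eigS π A lam ⟨g, htop.ge (Subgroup.mem_top g)⟩ x hx
    refine hns (lam a₀) (LinearMap.ext fun x => ?_)
    exact ((hirr.2 _ hinv).resolve_left h0).ge (Submodule.mem_top : x ∈ ⊤) a₀ ha₀
  let φ : G →* Equiv.Perm (G ⧸ S) := MulAction.toPermHom G (G ⧸ S)
  have hker : φ.ker = S.normalCore := (Subgroup.normalCore_eq_ker S).symm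
  have hcardQ : Nat.card (G ⧸ S) = t := rfl
  have hT1 : Nat.card φ.range ≤ t.factorial := by
    rw [← hcardQ, ← Nat.card_perm]; exact Subgroup.card_le_card_group _
  haveI := hsol
  have hT3 := (perm_bound t (G ⧸ S) hcardQ φ.range (Group.isSolvable_of_surjective φ.rangeRestrict_surjective)).1
  -- the kernel of the action on the blocks
  set N := S.normalCore with hN
  let ρS : S →* Module.End k W₀ := restrictRep (π.comp S.subtype) W₀ (invt_eigS π A lam)
  let N' : Subgroup S := N.subgroupOf S
  haveI hN'n : N'.Normal := Subgroup.normal_subgroupOf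
  haveI : Group.IsSolvable N' := Group.isSolvable_of_isSolvable_injective
    (f := S.subtype.comp N'.subtype) (S.subtype_injective.comp N'.subtype_injective)
  let f : N' →* (Module.End k W₀)ˣ := (ρS.comp N'.subtype).toHomUnits
  have hQ : RB (N' ⧸ f.ker) (gB b) := rb_image ih inferInstance _
    ((isIrr_block π A lam hirr h0).cr_normal N') (by
      show b < d
      rw [hdim]; nlinarith)
  have hconjN : ∀ (n : N) (x : G ⧸ S), x.out⁻¹ * (n : G) * x.out ∈ N := fun n x => by
    simpa using (Subgroup.normalCore_normal S).conj_mem _ n.2 x.out⁻¹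
  let ι : N →* (G ⧸ S → N' ⧸ f.ker) :=
    { toFun := fun n x => QuotientGroup.mk' f.ker ⟨⟨_, S.normalCore_le (hconjN n x)⟩, hconjN n x⟩
      map_one' := funext fun x => by
        rw [Pi.one_apply, ← map_one (QuotientGroup.mk' f.ker)]
        exact congrArg _ (Subtype.ext (Subtype.ext (by simp)))
      map_mul' := fun n n' => funext fun x => by
        rw [Pi.mul_apply, ← map_mul]
        exact congrArg _ (Subtype.ext (Subtype.ext (by simp [mul_assoc]))) }
  have hι : Function.Injective ι := by
    refine (injective_iff_map_eq_one ι).2 fun n hn => Subtype.ext (hinj ?_)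
    show π (n : G) = π 1
    rw [map_one]
    refine eq_one_of_fix_blocks π A lam hspan fun x y hy => ?_
    have h1 := MonoidHom.mem_ker.1 ((QuotientGroup.eq_one_iff _).1 (congrFun hn x))
    have h2 : π (x.out⁻¹ * (n : G) * x.out) y = y :=
      congrArg Subtype.val (LinearMap.congr_fun (congrArg Units.val h1) ⟨y, hy⟩)
    rw [rep_conj_apply, h2]
  have hRN : RB N (gB b ^ t) := by
    have h := RB.pi (ι := G ⧸ S) (K := fun _ => N' ⧸ f.ker) (fun _ => hQ)
    rw [hcardQ] at h
    exact h.of_injective ι hι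
  have hG := RB.of_normal N hRN
  rw [← hker, Subgroup.index_ker] at hG
  refine ⟨hG.mono (by rw [hdim]; exact block_arith ht2 hb1 hT1 hT3), fun h2 => Or.inl (hG.mono ?_)⟩
  have hb' : b = 1 := by nlinarith
  have ht' : t = 2 := by nlinarith
  rw [hb', ht', show gB 1 = 1 by rfl, one_pow, mul_one]
  rw [ht'] at hT1
  have h3 : (Nat.card φ.range : ℚ) ≤ 2 := by exact_mod_cast hT1
  nlinarith [(Nat.cast_nonneg (Nat.card φ.range) : (0 : ℚ) ≤ _)]

/-- Completely reducible solvable groups. -/
theorem cr_bound : ∀ d, BoundBelow.{u, v, w} k d := by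
  intro d
  induction d with
  | zero => intro m hm; omega
  | succ d ih =>
    intro m hm H _ _ U _ _ _ σ hσ hsol hcr hdim
    rcases (Nat.lt_succ_iff.1 hm).lt_or_eq with h | rfl
    · exact ih m h H U σ hσ hsol hcr hdim
    rcases Nat.eq_zero_or_pos m with rfl | hm1
    · haveI : Subsingleton U := Module.finrank_zero_iff.1 hdim
      refine (RB.of_comm fun a b => hσ (LinearMap.ext fun x => Subsingleton.elim _ _)).mono (one_le_gB 0)
    by_cases hirr : IsIrr σ
    · exact (irreducible_case σ hσ hsol hirr hdim ih).1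
    have htop : (⊤ : Submodule k U) ≠ ⊥ := fun h => by
      have := finrank_top k U
      rw [h, finrank_bot] at this
      omega
    obtain ⟨U₁, hU₁, h1, h2⟩ : ∃ U₁, Invt σ U₁ ∧ U₁ ≠ ⊥ ∧ U₁ ≠ ⊤ := by
      by_contra hc
      push Not at hc
      exact hirr ⟨htop, fun U' hU' => or_iff_not_imp_left.2 (hc U' hU')⟩
    obtain ⟨U₂, hU₂, hc⟩ := hcr U₁ hU₁
    have hsum := Submodule.finrank_add_eq_of_isCompl hc
    rw [hdim] at hsum
    have ha : 1 ≤ finrank k U₁ := Submodule.one_le_finrank_iff.2 h1
    have hb : 1 ≤ finrank k U₂ := Submodule.one_le_finrank_iff.2 fun h => h2 (by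
      have := hc.sup_eq_top
      rwa [h, sup_bot_eq] at this)
    have q1 := rb_image ih hsol _ (hcr.restrict hU₁) (show finrank k U₁ < m by omega)
    have q2 := rb_image ih hsol _ (hcr.restrict hU₂) (show finrank k U₂ < m by omega)
    let f₁ := (restrictRep σ U₁ hU₁).toHomUnits
    let f₂ := (restrictRep σ U₂ hU₂).toHomUnits
    let ι : H →* (H ⧸ f₁.ker) × (H ⧸ f₂.ker) := (QuotientGroup.mk' _).prod (QuotientGroup.mk' _)
    have hι : Function.Injective ι := by
      refine (injective_iff_map_eq_one ι).2 fun g hg => hσ ?_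
      rw [map_one]
      have e1 := MonoidHom.mem_ker.1 ((QuotientGroup.eq_one_iff g).1 (congrArg Prod.fst hg))
      have e2 := MonoidHom.mem_ker.1 ((QuotientGroup.eq_one_iff g).1 (congrArg Prod.snd hg))
      refine LinearMap.ext fun x => ?_
      obtain ⟨y, hy, z, hz, rfl⟩ := Submodule.mem_sup.1 (show x ∈ U₁ ⊔ U₂ by rw [hc.sup_eq_top]; trivial)
      have hy' : σ g y = y := congrArg Subtype.val (LinearMap.congr_fun (congrArg Units.val e1) ⟨y, hy⟩)
      have hz' : σ g z = z := congrArg Subtype.val (LinearMap.congr_fun (congrArg Units.val e2) ⟨z, hz⟩)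
      rw [map_add, hy', hz']
      rfl
    have := (q1.prod q2).of_injective ι hι
    exact this.mono (by rw [← hsum]; exact gB_mul ha hb)

/-- An irreducible solvable linear group. -/
theorem irr_bound {G : Type u} [Group G] [Finite G] {W : Type v} [AddCommGroup W] [Module k W]
    [FiniteDimensional k W] (π : G →* Module.End k W) (hinj : Function.Injective π) (hsol : Group.IsSolvable G)
    (hirr : IsIrr π) :
    RB G (gB (finrank k W)) ∧ (finrank k W = 2 → RB G 4 ∨ IsOctType π) :=
  irreducible_case π hinj hsol hirr rfl (cr_bound _)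

end CfsgLib.SolvLinK
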