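import Cfsg.Agent.SolvLinK.Ratio
import Mathlib.GroupTheory.Sylow
import Mathlib.GroupTheory.Perm.Fin
import Mathlib.Data.Finite.Perm

/-!
Counting commuting pairs above a central subgroup.
-/

set_option autoImplicit false
set_option linter.style.haveILetI false
set_option linter.unusedSectionVars false

namespace CfsgLib.SolvLinK

universe u

variable {G : Type u} [Group G] [Finite G] (Z : Subgroup G) [Z.Normal]

theorem card_le_commute (hZ : Z ≤ Subgroup.center G) (h : G) (y : G ⧸ Z)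
    (hy : (h : G ⧸ Z) ∈ Subgroup.zpowers y) :
    Nat.card Z * orderOf y ≤ Nat.card {g : G // Commute h g} := by
  let T := (Subgroup.zpowers y).comap (QuotientGroup.mk' Z)
  have hT : Nat.card T = Nat.card Z * orderOf y := by
    have h1 := T.card_mul_index
    rw [Subgroup.index_comap_of_surjective _ (QuotientGroup.mk'_surjective Z),
      Subgroup.card_eq_card_quotient_mul_card_subgroup Z, ← (Subgroup.zpowers y).card_mul_index,
      Nat.card_zpowers] at h1
    exact Nat.eq_of_mul_eq_mul_right (Nat.pos_of_ne_zero Subgroup.index_ne_zero_of_finite) (h1.trans (by ring))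
  rw [← hT]
  refine Nat.card_le_card_of_injective (fun t : T => ⟨(t : G), ?_⟩) fun a b e => Subtype.ext (congrArg Subtype.val e :)
  obtain ⟨y', rfl⟩ := QuotientGroup.mk'_surjective Z y
  have key : ∀ t : G, (t : G ⧸ Z) ∈ Subgroup.zpowers (QuotientGroup.mk' Z y') →
      ∃ (i : ℤ) (w : G), w ∈ Z ∧ t = y' ^ i * w := by
    intro t ht
    obtain ⟨i, hi⟩ := Subgroup.mem_zpowers_iff.1 ht
    exact ⟨i, (y' ^ i)⁻¹ * t, QuotientGroup.eq.1 (by rw [← hi]; rfl), by group⟩
  obtain ⟨i, w, hw, hh⟩ := key h hy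
  obtain ⟨j, w', hw', ht⟩ := key t t.2
  rw [hh, ht]
  have hc : ∀ {u : G}, u ∈ Z → ∀ g, Commute u g := fun hu g => (Subgroup.mem_center_iff.1 (hZ hu) g).symm
  exact ((Commute.zpow_zpow_self y' i j).mul_right (hc hw' _).symm).mul_left ((hc hw _).mul_right (hc hw _))

theorem center_count [Fintype (G ⧸ Z)] [DecidableEq (G ⧸ Z)] (hZ : Z ≤ Subgroup.center G) (c : G ⧸ Z → ℕ)
    (hc : ∀ x, x ≠ 1 → ∃ y, x ∈ Subgroup.zpowers y ∧ c x ≤ orderOf y) :
    Nat.card Z ^ 2 * (Nat.card (G ⧸ Z) + ∑ x ∈ Finset.univ.erase (1 : G ⧸ Z), c x) ≤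
      Nat.card (ConjClasses G) * Nat.card G := by
  haveI := Fintype.ofFinite G
  haveI := Fintype.ofFinite Z
  rw [← card_comm_eq_card_conjClasses_mul_card, Nat.card_congr
    (show {p : G × G // Commute p.1 p.2} ≃ Σ h : G, {g : G // Commute h g} from
      { toFun := fun p => ⟨p.1.1, p.1.2, p.2⟩
        invFun := fun p => ⟨(p.1, p.2.1), p.2.2⟩
        left_inv := fun _ => rfl
        right_inv := fun _ => rfl }), Nat.card_sigma]
  have e := Fintype.sum_equiv (Subgroup.groupEquivQuotientProdSubgroup (s := Z)).symm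
    (fun p => Nat.card {g : G // Commute ((Subgroup.groupEquivQuotientProdSubgroup (s := Z)).symm p) g})
    (fun h => Nat.card {g : G // Commute h g}) fun p => rfl
  rw [← e, Fintype.sum_prod_type, ← Finset.add_sum_erase _ _ (Finset.mem_univ (1 : G ⧸ Z)), mul_add,
    Finset.mul_sum]
  have hmk : ∀ (x : G ⧸ Z) (w : Z),
      ((Subgroup.groupEquivQuotientProdSubgroup (s := Z)).symm (x, w) : G ⧸ Z) = x := fun x w => by
    have h := (Subgroup.groupEquivQuotientProdSubgroup (s := Z)).apply_symm_apply (x, w)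
    exact congrArg Prod.fst h
  refine Nat.add_le_add ?_ (Finset.sum_le_sum fun x hx => ?_)
  · have h1 : ∀ w : Z, Nat.card Z * Nat.card (G ⧸ Z) ≤
        Nat.card {g : G // Commute ((Subgroup.groupEquivQuotientProdSubgroup (s := Z)).symm (1, w)) g} := by
      intro w
      have hz : (Subgroup.groupEquivQuotientProdSubgroup (s := Z)).symm (1, w) ∈ Z :=
        (QuotientGroup.eq_one_iff _).1 (hmk 1 w)
      rw [Nat.card_congr (Equiv.subtypeUnivEquiv
          (p := fun g => Commute ((Subgroup.groupEquivQuotientProdSubgroup (s := Z)).symm (1, w)) g)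
          fun g => (Subgroup.mem_center_iff.1 (hZ hz) g).symm),
        mul_comm, ← Subgroup.card_eq_card_quotient_mul_card_subgroup]
    refine le_trans (le_of_eq ?_) (Finset.sum_le_sum fun w _ => h1 w)
    rw [Finset.sum_const, Finset.card_univ, smul_eq_mul, ← Nat.card_eq_fintype_card, sq, mul_assoc]
  · obtain ⟨y, hy, hcy⟩ := hc x (Finset.mem_erase.1 hx).1
    refine le_trans (le_of_eq ?_) (Finset.sum_le_sum (f := fun _ : Z => Nat.card Z * c x) fun w _ =>
      (Nat.mul_le_mul_left _ hcy).trans (card_le_commute Z hZ _ y (by rw [hmk]; exact hy)))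
    rw [Finset.sum_const, Finset.card_univ, smul_eq_mul, ← Nat.card_eq_fintype_card, sq, mul_assoc]

theorem rb_of_center_count [Fintype (G ⧸ Z)] [DecidableEq (G ⧸ Z)] (hZ : Z ≤ Subgroup.center G) (c : G ⧸ Z → ℕ)
    (hc : ∀ x, x ≠ 1 → ∃ y, x ∈ Subgroup.zpowers y ∧ c x ≤ orderOf y) :
    RB G ((Nat.card (G ⧸ Z) : ℚ) ^ 2 /
      (Nat.card (G ⧸ Z) + ∑ x ∈ Finset.univ.erase (1 : G ⧸ Z), c x : ℕ)) := by
  have h := center_count Z hZ c hc
  have hG : (Nat.card G : ℚ) = Nat.card (G ⧸ Z) * Nat.card Z := by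
    exact_mod_cast Subgroup.card_eq_card_quotient_mul_card_subgroup Z
  set N := Nat.card (G ⧸ Z) + ∑ x ∈ Finset.univ.erase (1 : G ⧸ Z), c x
  have hN : (0 : ℚ) < (N : ℚ) := by exact_mod_cast Nat.add_pos_left Nat.card_pos _
  have hz : (0 : ℚ) < Nat.card Z := by exact_mod_cast Nat.card_pos
  have h' : (Nat.card Z : ℚ) ^ 2 * N ≤ Nat.card (ConjClasses G) * Nat.card G := by exact_mod_cast h
  rw [RB, div_mul_eq_mul_div, le_div_iff₀ hN]
  rw [hG] at h' ⊢
  refine le_of_mul_le_mul_left ?_ hz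
  calc (Nat.card Z : ℚ) * (Nat.card (G ⧸ Z) * Nat.card Z * N)
      = Nat.card (G ⧸ Z) * ((Nat.card Z : ℚ) ^ 2 * N) := by ring
    _ ≤ Nat.card (G ⧸ Z) * (Nat.card (ConjClasses G) * (Nat.card (G ⧸ Z) * Nat.card Z)) :=
        mul_le_mul_of_nonneg_left h' (Nat.cast_nonneg _)
    _ = _ := by ring

theorem two_le_orderOf {H : Type*} [Group H] [Finite H] {x : H} (hx : x ≠ 1) : 2 ≤ orderOf x := by
  have h1 : orderOf x ≠ 1 := fun h => hx (orderOf_eq_one_iff.1 h)
  have := orderOf_pos x
  omega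

/-- Above a central subgroup of index `X` the ratio is at most `(X + 1) / 3`. -/
theorem rb_center (hZ : Z ≤ Subgroup.center G) (hX : 2 ≤ Nat.card (G ⧸ Z)) : RB G (((Nat.card (G ⧸ Z) : ℚ) + 1) / 3) := by
  classical
  haveI := Fintype.ofFinite (G ⧸ Z)
  refine (rb_of_center_count Z hZ (fun _ => 2) fun x hx =>
    ⟨x, Subgroup.mem_zpowers x, two_le_orderOf hx⟩).mono ?_
  rw [Finset.sum_const, Finset.card_erase_of_mem (Finset.mem_univ _), Finset.card_univ, ← Nat.card_eq_fintype_card,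
    smul_eq_mul]
  have h1 : 1 ≤ Nat.card (G ⧸ Z) := Nat.card_pos
  push_cast [h1]
  have h1' : (2 : ℚ) ≤ Nat.card (G ⧸ Z) := by exact_mod_cast hX
  rw [div_le_iff₀ (by linarith)]
  nlinarith

/-- The weights on the symmetric group of degree four. -/
def symWeight (x : Equiv.Perm (Fin 4)) : ℕ :=
  if x ^ 3 = 1 then 3 else if x ^ 2 ≠ 1 ∨ ∀ i, x i ≠ i then 4 else 2

set_option maxRecDepth 8000 in
theorem symWeight_le : ∀ x : Equiv.Perm (Fin 4), x ≠ 1 → ∃ y : Equiv.Perm (Fin 4),
    (∃ i : Fin 4, x = y ^ (i : ℕ)) ∧ ∀ j : Fin 4, 0 < (j : ℕ) → (j : ℕ) < symWeight x → y ^ (j : ℕ) ≠ 1 := by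
  decide +kernel

theorem symWeight_sum : ∑ x ∈ (Finset.univ.erase (1 : Equiv.Perm (Fin 4))), symWeight x = 72 := by
  decide +kernel

/-- A group of order 24 with a self-centralising minimal normal subgroup of order four. -/
theorem exists_equiv_perm_four {X : Type*} [Group X] [Finite X] (hX : Nat.card X = 24) (N : Subgroup X)
    [hN : N.Normal] (hN4 : Nat.card N = 4) (hC : Subgroup.centralizer (N : Set X) ≤ N)
    (hmin : ∀ K : Subgroup X, K.Normal → K ≤ N → K = ⊥ ∨ K = N) : Nonempty (X ≃* Equiv.Perm (Fin 4)) := by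
  haveI : Fact (Nat.Prime 3) := ⟨Nat.prime_three⟩
  obtain ⟨P⟩ := Sylow.nonempty (p := 3) (G := X)
  have hP : Nat.card P = 3 := by
    rw [Sylow.card_eq_multiplicity, hX, show (24 : ℕ).factorization 3 = 1 by
      rw [show (24 : ℕ) = 8 * 3 by norm_num, Nat.factorization_mul (by norm_num) (by norm_num)]
      rw [Finsupp.add_apply, Nat.factorization_eq_zero_of_not_dvd (by norm_num : ¬ 3 ∣ 8),
        Nat.Prime.factorization_self Nat.prime_three], pow_one]
  have hdisj : ∀ K : Subgroup X, K.Normal → K ⊓ N = ⊥ → K = ⊥ := fun K hK hKN => by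
    refine eq_bot_iff.2 fun x hx => ?_
    rw [← hKN]
    exact ⟨hx, hC fun y hy => (Subgroup.commute_of_normal_of_disjoint K N hK hN
      (disjoint_iff.2 hKN) x y hx hy).symm⟩
  have hn : Nat.card (Sylow 3 X) = 4 := by
    have h1 := card_sylow_modEq_one 3 X
    have h2 : Nat.card (Sylow 3 X) ∣ 8 := by
      have := P.card_dvd_index
      have h3 := (P : Subgroup X).card_mul_index
      rw [hP, hX] at h3
      rwa [show (P : Subgroup X).index = 8 by omega] at this
    have hne : Nat.card (Sylow 3 X) ≠ 1 := by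
      intro h
      haveI : Subsingleton (Sylow 3 X) := (Nat.card_eq_one_iff_unique.1 h).1
      have hPn : (P : Subgroup X).Normal := P.normal_of_subsingleton
      have := hdisj _ hPn (disjoint_iff.1 (Subgroup.disjoint_of_coprime_natCard (by rw [hP, hN4]; norm_num)))
      rw [this, Subgroup.card_bot] at hP
      omega
    obtain ⟨c, hc⟩ : ∃ c, Nat.card (Sylow 3 X) = c := ⟨_, rfl⟩
    rw [hc] at h1 h2 hne ⊢
    have : c ≤ 8 := Nat.le_of_dvd (by norm_num) h2
    rw [Nat.ModEq] at h1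
    interval_cases c <;> omega
  haveI : Fintype (Sylow 3 X) := Fintype.ofFinite _
  let π : X →* Equiv.Perm (Sylow 3 X) := MulAction.toPermHom X (Sylow 3 X)
  have hinj : Function.Injective π := by
    rw [← MonoidHom.ker_eq_bot_iff]
    refine hdisj _ π.normal_ker ((hmin (π.ker ⊓ N) inferInstance inf_le_right).resolve_right fun h => ?_)
    have hle : N ≤ MulAction.stabilizer X P := fun x hx =>
      DFunLike.congr_fun (MonoidHom.mem_ker.1 (h.ge hx).1) P
    have h4 := Subgroup.card_dvd_of_le hle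
    have h5 := (MulAction.stabilizer X P).card_mul_index
    rw [MulAction.index_stabilizer_of_transitive, hn, hX] at h5
    rw [hN4, show Nat.card (MulAction.stabilizer X P) = 6 by omega] at h4
    norm_num at h4
  have hbij : Function.Bijective π := (Nat.bijective_iff_injective_and_card π).2
    ⟨hinj, by rw [Nat.card_perm, hn, hX]; rfl⟩
  exact ⟨(MulEquiv.ofBijective π hbij).trans
    (Finite.equivFinOfCardEq hn).permCongrHom⟩

end CfsgLib.SolvLinK
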