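import Cfsg.Agent.SolvLinK.Clifford
import Cfsg.Agent.SolvLinK.Binary
import Cfsg.Agent.SolvLinK.CenterCount
import Cfsg.Agent.SolvLinK.Arith
import Mathlib.RingTheory.RootsOfUnity.Basic
import Mathlib.GroupTheory.Commutator.Basic
import Mathlib.GroupTheory.NoncommCoprod
import Mathlib.GroupTheory.Abelianization.Defs

/-!
Primitive solvable linear groups: the extraspecial layer.
-/

set_option autoImplicit false
set_option linter.style.haveILetI false
set_option linter.unusedSectionVars false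

open scoped commutatorElement

namespace CfsgLib.SolvLinK

open Module

universe u v w

variable {k : Type w} [Field k] {W : Type v} [AddCommGroup W] [Module k W]
variable {G : Type u} [Group G]

/-- The bound for completely reducible groups of smaller dimension. -/
def BoundBelow (k : Type w) [Field k] (d : ℕ) : Prop :=
  ∀ m, m < d → ∀ (H : Type u) [Group H] [Finite H] (U : Type v) [AddCommGroup U] [Module k U]
    [FiniteDimensional k U] (σ : H →* Module.End k U),
    Function.Injective σ → Group.IsSolvable H → IsCR σ → finrank k U = m → RB H (gB m)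

/-- The exceptional groups in dimension two. -/
def IsOctType (π : G →* Module.End k W) : Prop :=
  ∃ z, Nat.card G = 24 * z ∧ 4 * z ≤ Nat.card (ConjClasses G) ∧ 2 ∣ z ∧
    Nat.card (Subgroup.center G) = z ∧ ∀ x ∈ Subgroup.center G, ∃ c : k, π x = c • (1 : Module.End k W)

/-- The character of a common eigenvector. -/
theorem exists_eigHom (ρ : G →* Module.End k W) {v : W} (hv : v ≠ 0)
    (h : ∀ a, ∃ c : k, ρ a v = c • v) : ∃ χ : G →* kˣ, ∀ a, ρ a v = (χ a : k) • v := by
  choose c hc using h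
  have hmul : ∀ a b, c (a * b) = c a * c b := fun a b => smul_left_injective k hv (by
    show c (a * b) • v = (c a * c b) • v
    rw [← hc, map_mul, Module.End.mul_apply, hc b, map_smul, hc a, smul_smul, mul_comm])
  have hone : c 1 = 1 := smul_left_injective k hv (by
    show c 1 • v = (1 : k) • v
    rw [← hc, map_one, one_smul]; rfl)
  exact ⟨MonoidHom.toHomUnits { toFun := c, map_one' := hone, map_mul' := hmul }, hc⟩

theorem exists_lifts (Z : Subgroup G) [Z.Normal] (E : Subgroup (G ⧸ Z)) (x : E) :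
    ∃ g : E.comap (QuotientGroup.mk' Z), ((g : G) : G ⧸ Z) = x := by
  obtain ⟨g, hg⟩ := QuotientGroup.mk'_surjective Z (x : G ⧸ Z)
  exact ⟨⟨g, by rw [Subgroup.mem_comap, hg]; exact x.2⟩, hg⟩

variable [IsAlgClosed k] [FiniteDimensional k W] [Finite G] (π : G →* Module.End k W)

theorem primitive_case (hinj : Function.Injective π) (hsol : Group.IsSolvable G) (hirr : IsIrr π)
    (hsc : ∀ A : Subgroup G, A.Normal → (∀ a ∈ A, ∀ b ∈ A, a * b = b * a) →
      ∀ a ∈ A, ∃ c : k, π a = c • (1 : Module.End k W))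
    {d : ℕ} (hd : finrank k W = d) (hd2 : 2 ≤ d) (ih : BoundBelow.{u, v, w} k d) :
    RB G (gB d) ∧ (d = 2 → RB G 4 ∨ IsOctType π) := by
  classical
  obtain ⟨v₀, -, hv₀⟩ := (Submodule.ne_bot_iff _).1 hirr.1
  set Z := Subgroup.center G with hZdef
  have hcentral : ∀ (g : G) (c : k), π g = c • (1 : Module.End k W) → g ∈ Z := fun g c hg =>
    Subgroup.mem_center_iff.2 fun x => hinj (by
      rw [map_mul, map_mul, hg, mul_smul_comm, smul_mul_assoc, mul_one, one_mul])
  have hZs : ∀ z ∈ Z, ∃ c : k, π z = c • (1 : Module.End k W) :=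
    hsc Z inferInstance fun a ha b _ => (Subgroup.mem_center_iff.1 ha b).symm
  obtain ⟨ζ, hζ⟩ := exists_eigHom (π.comp Z.subtype) hv₀ fun z => by
    obtain ⟨c, hc⟩ := hZs z z.2
    exact ⟨c, LinearMap.congr_fun hc v₀⟩
  have hζ1 : ∀ z : Z, π z = (ζ z : k) • (1 : Module.End k W) := fun z => by
    obtain ⟨c, hc⟩ := hZs z z.2
    rw [hc]
    congr 1
    refine smul_left_injective k hv₀ ?_
    show c • v₀ = (ζ z : k) • v₀
    rw [← hζ z]
    exact (LinearMap.congr_fun hc v₀).symm
  have hζinj : Function.Injective ζ := fun a b h => Subtype.ext (hinj (by rw [hζ1, hζ1, h]))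
  -- the group is not commutative
  have hX1 : (⊤ : Subgroup (G ⧸ Z)) ≠ ⊥ := by
    intro h
    have hall : ∀ g : G, g ∈ Z := fun g => (QuotientGroup.eq_one_iff g).1
      (Subgroup.mem_bot.1 (h ▸ Subgroup.mem_top (g : G ⧸ Z)))
    have hline : Invt π (k ∙ v₀) := fun g x hx => by
      obtain ⟨c, rfl⟩ := Submodule.mem_span_singleton.1 hx
      obtain ⟨e, he⟩ := hZs g (hall g)
      rw [he]
      exact Submodule.mem_span_singleton.2 ⟨e * c, by simp [smul_smul, mul_comm]⟩
    have h1 : (k ∙ v₀) = ⊤ := (hirr.2 _ hline).resolve_left fun h0 => hv₀ (Submodule.span_singleton_eq_bot.1 h0)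
    have := finrank_span_singleton (K := k) hv₀
    rw [h1, finrank_top, hd] at this
    omega
  haveI : Group.IsSolvable (G ⧸ Z) := Group.isSolvable_of_surjective (QuotientGroup.mk'_surjective Z)
  haveI : Group.IsSolvable (⊤ : Subgroup (G ⧸ Z)) :=
    Group.isSolvable_of_isSolvable_injective (Subgroup.subtype_injective (⊤ : Subgroup (G ⧸ Z)))
  obtain ⟨Eb, hEbn, hEb0, -, hEbc, hmin, q, hq, hexp, hEbp⟩ :=
    CfsgLib.Solvable.exists_normal_elementary_le (N := (⊤ : Subgroup (G ⧸ Z))) hX1 inferInstance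
  haveI := hEbn
  haveI : Fact q.Prime := ⟨hq⟩
  letI : CommGroup Eb := { (inferInstance : Group Eb) with mul_comm := fun a b => hEbc.is_comm.comm a b }
  let E : Subgroup G := Eb.comap (QuotientGroup.mk' Z)
  have hEn : E.Normal := Subgroup.Normal.comap hEbn _
  haveI := hEn
  -- the pairing
  have hmem : ∀ {g h : G}, g ∈ E → h ∈ E → ⁅g, h⁆ ∈ Z := by
    intro g h hg hh
    refine (QuotientGroup.eq_one_iff _).1 ?_
    show QuotientGroup.mk' Z ⁅g, h⁆ = 1
    rw [map_commutatorElement, commutatorElement_eq_one_iff_mul_comm]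
    exact congrArg Subtype.val (mul_comm (⟨_, hg⟩ : Eb) ⟨_, hh⟩)
  have hc : ∀ {w : G}, w ∈ Z → ∀ g, g * w = w * g := fun hw g => Subgroup.mem_center_iff.1 hw g
  have hbr : ∀ {g g' h h' : G}, (g : G ⧸ Z) = g' → (h : G ⧸ Z) = h' → ⁅g, h⁆ = ⁅g', h'⁆ := by
    intro g g' h h' hg hh
    obtain ⟨w, hw, rfl⟩ : ∃ w ∈ Z, g' = g * w := ⟨g⁻¹ * g', QuotientGroup.eq.1 hg, by group⟩
    obtain ⟨x, hx, rfl⟩ : ∃ x ∈ Z, h' = h * x := ⟨h⁻¹ * h', QuotientGroup.eq.1 hh, by group⟩
    simp only [commutatorElement_def, mul_inv_rev]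
    rw [show g * w * (h * x) * (w⁻¹ * g⁻¹) * (x⁻¹ * h⁻¹) = g * (w * (h * x) * w⁻¹) * g⁻¹ * (x⁻¹ * h⁻¹) by group,
      ← hc hw (h * x), mul_inv_cancel_right,
      show g * (h * x) * g⁻¹ * (x⁻¹ * h⁻¹) = g * h * (x * g⁻¹ * x⁻¹) * h⁻¹ by group,
      ← hc hx g⁻¹, mul_inv_cancel_right]
  have hlift : ∀ x : Eb, (x : G ⧸ Z).out ∈ E := fun x => by
    show ((x : G ⧸ Z).out : G ⧸ Z) ∈ Eb
    rw [QuotientGroup.out_eq']; exact x.2
  let b : Eb → Eb → kˣ := fun x y => ζ ⟨_, hmem (hlift x) (hlift y)⟩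
  have hb : ∀ (x y : Eb) {g h : G} (hg : g ∈ E) (hh : h ∈ E), (g : G ⧸ Z) = x → (h : G ⧸ Z) = y →
      b x y = ζ ⟨⁅g, h⁆, hmem hg hh⟩ := fun x y g h hg hh e1 e2 =>
    congrArg ζ (Subtype.ext (hbr ((QuotientGroup.out_eq' _).trans e1.symm) ((QuotientGroup.out_eq' _).trans e2.symm)))
  have hbr_right : ∀ x y y', b x (y * y') = b x y * b x y' := by
    intro x y y'
    rw [hb x (y * y') (hlift x) (E.mul_mem (hlift y) (hlift y')) (QuotientGroup.out_eq' _)
      (by rw [QuotientGroup.mk_mul, QuotientGroup.out_eq', QuotientGroup.out_eq']; rfl)]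
    show ζ _ = ζ _ * ζ _
    rw [← map_mul]
    refine congrArg ζ (Subtype.ext ?_)
    show ⁅_, _ * _⁆ = ⁅_, _⁆ * ⁅_, _⁆
    conv_rhs => rw [← mul_inv_cancel_right ⁅(x : G ⧸ Z).out, (y' : G ⧸ Z).out⁆ (y : G ⧸ Z).out,
      ← hc (hmem (hlift x) (hlift y')) ((y : G ⧸ Z).out)]
    simp only [commutatorElement_def]
    group
  have hb_left : ∀ x x' y, b (x * x') y = b x y * b x' y := by
    intro x x' y
    rw [hb (x * x') y (E.mul_mem (hlift x) (hlift x')) (hlift y)
      (by rw [QuotientGroup.mk_mul, QuotientGroup.out_eq', QuotientGroup.out_eq']; rfl) (QuotientGroup.out_eq' _)]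
    show ζ _ = ζ _ * ζ _
    rw [mul_comm (ζ _), ← map_mul]
    refine congrArg ζ (Subtype.ext ?_)
    show ⁅_ * _, _⁆ = ⁅_, _⁆ * ⁅_, _⁆
    conv_rhs => rw [← mul_inv_cancel_right ⁅(x' : G ⧸ Z).out, (y : G ⧸ Z).out⁆ (x : G ⧸ Z).out,
      ← hc (hmem (hlift x') (hlift y)) ((x : G ⧸ Z).out)]
    simp only [commutatorElement_def]
    group
  let β : Eb →* Eb →* kˣ := MonoidHom.mk' (fun x => MonoidHom.mk' (b x) (hbr_right x))
    fun x x' => MonoidHom.ext (hb_left x x')
  have hβ : ∀ (x y : Eb) {g h : G} (hg : g ∈ E) (hh : h ∈ E), (g : G ⧸ Z) = x → (h : G ⧸ Z) = y →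
      β x y = ζ ⟨⁅g, h⁆, hmem hg hh⟩ := hb
  have hβ1 : ∀ (x y : Eb) {g h : G}, g ∈ E → h ∈ E → (g : G ⧸ Z) = x → (h : G ⧸ Z) = y →
      β x y = 1 → g * h = h * g := by
    intro x y g h hg hh e1 e2 h1
    rw [hβ x y hg hh e1 e2] at h1
    exact commutatorElement_eq_one_iff_mul_comm.1 (congrArg Subtype.val (hζinj (h1.trans (map_one ζ).symm)))
  have hself : ∀ x, β x x = 1 := fun x => by
    rw [hβ x x (hlift x) (hlift x) (QuotientGroup.out_eq' _) (QuotientGroup.out_eq' _)]
    have : (⟨_, hmem (hlift x) (hlift x)⟩ : Z) = 1 := Subtype.ext (commutatorElement_self _)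
    rw [this, map_one]
  have hskew : ∀ x y, β x y * β y x = 1 := fun x y => by
    have := hself (x * y)
    rwa [map_mul (β (x * y)), map_mul β, MonoidHom.mul_apply, MonoidHom.mul_apply, hself x, hself y, one_mul, mul_one,
      mul_comm] at this
  have hnd : ∀ y, (∀ x, β x y = 1) → y = 1 := by
    intro y hy
    let Y : Subgroup G := E ⊓ Subgroup.centralizer (E : Set G)
    have hmemY : (y : G ⧸ Z).out ∈ Y := by
      refine ⟨hlift y, fun g hg => ?_⟩
      exact hβ1 ⟨_, hg⟩ y hg (hlift y) rfl (QuotientGroup.out_eq' _) (hy _)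
    have hYs := hsc Y inferInstance (fun a ha c hc' => (ha.2 c hc'.1).symm) _ hmemY
    obtain ⟨c, hc'⟩ := hYs
    refine Subtype.ext ?_
    rw [← QuotientGroup.out_eq' (y : G ⧸ Z)]
    exact (QuotientGroup.eq_one_iff _).2 (hcentral _ c hc')
  have hndl : ∀ x, (∀ y, β x y = 1) → x = 1 := fun x hx => hnd x fun y => by
    have := hskew x y
    rwa [hx y, one_mul] at this
  -- a maximal isotropic subgroup
  obtain ⟨Ab, hAb⟩ := Set.Finite.exists_maximalFor (fun L : Subgroup Eb => Nat.card L)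
    {L : Subgroup Eb | L ≤ perp β L} (Set.toFinite _) ⟨⊥, (bot_le : ⊥ ≤ perp β ⊥)⟩
  have hperp : perp β Ab = Ab := by
    refine le_antisymm (fun x hx => ?_) hAb.1
    let L := Ab ⊔ Subgroup.zpowers x
    have hL : L ≤ perp β L := by
      intro y hy h hh
      have h1 : y ∈ perp β Ab := sup_le hAb.1 (Subgroup.zpowers_le.2 hx) hy
      have h2 : y ∈ perp β (Subgroup.zpowers x) := by
        refine (sup_le (fun a ha h' hh' => ?_) (Subgroup.zpowers_le.2 fun h' hh' => ?_) : L ≤ perp β (Subgroup.zpowers x)) hy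
        · obtain ⟨i, rfl⟩ := Subgroup.mem_zpowers_iff.1 hh'
          have := hskew a x
          rw [hx a ha, mul_one] at this
          rw [map_zpow, this, one_zpow]
        · obtain ⟨i, rfl⟩ := Subgroup.mem_zpowers_iff.1 hh'
          rw [map_zpow, hself, one_zpow]
      exact (sup_le (fun a ha => MonoidHom.mem_ker.2 (h1 a ha))
        (fun a ha => MonoidHom.mem_ker.2 (h2 a ha)) : L ≤ (β y).ker) hh
    have hle : Ab ≤ L := le_sup_left
    have := CfsgLib.Solvable.eq_of_le_of_card_le hle (hAb.2 hL (Subgroup.card_le_of_le hle))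
    exact this.ge (Subgroup.mem_sup_right (Subgroup.mem_zpowers x))
  haveI := finite_monoidHom_units (k := k) Ab
  let r : Eb →* (Ab →* kˣ) := (MonoidHom.compHom' Ab.subtype).comp β
  have hrker : r.ker = Ab := by
    refine Eq.trans ?_ hperp
    ext x
    rw [MonoidHom.mem_ker]
    exact ⟨fun h y hy => DFunLike.congr_fun h ⟨y, hy⟩, fun h => MonoidHom.ext fun y => h y y.2⟩
  have hidx : Nat.card r.range = Ab.index := by rw [← Subgroup.index_ker, hrker]
  have hle1 : Nat.card Ab * Nat.card Ab ≤ Nat.card Eb := by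
    have := card_mul_perp_le β hnd Ab
    rwa [hperp] at this
  have hle2 : Nat.card r.range ≤ Nat.card Ab :=
    (Subgroup.card_le_card_group _).trans (card_monoidHom_units_le Ab)
  have hEcard : Nat.card Ab * Ab.index = Nat.card Eb := Ab.card_mul_index
  have hAe : Ab.index = Nat.card Ab := le_antisymm (hidx ▸ hle2) (Nat.le_of_mul_le_mul_left (hEcard ▸ hle1) Nat.card_pos)
  have hrsurj : Function.Surjective r := fun f => by
    have : r.range = ⊤ := CfsgLib.Solvable.eq_of_le_of_card_le le_top (by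
      rw [Subgroup.card_top, hidx, hAe]; exact card_monoidHom_units_le Ab)
    exact this.ge (Subgroup.mem_top f)
  obtain ⟨n, hn⟩ := IsPGroup.iff_card.1 (hEbp.to_subgroup Ab)
  have hEb : Nat.card Eb = (q ^ n) ^ 2 := by rw [← hEcard, hAe, hn, sq]
  have hn1 : 1 ≤ n := by
    by_contra hc'
    obtain rfl : n = 0 := by omega
    exact hEb0 (Subgroup.eq_bot_of_card_eq _ (by simpa using hEb))
  -- the eigenspace of the isotropic subgroup
  let pE : E →* Eb := ((QuotientGroup.mk' Z).comp E.subtype).codRestrict Eb fun g => g.2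
  have hpE : Function.Surjective pE := fun x => by
    obtain ⟨g, hg⟩ := exists_lifts Z Eb x
    exact ⟨g, Subtype.ext hg⟩
  let A : Subgroup E := Ab.comap pE
  haveI hAn : A.Normal := Subgroup.Normal.comap (H := Ab) ⟨fun a ha g => by rwa [mul_comm g, mul_inv_cancel_right]⟩ _
  have hAidx : A.index = q ^ n := by rw [Subgroup.index_comap_of_surjective _ hpE, hAe, hn]
  have hAab : ∀ a ∈ A, ∀ c ∈ A, a * c = c * a := fun a ha c hc' => Subtype.ext
    (hβ1 (pE a) (pE c) a.2 c.2 rfl rfl (hAb.1 ha _ hc'))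
  set πE : E →* Module.End k W := π.comp E.subtype with hπE
  obtain ⟨v, hv0, hvA⟩ := exists_common_eigvec (π := πE.comp A.subtype) hirr.1 fun a c => by
    rw [← map_mul, ← map_mul]
    exact congrArg _ (Subtype.ext (hAab a a.2 c c.2))
  obtain ⟨Λ, hΛ⟩ := exists_eigHom (πE.comp A.subtype) hv0 hvA
  let lam : E → k := fun a => if h : a ∈ A then (Λ ⟨a, h⟩ : k) else 0
  have hlam : ∀ (a : E) (h : a ∈ A), lam a = (Λ ⟨a, h⟩ : k) := fun a h => dif_pos h
  have hvmem : v ∈ eigS πE A lam := fun a ha => by rw [hlam a ha]; exact hΛ ⟨a, ha⟩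
  have hcommA : ∀ (g a : E), a ∈ A → ∀ {x : W} {μ : k}, π a x = μ • x →
      π ((g : G) * a * (g : G)⁻¹) x = ((β (pE g) (pE a) : kˣ) : k) • μ • x := by
    intro g a _ x μ hx
    rw [show ((g : G) * a * (g : G)⁻¹) = ⁅(g : G), (a : G)⁆ * a by simp [commutatorElement_def],
      map_mul, Module.End.mul_apply, hx, hβ (pE g) (pE a) g.2 a.2 rfl rfl,
      show π ⁅(g : G), (a : G)⁆ = _ from hζ1 ⟨_, hmem g.2 a.2⟩]
    rfl
  have hconjA : ∀ (g : E) {a : E}, a ∈ A → g * a * g⁻¹ ∈ A := fun g a ha => hAn.conj_mem a ha g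
  have hstab : valStab A lam = A := by
    ext g
    constructor
    · intro hg
      show pE g ∈ Ab
      rw [← hperp]
      intro y hy
      obtain ⟨a, rfl⟩ := hpE y
      have ha : a ∈ A := hy
      have h1 := hg a ha
      have h2 := hcommA g⁻¹ a ha (hΛ ⟨a, ha⟩ : π a v = _)
      have hm := hconjA g⁻¹ ha
      rw [inv_inv] at hm
      have h3 : π ((g : G)⁻¹ * a * (g : G)) v = lam (g⁻¹ * a * g) • v := by
        rw [hlam _ hm]; exact hΛ ⟨_, hm⟩
      rw [Subgroup.coe_inv, inv_inv] at h2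
      rw [h3, h1, hlam a ha, smul_smul] at h2
      have h4 := smul_left_injective k hv0 h2
      have h5 : β (pE g⁻¹) (pE a) = 1 := Units.ext (mul_left_eq_self₀.1 h4.symm |>.resolve_right (Units.ne_zero _))
      rw [map_inv, map_inv, MonoidHom.inv_apply, inv_eq_one] at h5
      exact h5
    · intro hg a ha
      rw [hAab _ (A.mul_mem (A.inv_mem hg) ha) _ hg, mul_inv_cancel_left]
  haveI : Fintype (E ⧸ valStab A lam) := Fintype.ofFinite _
  set W₁ := eigS πE A lam with hW₁
  have hspan : ⨆ g, W₁.map (πE g) = ⊤ := by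
    obtain ⟨Y', hY', hcompl⟩ := hirr.cr_normal E _ (invt_translates (π := πE) W₁)
    rcases eq_or_ne Y' ⊥ with rfl | hY0
    · simpa using hcompl.sup_eq_top
    exfalso
    have hY'A : Invt (πE.comp A.subtype) Y' := fun a => hY' a
    haveI : Nontrivial Y' := Submodule.nontrivial_iff_ne_bot.2 hY0
    obtain ⟨w, hw0, hwA⟩ := exists_common_eigvec (π := restrictRep _ Y' hY'A) top_ne_bot fun a c => by
      rw [← map_mul, ← map_mul]
      exact congrArg _ (Subtype.ext (hAab a a.2 c c.2))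
    obtain ⟨M, hM⟩ := exists_eigHom _ hw0 hwA
    have hMw : ∀ a : A, π (a : E) (w : W) = (M a : k) • (w : W) := fun a => congrArg Subtype.val (hM a)
    let pA : A →* Ab := (pE.comp A.subtype).codRestrict Ab fun a => a.2
    have hpA : Function.Surjective pA := fun y => by
      obtain ⟨a, ha⟩ := hpE y
      exact ⟨⟨a, show pE a ∈ Ab by rw [ha]; exact y.2⟩, Subtype.ext ha⟩
    let F : A →* kˣ := Λ * M⁻¹
    have hker : pA.ker ≤ F.ker := by
      intro a ha
      rw [MonoidHom.mem_ker] at ha ⊢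
      have haZ : ((a : E) : G) ∈ Z := (QuotientGroup.eq_one_iff _).1
        (congrArg (fun t : Ab => ((t : Eb) : G ⧸ Z)) ha)
      obtain ⟨c, hc'⟩ := hZs _ haZ
      have e1 : (Λ a : k) = c := smul_left_injective k hv0 (by
        show (Λ a : k) • v = c • v
        rw [← hΛ a]; exact LinearMap.congr_fun hc' v)
      have e2 : (M a : k) = c := smul_left_injective k (fun h => hw0 (Subtype.ext h) : (w : W) ≠ 0) (by
        show (M a : k) • (w : W) = c • (w : W)
        rw [← hMw a]; exact LinearMap.congr_fun hc' (w : W))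
      show Λ a * (M a)⁻¹ = 1
      rw [mul_inv_eq_one]
      exact Units.ext (e1.trans e2.symm)
    let f : Ab →* kˣ := pA.liftOfSurjective hpA ⟨F, hker⟩
    obtain ⟨x, hx⟩ := hrsurj f
    obtain ⟨g, rfl⟩ := hpE x
    have hfa : ∀ a : A, β (pE g) (pE a) = Λ a * (M a)⁻¹ := fun a => by
      have h1 : f (pA a) = F a := pA.liftOfRightInverse_comp_apply _ _ ⟨F, hker⟩ a
      rw [← hx] at h1
      exact h1
    have hmemW : π (g : G)⁻¹ (w : W) ∈ W₁ := by
      intro a ha
      show π (a : G) (π (g : G)⁻¹ (w : W)) = lam a • π (g : G)⁻¹ (w : W)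
      rw [rep_conj_apply, inv_inv, hcommA g a ha (hMw ⟨a, ha⟩), hfa ⟨a, ha⟩, smul_smul, Units.val_mul,
        mul_assoc, Units.inv_mul, mul_one, map_smul, hlam a ha]
    have hwY : (w : W) ∈ (⨆ g, W₁.map (πE g)) ⊓ Y' :=
      ⟨Submodule.mem_iSup_of_mem g ⟨_, hmemW, rep_apply_inv π (g : G) _⟩, w.2⟩
    rw [hcompl.inf_eq_bot, Submodule.mem_bot] at hwY
    exact hw0 (Subtype.ext hwY)
  have hdm : d = q ^ n * finrank k W₁ := by
    rw [← hd, finrank_blocks πE A lam hspan, hstab, hAidx]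
  set m := finrank k W₁ with hm
  have hm1 : 1 ≤ m := by
    haveI : Nontrivial W₁ := ⟨⟨⟨v, hvmem⟩, 0, fun h => hv0 (congrArg Subtype.val h)⟩⟩
    exact Module.finrank_pos
  have he2 : 2 ≤ q ^ n := hq.two_le.trans (Nat.le_self_pow (by omega) q)
  have hmd : m < d := by rw [hdm]; nlinarith
  -- the centraliser of the layer
  let C : Subgroup G := Subgroup.centralizer (E : Set G)
  have hCn : C.Normal := inferInstance
  have hCW : Invt (π.comp C.subtype) W₁ := by
    intro c x hx a ha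
    show π (a : G) (π (c : G) x) = lam a • π (c : G) x
    rw [← Module.End.mul_apply, ← map_mul, c.2 (a : G) a.2, map_mul, Module.End.mul_apply]
    exact (congrArg (π (c : G)) (hx a ha)).trans (map_smul _ _ _)
  let ρC : C →* Module.End k W₁ := restrictRep (π.comp C.subtype) W₁ hCW
  have hρC : Function.Injective ρC := by
    refine (injective_iff_map_eq_one ρC).2 fun c hc' => Subtype.ext (hinj ?_)
    show π (c : G) = π 1
    rw [map_one]
    refine eq_one_of_fix_blocks πE A lam hspan fun x y hy => ?_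
    have h1 : π (c : G) y = y := congrArg Subtype.val (LinearMap.congr_fun hc' ⟨y, hy⟩)
    show π (c : G) (π (x.out : G) y) = π (x.out : G) y
    rw [← Module.End.mul_apply, ← map_mul, ← c.2 _ x.out.2, map_mul, Module.End.mul_apply, h1]
  haveI : Group.IsSolvable C := Group.isSolvable_of_isSolvable_injective C.subtype_injective
  have hRC : RB C (gB m) := ih m hmd C W₁ ρC hρC inferInstance ((hirr.cr_normal C).restrict hCW) rfl
  -- the induced group of isometries
  let σ : G ⧸ Z →* MulAut Eb := MulAut.conjNormal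
  have hσ : ∀ (g : G) (x : Eb), ((σ (g : G ⧸ Z) x : Eb) : G ⧸ Z) = (g : G ⧸ Z) * x * (g : G ⧸ Z)⁻¹ :=
    fun g x => MulAut.conjNormal_apply _ x
  set S := σ.range with hSdef
  haveI : Finite (MulAut Eb) := finite_mulAut
  have hiso : ∀ φ ∈ S, ∀ x y, β (φ x) (φ y) = β x y := by
    rintro _ ⟨t, rfl⟩ x y
    obtain ⟨g, rfl⟩ := QuotientGroup.mk'_surjective Z t
    show β (σ (g : G ⧸ Z) x) (σ (g : G ⧸ Z) y) = β x y
    have hxy := hmem (hlift x) (hlift y)
    have e : ∀ z : Eb, ((g * (z : G ⧸ Z).out * g⁻¹ : G) : G ⧸ Z) = ((σ (g : G ⧸ Z) z : Eb) : G ⧸ Z) := fun z => by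
      rw [hσ, QuotientGroup.mk_mul, QuotientGroup.mk_mul, QuotientGroup.mk_inv, QuotientGroup.out_eq']
    rw [hβ _ _ (hEn.conj_mem _ (hlift x) g) (hEn.conj_mem _ (hlift y) g) (e x) (e y),
      hβ x y (hlift x) (hlift y) (QuotientGroup.out_eq' _) (QuotientGroup.out_eq' _)]
    refine congrArg ζ (Subtype.ext ?_)
    show ⁅g * _ * g⁻¹, g * _ * g⁻¹⁆ = ⁅(x : G ⧸ Z).out, (y : G ⧸ Z).out⁆
    conv_rhs => rw [← mul_inv_cancel_right ⁅(x : G ⧸ Z).out, (y : G ⧸ Z).out⁆ g, ← hc hxy g]
    simp only [commutatorElement_def]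
    group
  have hirrS : IrrAut S := by
    intro U hU
    have hUn : (U.map Eb.subtype).Normal := by
      refine ⟨?_⟩
      rintro _ ⟨y, hy, rfl⟩ t
      exact ⟨σ t y, hU _ ⟨t, rfl⟩ y hy, MulAut.conjNormal_apply t y⟩
    rcases hmin _ hUn (Subgroup.map_subtype_le U) with h | h
    · left
      exact Subgroup.map_injective (Subgroup.subtype_injective Eb) (h.trans (Subgroup.map_bot _).symm)
    · right
      refine eq_top_iff.2 fun y _ => ?_
      obtain ⟨z, hz, hzy⟩ := h.ge y.2
      rwa [← Subtype.ext hzy]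
  haveI hSsol : Group.IsSolvable S := Group.isSolvable_of_surjective σ.rangeRestrict_surjective
  set s := Nat.card S with hs
  have hcardEb : Nat.card Eb = q ^ (2 * n) := by rw [hEb, ← pow_mul, mul_comm]
  have hprod := card_isometry_le β hq hcardEb hnd (1 : MulAut Eb) (Finset.range (2 * n + 1))
    (fun H j _ hH => Finset.mem_range.2 (Nat.lt_succ_of_le ((Nat.pow_le_pow_iff_right hq.one_lt).1 (by
      rw [← hH, ← hcardEb]; exact Subgroup.card_le_card_group H)))) S hiso (fun φ _ => Commute.one_right φ)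
  have hsgen : s ≤ q ^ (n * (2 * n + 1)) := by
    refine hprod.trans ?_
    have : ∑ i ∈ Finset.range (2 * n), (2 * n - i) = n * (2 * n + 1) := by
      have h1 := Finset.sum_range_reflect (fun i => i + 1) (2 * n)
      rw [Finset.sum_congr rfl fun i hi => show (2 * n - 1 - i) + 1 = 2 * n - i by
        have := Finset.mem_range.1 hi; omega] at h1
      rw [h1, Finset.sum_add_distrib, Finset.sum_const, Finset.card_range, smul_eq_mul, mul_one]
      have h2 := Finset.sum_range_id_mul_two (2 * n)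
      obtain ⟨n', rfl⟩ : ∃ n', n = n' + 1 := ⟨n - 1, by omega⟩
      rw [show 2 * (n' + 1) - 1 = 2 * n' + 1 by omega] at h2
      nlinarith
    rw [← this, ← Finset.prod_pow_eq_pow_sum]
    refine le_trans (Finset.prod_le_prod_of_subset_of_one_le' (Finset.filter_subset _ _) fun i hi _ => ?_)
      (Finset.prod_le_prod' fun i _ => min_le_right _ _)
    have := Nat.pow_lt_pow_right hq.one_lt (Finset.mem_range.1 hi)
    have := pow_pos hq.pos (2 * n - i)
    omega
  have hs3 : q = 3 → n = 1 → s ≤ 24 := by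
    rintro rfl rfl
    exact hprod.trans (by decide)
  have hexp2 : q = 2 → ∀ x : Eb, x ^ 2 = 1 := fun h x => Subtype.ext (by
    rw [Subgroup.coe_pow]; exact h ▸ hexp x x.2)
  have hs4 : q = 2 → n = 2 → s ≤ 144 := fun h1 h2 => by
    have := binary_bound (S := S) β hnd hiso hSsol hirrS (hexp2 h1) (n := 4) (Or.inl rfl)
      (by rw [hcardEb, h1, h2])
    simpa using this
  have hs8 : q = 2 → n = 3 → s ≤ 483840 := fun h1 h2 => by
    have := binary_bound (S := S) β hnd hiso hSsol hirrS (hexp2 h1) (n := 6) (Or.inr rfl)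
      (by rw [hcardEb, h1, h2])
    simpa using this
  have hs2 : q = 2 → n = 1 → s = 3 ∨ s = 6 := fun h1 h2 =>
    binary_two hirrS (by rw [hcardEb, h1, h2])
  haveI := finite_monoidHom_units (k := k) Eb
  have hβsurj : Function.Surjective β := by
    have hinjβ : Function.Injective β := (injective_iff_map_eq_one β).2 fun x hx =>
      hndl x fun y => DFunLike.congr_fun hx y
    exact ((Nat.bijective_iff_injective_and_card β).2 ⟨hinjβ, le_antisymm
      (Nat.card_le_card_of_injective β hinjβ) (card_monoidHom_units_le Eb)⟩).2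
  let K : Subgroup G := σ.ker.comap (QuotientGroup.mk' Z)
  have hKdec : ∀ g ∈ K, ∃ y ∈ E, ∃ c ∈ C, g = y * c := by
    intro g hg
    have htriv : ∀ x : Eb, (g : G ⧸ Z) * x * (g : G ⧸ Z)⁻¹ = x := fun x => by
      rw [← hσ]
      exact congrArg Subtype.val (DFunLike.congr_fun (show σ (g : G ⧸ Z) = 1 from hg) x)
    have hgm : ∀ x ∈ E, ⁅g, x⁆ ∈ Z := fun x hx => by
      refine (QuotientGroup.eq_one_iff _).1 ?_
      show QuotientGroup.mk' Z ⁅g, x⁆ = 1
      rw [map_commutatorElement, commutatorElement_eq_one_iff_mul_comm]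
      exact mul_inv_eq_iff_eq_mul.1 (htriv ⟨_, hx⟩)
    let φ : E →* kˣ := MonoidHom.mk' (fun x => ζ ⟨⁅g, (x : G)⁆, hgm x x.2⟩) fun x x' => by
      rw [← map_mul]
      refine congrArg ζ (Subtype.ext ?_)
      show ⁅g, (x : G) * x'⁆ = ⁅g, (x : G)⁆ * ⁅g, (x' : G)⁆
      conv_rhs => rw [← mul_inv_cancel_right ⁅g, (x' : G)⁆ (x : G), ← hc (hgm x' x'.2) (x : G)]
      simp only [commutatorElement_def]
      group
    have hφker : pE.ker ≤ φ.ker := fun x hx => by
      have hxZ : (x : G) ∈ Z := (QuotientGroup.eq_one_iff _).1 (congrArg Subtype.val hx)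
      refine MonoidHom.mem_ker.2 ?_
      show ζ ⟨⁅g, (x : G)⁆, hgm x x.2⟩ = 1
      have : (⟨⁅g, (x : G)⁆, hgm x x.2⟩ : Z) = 1 := Subtype.ext
        (commutatorElement_eq_one_iff_mul_comm.2 (hc hxZ g))
      rw [this, map_one]
    obtain ⟨y, hy⟩ := hβsurj (pE.liftOfSurjective hpE ⟨φ, hφker⟩)
    obtain ⟨y, rfl⟩ := hpE y
    refine ⟨y, y.2, (y : G)⁻¹ * g, fun x hx => ?_, by group⟩
    have h1 : β (pE y) (pE ⟨x, hx⟩) = φ ⟨x, hx⟩ := by
      rw [hy]; exact pE.liftOfRightInverse_comp_apply _ _ ⟨φ, hφker⟩ ⟨x, hx⟩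
    rw [hβ _ _ y.2 hx rfl rfl] at h1
    have h2 : ⁅(y : G), x⁆ = ⁅g, x⁆ := congrArg Subtype.val (hζinj h1)
    simp only [commutatorElement_def] at h2
    have h3 : (y : G) * x * (y : G)⁻¹ = g * x * g⁻¹ := mul_right_cancel h2
    calc x * ((y : G)⁻¹ * g) = (y : G)⁻¹ * ((y : G) * x * (y : G)⁻¹) * g := by group
      _ = (y : G)⁻¹ * g * x := by rw [h3]; group
  have hKidx : K.index = s := by
    rw [Subgroup.index_comap_of_surjective _ (QuotientGroup.mk'_surjective Z), Subgroup.index_ker]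
  -- the commutator of the layer
  have hRE : RB E (q : ℚ) := by
    refine RB.of_commutator ?_
    let T : Subgroup G := ((powMonoidHom q).comp ζ).ker.map Z.subtype
    have hle : commutator E ≤ T.comap E.subtype := by
      rw [commutator_def, Subgroup.commutator_le]
      rintro x - y -
      refine ⟨⟨⁅(x : G), (y : G)⁆, hmem x.2 y.2⟩, ?_, ?_⟩
      · show (ζ _) ^ q = 1
        rw [← hβ (pE x) (pE y) x.2 y.2 rfl rfl, ← MonoidHom.pow_apply, ← map_pow,
          show pE x ^ q = 1 from Subtype.ext (by rw [Subgroup.coe_pow]; exact hexp _ (pE x).2), map_one]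
        rfl
      · exact (map_commutatorElement E.subtype x y).symm
    have h1 : Nat.card (T.comap E.subtype) ≤ Nat.card T :=
      Nat.card_le_card_of_injective (fun x => (⟨((x : E) : G), x.2⟩ : T))
        fun a c h => Subtype.ext (Subtype.ext (congrArg Subtype.val h :))
    refine (Subgroup.card_le_of_le hle).trans (h1.trans ?_)
    rw [← Nat.card_congr (Subgroup.equivMapOfInjective _ _ (Subgroup.subtype_injective Z)).toEquiv]
    haveI : NeZero q := ⟨hq.ne_zero⟩
    refine le_trans (Nat.card_le_card_of_injective (fun z => (⟨ζ (z : Z), z.2⟩ : rootsOfUnity q k))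
      fun a c h => Subtype.ext (hζinj (congrArg Subtype.val h))) ?_
    exact card_rootsOfUnity k q
  have hECcomm : ∀ (x : E) (c : C), Commute (x : G) (c : G) := fun x c => c.2 x x.2
  let μ : E × C →* G := MonoidHom.noncommCoprod E.subtype C.subtype hECcomm
  have hKμ : K ≤ μ.range := fun g hg => by
    obtain ⟨y, hy, c, hc', rfl⟩ := hKdec g hg
    exact ⟨(⟨y, hy⟩, ⟨c, hc'⟩), rfl⟩
  have hRK : RB K ((q : ℚ) * gB m) :=
    ((hRE.prod hRC).of_surjective μ.rangeRestrict μ.rangeRestrict_surjective).of_injective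
      (Subgroup.inclusion hKμ) (Subgroup.inclusion_injective hKμ)
  rcases (by omega : m = 1 ∨ 2 ≤ m) with hm_one | hm2
  swap
  · refine ⟨?_, fun h => absurd h (by rw [hdm]; nlinarith)⟩
    have := RB.of_normal K hRK
    rw [hKidx, ← mul_assoc] at this
    rw [hdm]
    exact this.mono (mult_arith hq hn1 hm2 hsgen (fun a c => by rcases hs2 a c with h | h <;> omega) hs4 hs8 hs3)
  -- one dimensional multiplicity
  have hCZ : C ≤ Z := by
    intro c hc'
    have hcomm : ∀ a ∈ C, ∀ b ∈ C, a * b = b * a := by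
      intro a ha b hb'
      refine congrArg Subtype.val (hρC (a₁ := (⟨a, ha⟩ : C) * ⟨b, hb'⟩) (a₂ := ⟨b, hb'⟩ * ⟨a, ha⟩) ?_)
      obtain ⟨e, he⟩ := finrank_eq_one_iff'.1 hm_one
      rw [map_mul, map_mul]
      refine LinearMap.ext fun x => ?_
      obtain ⟨cx, rfl⟩ := he.2 x
      obtain ⟨ca, hca⟩ := he.2 (ρC ⟨a, ha⟩ e)
      obtain ⟨cb, hcb⟩ := he.2 (ρC ⟨b, hb'⟩ e)
      simp only [Module.End.mul_apply, map_smul, ← hca, ← hcb, smul_smul]
      ring_nf
    obtain ⟨x, hx⟩ := hsc C hCn hcomm c hc'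
    exact hcentral c x hx
  have hσker : σ.ker = Eb := by
    refine le_antisymm (fun t ht => ?_) fun t ht => MonoidHom.mem_ker.2 (MulEquiv.ext fun x => Subtype.ext ?_)
    · obtain ⟨g, rfl⟩ := QuotientGroup.mk'_surjective Z t
      obtain ⟨y, hy, c, hc', rfl⟩ := hKdec g ht
      rw [map_mul, show QuotientGroup.mk' Z c = 1 from (QuotientGroup.eq_one_iff c).2 (hCZ hc'), mul_one]
      exact hy
    · rw [MulAut.conjNormal_apply, MulAut.one_apply]
      rw [show t * (x : G ⧸ Z) = x * t from congrArg Subtype.val (mul_comm (⟨t, ht⟩ : Eb) x), mul_inv_cancel_right]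
  have hXcard : Nat.card (G ⧸ Z) = (q ^ n) ^ 2 * s := by
    rw [← σ.ker.card_mul_index, Subgroup.index_ker, hσker, hEb]
  rw [hm_one, mul_one] at hdm
  have hZle : Z ≤ Subgroup.center G := le_rfl
  by_cases he : q = 2 ∧ n = 1
  swap
  · refine ⟨?_, fun h => absurd ?_ he⟩
    · refine (rb_center Z hZle ?_).mono ?_
      · rw [hXcard]
        have : 1 ≤ s := Nat.card_pos
        nlinarith
      · rw [hXcard, hdm]
        exact center_arith hq hn1 he hsgen hs4 hs8 hs3
    · have h1 : q ≤ 2 := by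
        have : q ≤ q ^ n := Nat.le_self_pow (by omega) q
        omega
      have hq2 : q = 2 := le_antisymm h1 hq.two_le
      refine ⟨hq2, ?_⟩
      rw [hdm, hq2] at h
      exact (Nat.pow_eq_self_iff (by norm_num)).1 h
  obtain ⟨rfl, rfl⟩ := he
  norm_num at hdm hXcard hEb
  subst hdm
  haveI : Fintype (G ⧸ Z) := Fintype.ofFinite _
  have hgB : gB 2 = 6 := by norm_num [gB]
  rcases hs2 rfl rfl with hs' | hs' <;> rw [hs'] at hXcard
  · suffices h4 : RB G 4 by exact ⟨h4.mono (by rw [hgB]; norm_num), fun _ => Or.inl h4⟩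
    let c : G ⧸ Z → ℕ := fun x => if x ∈ Eb then 2 else 3
    refine (rb_of_center_count Z hZle c fun x hx => ⟨x, Subgroup.mem_zpowers x, ?_⟩).mono ?_
    · by_cases hxE : x ∈ Eb
      · simp only [c, if_pos hxE]; exact two_le_orderOf hx
      · simp only [c, if_neg hxE]
        have hne : (σ.rangeRestrict x) ≠ 1 := fun h => hxE (by
          rw [← hσker]; exact MonoidHom.mem_ker.2 (congrArg Subtype.val h))
        have h3 : orderOf (σ.rangeRestrict x) = 3 := by
          have hdvd := orderOf_dvd_natCard (σ.rangeRestrict x)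
          rw [show Nat.card σ.range = 3 from hs'] at hdvd
          exact ((Nat.dvd_prime Nat.prime_three).1 hdvd).resolve_left fun h => hne (orderOf_eq_one_iff.1 h)
        exact Nat.le_of_dvd (orderOf_pos x) (h3 ▸ orderOf_map_dvd σ.rangeRestrict x)
    · have hsum : 30 ≤ ∑ x ∈ Finset.univ.erase (1 : G ⧸ Z), c x := by
        have h1 := Finset.add_sum_erase Finset.univ c (Finset.mem_univ (1 : G ⧸ Z))
        have h2 : ∑ x, c x = 32 := by
          simp only [c]
          rw [Finset.sum_ite, Finset.sum_const, Finset.sum_const]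
          have hEf : (Finset.univ.filter fun x : G ⧸ Z => x ∈ Eb).card = 4 := by
            rw [← Fintype.card_subtype, ← Nat.card_eq_fintype_card]; exact hEb
          have hall : (Finset.univ : Finset (G ⧸ Z)).card = 12 := by
            rw [Finset.card_univ, ← Nat.card_eq_fintype_card, hXcard]
          have h3 := Finset.card_filter_add_card_filter_not (s := (Finset.univ : Finset (G ⧸ Z))) (fun x => x ∈ Eb)
          rw [smul_eq_mul, smul_eq_mul]
          omega
        have h3 : c 1 = 2 := if_pos Eb.one_mem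
        omega
      rw [hXcard]
      obtain ⟨N, hN⟩ : ∃ N, ∑ x ∈ Finset.univ.erase (1 : G ⧸ Z), c x = N := ⟨_, rfl⟩
      rw [hN] at hsum ⊢
      have : (30 : ℚ) ≤ (N : ℚ) := by exact_mod_cast hsum
      rw [Nat.cast_add]
      rw [div_le_iff₀ (by positivity)]
      norm_num
      linarith
  · have hC4 : Subgroup.centralizer (Eb : Set (G ⧸ Z)) ≤ Eb := fun t ht => by
      refine hσker.le ?_
      refine MonoidHom.mem_ker.2 (MulEquiv.ext fun x => Subtype.ext ?_)
      rw [MulAut.conjNormal_apply, MulAut.one_apply, ← ht x x.2, mul_inv_cancel_right]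
    obtain ⟨ψ⟩ := exists_equiv_perm_four hXcard Eb hEb hC4 hmin
    have hcount := center_count Z hZle (fun x => symWeight (ψ x)) fun x hx => by
      obtain ⟨y, ⟨i, hi⟩, hy⟩ := symWeight_le (ψ x) fun h => hx (ψ.injective (h.trans (map_one ψ).symm))
      refine ⟨ψ.symm y, ?_, ?_⟩
      · rw [show x = ψ.symm y ^ (i : ℕ) by rw [← map_pow, ← hi, ψ.symm_apply_apply]]
        exact Subgroup.pow_mem _ (Subgroup.mem_zpowers _) _
      · by_contra hlt
        have hwle : symWeight (ψ x) ≤ 4 := by unfold symWeight; split_ifs <;> omega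
        have hlt4 : orderOf (ψ.symm y) < 4 := by omega
        refine hy ⟨_, hlt4⟩ (orderOf_pos _) (by simp only; omega) ?_
        have := congrArg ψ (pow_orderOf_eq_one (ψ.symm y))
        rwa [map_pow, ψ.apply_symm_apply, map_one] at this
    have hsum : ∑ x ∈ Finset.univ.erase (1 : G ⧸ Z), symWeight (ψ x) = 72 := by
      rw [← symWeight_sum]
      exact Finset.sum_equiv ψ.toEquiv (fun x => by simp) (fun x _ => rfl)
    rw [hsum, hXcard] at hcount
    have hG : Nat.card G = 24 * Nat.card Z := by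
      rw [Subgroup.card_eq_card_quotient_mul_card_subgroup Z, hXcard]
    have hk : 4 * Nat.card Z ≤ Nat.card (ConjClasses G) := by
      rw [hG] at hcount
      have hpos : 0 < Nat.card Z := Nat.card_pos
      refine Nat.le_of_mul_le_mul_right (?_ : 4 * Nat.card Z * (24 * Nat.card Z) ≤ Nat.card (ConjClasses G) * (24 * Nat.card Z)) (by omega)
      calc 4 * Nat.card Z * (24 * Nat.card Z) = Nat.card Z ^ 2 * (24 + 72) := by ring
        _ ≤ _ := hcount
    refine ⟨?_, fun _ => Or.inr ⟨Nat.card Z, hG, hk, ?_, rfl, hZs⟩⟩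
    · rw [hgB, RB, hG]
      have : ((4 * Nat.card Z : ℕ) : ℚ) ≤ Nat.card (ConjClasses G) := by exact_mod_cast hk
      push_cast at this ⊢
      linarith
    · obtain ⟨x, hx⟩ : ∃ x : Eb, x ≠ 1 := by
        haveI := (Subgroup.nontrivial_iff_ne_bot Eb).2 hEb0
        exact exists_ne 1
      obtain ⟨y, hy⟩ : ∃ y, β y x ≠ 1 := by
        by_contra hcon
        push Not at hcon
        exact hx (hnd x hcon)
      set z : Z := ⟨_, hmem (hlift y) (hlift x)⟩
      have hz : β y x = ζ z := rfl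
      have hz2 : z ^ 2 = 1 := hζinj (by
        rw [map_pow, map_one, ← hz, ← MonoidHom.pow_apply, ← map_pow, hexp2 rfl y, map_one]; rfl)
      have hz1 : z ≠ 1 := fun h => hy (by rw [hz, h, map_one])
      rw [← orderOf_eq_prime hz2 hz1]
      exact orderOf_dvd_natCard z

end CfsgLib.SolvLinK
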