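import Mathlib.LinearAlgebra.Eigenspace.Triangularizable
import Mathlib.LinearAlgebra.Dimension.Constructions
import Mathlib.LinearAlgebra.Projection
import Mathlib.GroupTheory.Coset.Card

/-!
Clifford theory of finite linear groups: invariant complements and blocks of eigenvectors.
-/

set_option autoImplicit false
set_option linter.style.haveILetI false
set_option linter.unusedSectionVars false

namespace CfsgLib.SolvLinK

open Module

variable {k : Type*} [Field k] {W : Type*} [AddCommGroup W] [Module k W]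
variable {G : Type*} [Group G]

/-- A submodule invariant under a representation. -/
def Invt (π : G →* Module.End k W) (U : Submodule k W) : Prop := ∀ g, ∀ v ∈ U, π g v ∈ U

/-- No invariant submodules besides the two trivial ones. -/
def IsIrr (π : G →* Module.End k W) : Prop :=
  (⊤ : Submodule k W) ≠ ⊥ ∧ ∀ U, Invt π U → U = ⊥ ∨ U = ⊤

/-- Every invariant submodule has an invariant complement. -/
def IsCR (π : G →* Module.End k W) : Prop := ∀ U, Invt π U → ∃ U', Invt π U' ∧ IsCompl U U'

variable (π : G →* Module.End k W)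

theorem rep_inv_apply (g : G) (v : W) : π g⁻¹ (π g v) = v := by
  rw [← Module.End.mul_apply, ← map_mul, inv_mul_cancel, map_one]; rfl

theorem rep_apply_inv (g : G) (v : W) : π g (π g⁻¹ v) = v := by
  rw [← Module.End.mul_apply, ← map_mul, mul_inv_cancel, map_one]; rfl

theorem rep_injective (g : G) : Function.Injective (π g) :=
  Function.LeftInverse.injective (rep_inv_apply π g)

theorem rep_conj_apply (g a : G) (v : W) : π a (π g v) = π g (π (g⁻¹ * a * g) v) := by
  rw [← Module.End.mul_apply, ← map_mul, ← Module.End.mul_apply, ← map_mul]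
  congr 2
  group

/-- The representation on an invariant submodule. -/
def restrictRep (U : Submodule k W) (hU : Invt π U) : G →* Module.End k U where
  toFun g := (π g).restrict (hU g)
  map_one' := LinearMap.ext fun v => Subtype.ext (by
    show π 1 (v : W) = v
    rw [map_one]; rfl)
  map_mul' g h := LinearMap.ext fun v => Subtype.ext (by
    show π (g * h) (v : W) = π g (π h v)
    rw [map_mul]; rfl)

@[simp] theorem restrictRep_apply {U : Submodule k W} (hU : Invt π U) (g : G) (v : U) :
    (restrictRep π U hU g v : W) = π g v := rfl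

variable {π}

theorem IsCR.restrict (h : IsCR π) {U : Submodule k W} (hU : Invt π U) : IsCR (restrictRep π U hU) := by
  intro T hT
  have hT' : Invt π (T.map U.subtype) := by
    rintro g _ ⟨v, hv, rfl⟩
    exact ⟨restrictRep π U hU g v, hT g v hv, rfl⟩
  obtain ⟨T', hT'i, hc⟩ := h _ hT'
  refine ⟨T'.comap U.subtype, fun g v hv => hT'i g _ hv, ⟨?_, ?_⟩⟩
  · rw [disjoint_iff, eq_bot_iff]
    rintro v ⟨hv, hv'⟩
    have : (v : W) ∈ T.map U.subtype ⊓ T' := ⟨⟨v, hv, rfl⟩, hv'⟩
    rw [hc.inf_eq_bot, Submodule.mem_bot] at this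
    exact (Submodule.mem_bot _).2 (Subtype.ext this)
  · rw [codisjoint_iff, eq_top_iff]
    rintro v -
    obtain ⟨_, ⟨x, hx, rfl⟩, y, hy, hxy⟩ := Submodule.mem_sup.1
      (show (v : W) ∈ T.map U.subtype ⊔ T' by rw [hc.sup_eq_top]; trivial)
    have hyU : y ∈ U := by
      rw [show y = (v : W) - x by rw [← hxy]; simp]
      exact U.sub_mem v.2 x.2
    exact Submodule.mem_sup.2 ⟨x, hx, ⟨y, hyU⟩, hy, Subtype.ext hxy⟩

theorem invt_comp_surjective {H : Type*} [Group H] {f : G →* H} (hf : Function.Surjective f)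
    {σ : H →* Module.End k W} (h : ∀ g, σ (f g) = π g) {U : Submodule k W} : Invt σ U ↔ Invt π U := by
  constructor
  · intro hU g v hv
    rw [← h]; exact hU _ v hv
  · intro hU x v hv
    obtain ⟨g, rfl⟩ := hf x
    rw [h]; exact hU g v hv

theorem IsCR.of_surjective (hπ : IsCR π) {H : Type*} [Group H] {f : G →* H}
    (hf : Function.Surjective f) {σ : H →* Module.End k W} (h : ∀ g, σ (f g) = π g) : IsCR σ := by
  intro U hU
  obtain ⟨U', h1, h2⟩ := hπ U ((invt_comp_surjective hf h).1 hU)
  exact ⟨U', (invt_comp_surjective hf h).2 h1, h2⟩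

theorem invt_translates (U : Submodule k W) : Invt π (⨆ g, U.map (π g)) := by
  intro h v hv
  induction hv using Submodule.iSup_induction' with
  | mem g x hx =>
    obtain ⟨u, hu, rfl⟩ := hx
    refine Submodule.mem_iSup_of_mem (h * g) ⟨u, hu, ?_⟩
    rw [map_mul]; rfl
  | zero => rw [map_zero]; exact Submodule.zero_mem _
  | add x y _ _ hx hy => rw [map_add]; exact Submodule.add_mem _ hx hy

theorem IsIrr.span_translates (h : IsIrr π) {U : Submodule k W} (hU : U ≠ ⊥) :
    ⨆ g, U.map (π g) = ⊤ := by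
  refine (h.2 _ (invt_translates U)).resolve_left fun h0 => hU (eq_bot_iff.2 fun v hv => ?_)
  rw [← h0]
  exact Submodule.mem_iSup_of_mem 1 ⟨v, hv, by rw [map_one]; rfl⟩

theorem exists_minimal_invt [FiniteDimensional k W] {U : Submodule k W} (hU : Invt π U) (h0 : U ≠ ⊥) :
    ∃ M, M ≤ U ∧ M ≠ ⊥ ∧ Invt π M ∧ ∀ T, T ≤ M → Invt π T → T = ⊥ ∨ T = M := by
  obtain ⟨M, hM⟩ : ∃ M : Submodule k W, MinimalFor (fun M => M ≤ U ∧ M ≠ ⊥ ∧ Invt π M)
      (fun M => finrank k M) M :=
    exists_minimalFor_of_wellFoundedLT _ _ ⟨U, le_rfl, h0, hU⟩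
  refine ⟨M, hM.1.1, hM.1.2.1, hM.1.2.2, fun T hTM hT => or_iff_not_imp_left.2 fun hT0 => ?_⟩
  exact Submodule.eq_of_le_of_finrank_le hTM (hM.le_of_le ⟨hTM.trans hM.1.1, hT0, hT⟩ (Submodule.finrank_mono hTM))

/-- Clifford: a normal subgroup of an irreducible group is completely reducible. -/
theorem IsIrr.cr_normal [FiniteDimensional k W] (h : IsIrr π) (N : Subgroup G) [N.Normal] :
    IsCR (π.comp N.subtype) := by
  intro U hU
  obtain ⟨M, -, hM0, hM, hmin⟩ :=
    exists_minimal_invt (π := π.comp N.subtype) (U := ⊤) (fun _ _ _ => Submodule.mem_top) h.1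
  obtain ⟨U', hU'⟩ : ∃ U' : Submodule k W,
      MaximalFor (fun U' => Invt (π.comp N.subtype) U' ∧ U ⊓ U' = ⊥) (fun U' => finrank k U') U' := by
    obtain ⟨U', hU'⟩ : ∃ U' : Submodule k W,
        MinimalFor (fun U' => Invt (π.comp N.subtype) U' ∧ U ⊓ U' = ⊥)
          (fun U' => finrank k W - finrank k U') U' :=
      exists_minimalFor_of_wellFoundedLT _ _ ⟨⊥, fun g v hv => by
        rw [Submodule.mem_bot] at hv ⊢; rw [hv, map_zero], inf_bot_eq _⟩
    refine ⟨U', hU'.1, fun T hT hle => ?_⟩
    have h1 := hU'.le_of_le hT (by simp only at hle ⊢; omega)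
    have := Submodule.finrank_le T
    have := Submodule.finrank_le U'
    simp only at h1 hle ⊢
    omega
  refine ⟨U', hU'.1.1, ⟨disjoint_iff.2 hU'.1.2, codisjoint_iff.2 ?_⟩⟩
  by_contra htop
  have hsup : Invt (π.comp N.subtype) (U ⊔ U') := by
    intro n v hv
    obtain ⟨x, hx, y, hy, rfl⟩ := Submodule.mem_sup.1 hv
    rw [map_add]
    exact Submodule.add_mem_sup (hU n x hx) (hU'.1.1 n y hy)
  obtain ⟨g, hg⟩ : ∃ g : G, ¬ M.map (π g) ≤ U ⊔ U' := by
    by_contra hc
    push Not at hc
    exact htop (eq_top_iff.2 ((h.span_translates hM0).ge.trans (iSup_le hc)))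
  have hgM : Invt (π.comp N.subtype) (M.map (π g)) := by
    rintro n _ ⟨m, hm, rfl⟩
    refine ⟨π.comp N.subtype ⟨g⁻¹ * n * g, ?_⟩ m, hM _ m hm, ?_⟩
    · simpa using Subgroup.Normal.conj_mem ‹N.Normal› n n.2 g⁻¹
    · exact (rep_conj_apply π g n m).symm
  have hdis : (U ⊔ U') ⊓ M.map (π g) = ⊥ := by
    have hinv : Invt (π.comp N.subtype) (M ⊓ (U ⊔ U').comap (π g)) := by
      rintro n v ⟨hv, hv'⟩
      refine ⟨hM n v hv, ?_⟩
      show π g (π n v) ∈ U ⊔ U'
      have := hsup ⟨g * n * g⁻¹, Subgroup.Normal.conj_mem ‹N.Normal› n n.2 g⟩ (π g v) hv'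
      simp only [MonoidHom.comp_apply, Subgroup.coe_subtype] at this
      rwa [rep_conj_apply, show g⁻¹ * (g * n * g⁻¹) * g = (n : G) by group] at this
    rcases hmin _ inf_le_left hinv with h0 | h0
    · rw [eq_bot_iff]
      rintro _ ⟨hv, m, hm, rfl⟩
      have : m ∈ M ⊓ (U ⊔ U').comap (π g) := ⟨hm, hv⟩
      rw [h0, Submodule.mem_bot] at this
      rw [this, map_zero]; exact Submodule.zero_mem _
    · refine absurd (Submodule.map_le_iff_le_comap.2 ?_) hg
      rw [← h0]; exact inf_le_right
  have hnew : Invt (π.comp N.subtype) (U' ⊔ M.map (π g)) := by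
    intro n v hv
    obtain ⟨x, hx, y, hy, rfl⟩ := Submodule.mem_sup.1 hv
    rw [map_add]
    exact Submodule.add_mem_sup (hU'.1.1 n x hx) (hgM n y hy)
  have hnd : U ⊓ (U' ⊔ M.map (π g)) = ⊥ := by
    rw [eq_bot_iff]
    rintro u ⟨hu, hu'⟩
    obtain ⟨x, hx, y, hy, rfl⟩ := Submodule.mem_sup.1 hu'
    have hy' : y ∈ (U ⊔ U') ⊓ M.map (π g) := by
      refine ⟨?_, hy⟩
      rw [show y = (x + y) - x by simp]
      exact Submodule.sub_mem _ (Submodule.mem_sup_left hu) (Submodule.mem_sup_right hx)
    rw [hdis, Submodule.mem_bot] at hy'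
    subst hy'
    rw [add_zero] at hu ⊢
    rw [← hU'.1.2]; exact ⟨hu, hx⟩
  have hle := hU'.2 ⟨hnew, hnd⟩ (Submodule.finrank_mono le_sup_left)
  refine hg ?_
  have := Submodule.eq_of_le_of_finrank_le (le_sup_left : U' ≤ U' ⊔ M.map (π g)) hle
  rw [this]
  exact le_sup_right.trans le_sup_right

/-- A commutative group has a common eigenvector. -/
theorem exists_common_eigvec [IsAlgClosed k] [FiniteDimensional k W] (h0 : (⊤ : Submodule k W) ≠ ⊥)
    (hc : ∀ a b : G, π a * π b = π b * π a) : ∃ v : W, v ≠ 0 ∧ ∀ a, ∃ c : k, π a v = c • v := by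
  obtain ⟨M, -, hM0, hM, hmin⟩ :=
    exists_minimal_invt (π := π) (U := ⊤) (fun _ _ _ => Submodule.mem_top) h0
  obtain ⟨v, hv, hv0⟩ := (Submodule.ne_bot_iff _).1 hM0
  refine ⟨v, hv0, fun a => ?_⟩
  haveI : Nontrivial M := Submodule.nontrivial_iff_ne_bot.2 hM0
  obtain ⟨c, hc'⟩ := Module.End.exists_eigenvalue (restrictRep π M hM a)
  obtain ⟨w, hw, hw0⟩ := (Submodule.ne_bot_iff _).1 hc'
  rw [Module.End.mem_eigenspace_iff] at hw
  have hwW : π a (w : W) = c • (w : W) := congrArg Subtype.val hw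
  let T : Submodule k W := M ⊓ Module.End.eigenspace (π a) c
  have hT : Invt π T := by
    rintro b x ⟨hx, hx'⟩
    refine ⟨hM b x hx, ?_⟩
    rw [SetLike.mem_coe, Module.End.mem_eigenspace_iff] at hx' ⊢
    rw [← Module.End.mul_apply, hc, Module.End.mul_apply, hx', map_smul]
  have hT0 : T ≠ ⊥ := (Submodule.ne_bot_iff _).2
    ⟨w, ⟨w.2, Module.End.mem_eigenspace_iff.2 hwW⟩, fun h => hw0 (Subtype.ext h)⟩
  have hTM := (hmin T inf_le_left hT).resolve_left hT0
  rw [← hTM] at hv
  exact ⟨c, Module.End.mem_eigenspace_iff.1 hv.2⟩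

/-! ### Blocks of eigenvectors -/

variable (π)

/-- The common eigenvectors of `A` for the values `lam`. -/
def eigS (A : Subgroup G) (lam : G → k) : Submodule k W where
  carrier := {v | ∀ a ∈ A, π a v = lam a • v}
  add_mem' {v w} hv hw a ha := by rw [map_add, hv a ha, hw a ha, smul_add]
  zero_mem' a _ := by rw [map_zero, smul_zero]
  smul_mem' c v hv a ha := by rw [map_smul, hv a ha, smul_comm]

theorem mem_eigS {A : Subgroup G} {lam : G → k} {v : W} :
    v ∈ eigS π A lam ↔ ∀ a ∈ A, π a v = lam a • v := Iff.rfl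

/-- The elements fixing the values `lam` on a normal subgroup. -/
def valStab (A : Subgroup G) [hA : A.Normal] (lam : G → k) : Subgroup G where
  carrier := {g | ∀ a ∈ A, lam (g⁻¹ * a * g) = lam a}
  one_mem' a _ := by simp
  mul_mem' {g h} hg hh a ha := by
    have h1 : g⁻¹ * a * g ∈ A := by simpa using hA.conj_mem a ha g⁻¹
    rw [show (g * h)⁻¹ * a * (g * h) = h⁻¹ * (g⁻¹ * a * g) * h by group, hh _ h1, hg a ha]
  inv_mem' {g} hg a ha := by
    have h1 : g * a * g⁻¹ ∈ A := hA.conj_mem a ha g
    have h2 := hg _ h1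
    rw [show g⁻¹ * (g * a * g⁻¹) * g = a by group] at h2
    rw [inv_inv, h2]

variable (A : Subgroup G) [hA : A.Normal] (lam : G → k)

theorem map_eigS (g : G) {v : W} (hv : v ∈ eigS π A lam) :
    π g v ∈ eigS π A (fun a => lam (g⁻¹ * a * g)) := by
  intro a ha
  have h1 : g⁻¹ * a * g ∈ A := by simpa using hA.conj_mem a ha g⁻¹
  rw [rep_conj_apply, hv _ h1, map_smul]

theorem invt_eigS : Invt (π.comp (valStab A lam).subtype) (eigS π A lam) := by
  intro g v hv a ha
  have := map_eigS π A lam (g : G) hv a ha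
  simp only [g.2 a ha] at this
  exact this

theorem eq_zero_of_sum_eq_zero {ι : Type*} (μ : ι → G → k)
    (hμ : ∀ i j, (∀ a ∈ A, μ i a = μ j a) → i = j) (s : Finset ι) :
    ∀ v : ι → W, (∀ i ∈ s, v i ∈ eigS π A (μ i)) → ∑ i ∈ s, v i = 0 → ∀ i ∈ s, v i = 0 := by
  classical
  induction s using Finset.induction with
  | empty => intro v _ _ i hi; simp at hi
  | @insert j s hj ih =>
    intro v hv hsum
    rw [Finset.sum_insert hj] at hsum
    have hs : ∀ i ∈ s, v i = 0 := by
      intro i hi
      obtain ⟨a, ha, hne⟩ : ∃ a ∈ A, μ i a ≠ μ j a := by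
        by_contra hc
        push Not at hc
        exact hj (hμ i j hc ▸ hi)
      have h2 := ih (fun l => (μ l a - μ j a) • v l)
        (fun l hl => Submodule.smul_mem _ _ (hv l (Finset.mem_insert_of_mem hl))) (by
          have e1 : π a (v j + ∑ l ∈ s, v l) - μ j a • (v j + ∑ l ∈ s, v l) = 0 := by
            rw [hsum, map_zero, smul_zero, sub_zero]
          rw [map_add, map_sum, hv j (Finset.mem_insert_self _ _) a ha, smul_add, Finset.smul_sum,
            add_sub_add_left_eq_sub, ← Finset.sum_sub_distrib] at e1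
          rw [← e1]
          refine Finset.sum_congr rfl fun l hl => ?_
          rw [hv l (Finset.mem_insert_of_mem hl) a ha, sub_smul]) i hi
      exact (smul_eq_zero.1 h2).resolve_left (sub_ne_zero.2 hne)
    intro i hi
    rcases Finset.mem_insert.1 hi with rfl | hi
    · rwa [Finset.sum_eq_zero hs, add_zero] at hsum
    · exact hs i hi

variable [Fintype (G ⧸ valStab A lam)]

/-- The sum of the translates of the eigenvectors. -/
noncomputable def blockSum : (G ⧸ valStab A lam → eigS π A lam) →ₗ[k] W where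
  toFun f := ∑ x : G ⧸ valStab A lam, π x.out (f x)
  map_add' f f' := by simp [Finset.sum_add_distrib]
  map_smul' c f := by simp [Finset.smul_sum]

theorem blockSum_injective : Function.Injective (blockSum π A lam) := by
  refine (injective_iff_map_eq_zero _).2 fun f hf => funext fun x => Subtype.ext ?_
  have h := eq_zero_of_sum_eq_zero π A (fun (x : G ⧸ valStab A lam) a => lam (x.out⁻¹ * a * x.out))
    (fun i j hij => ?_) Finset.univ (fun x => π x.out (f x)) (fun x _ => map_eigS π A lam _ (f x).2) hf x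
    (Finset.mem_univ _)
  · exact rep_injective π _ (h.trans (map_zero _).symm)
  · rw [← QuotientGroup.out_eq' i, ← QuotientGroup.out_eq' j, QuotientGroup.eq]
    intro a ha
    have h1 : i.out * a * i.out⁻¹ ∈ A := hA.conj_mem a ha _
    have h2 := hij _ h1
    rw [show i.out⁻¹ * (i.out * a * i.out⁻¹) * i.out = a by group] at h2
    rw [h2]
    congr 1
    group

theorem blockSum_surjective (hspan : ⨆ g, (eigS π A lam).map (π g) = ⊤) :
    Function.Surjective (blockSum π A lam) := by
  classical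
  rw [← LinearMap.range_eq_top, eq_top_iff, ← hspan]
  refine iSup_le fun g => ?_
  rintro _ ⟨w, hw, rfl⟩
  let x : G ⧸ valStab A lam := (g : G ⧸ valStab A lam)
  have hmem : x.out⁻¹ * g ∈ valStab A lam := QuotientGroup.eq.1 (QuotientGroup.out_eq' x)
  refine ⟨Pi.single x ⟨π (x.out⁻¹ * g) w, invt_eigS π A lam ⟨_, hmem⟩ w hw⟩, ?_⟩
  show ∑ y : G ⧸ valStab A lam, π y.out _ = π g w
  rw [Finset.sum_eq_single x]
  · rw [Pi.single_eq_same]
    show π x.out (π (x.out⁻¹ * g) w) = π g w
    rw [← Module.End.mul_apply, ← map_mul, mul_inv_cancel_left]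
  · intro y _ hy
    rw [Pi.single_eq_of_ne hy]; simp
  · simp

theorem finrank_blocks [FiniteDimensional k W] (hspan : ⨆ g, (eigS π A lam).map (π g) = ⊤) :
    finrank k W = (valStab A lam).index * finrank k (eigS π A lam) := by
  rw [← (LinearEquiv.ofBijective _ ⟨blockSum_injective π A lam, blockSum_surjective π A lam hspan⟩).finrank_eq,
    Module.finrank_pi_fintype k, Finset.sum_const, Finset.card_univ, smul_eq_mul,
    Subgroup.index, Nat.card_eq_fintype_card]

/-- An operator fixing every translate pointwise is the identity. -/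
theorem eq_one_of_fix_blocks (hspan : ⨆ g, (eigS π A lam).map (π g) = ⊤) {T : Module.End k W}
    (hT : ∀ x : G ⧸ valStab A lam, ∀ v ∈ eigS π A lam, T (π x.out v) = π x.out v) : T = 1 := by
  refine LinearMap.ext fun w => ?_
  obtain ⟨f, rfl⟩ := blockSum_surjective π A lam hspan w
  show T (∑ x : G ⧸ valStab A lam, π x.out (f x)) = ∑ x : G ⧸ valStab A lam, π x.out (f x)
  rw [map_sum]
  exact Finset.sum_congr rfl fun x _ => hT x _ (f x).2

/-- The stabiliser is irreducible on the block of an irreducible group. -/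
theorem isIrr_block (h : IsIrr π) (h0 : eigS π A lam ≠ ⊥) :
    IsIrr (restrictRep (π.comp (valStab A lam).subtype) (eigS π A lam) (invt_eigS π A lam)) := by
  classical
  set S := valStab A lam with hS
  refine ⟨fun ht => h0 ?_, fun U hU => or_iff_not_imp_left.2 fun hU0 => ?_⟩
  · rw [eq_bot_iff]
    intro v hv
    have : (⟨v, hv⟩ : eigS π A lam) ∈ (⊤ : Submodule k (eigS π A lam)) := trivial
    rw [ht, Submodule.mem_bot] at this
    exact (Submodule.mem_bot _).2 (congrArg Subtype.val this)
  rw [eq_top_iff]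
  rintro w -
  let U' := U.map (eigS π A lam).subtype
  have hU'0 : U' ≠ ⊥ := fun hz => hU0
    (Submodule.map_injective_of_injective (Submodule.injective_subtype _) (hz.trans (Submodule.map_bot _).symm))
  -- the translates of `U` are reached from block families with values in `U`
  have key : ∀ v : W, ∃ f : G ⧸ S → eigS π A lam, (∀ x, f x ∈ U) ∧ blockSum π A lam f = v := by
    intro v
    have hv : v ∈ ⨆ g, U'.map (π g) := by rw [h.span_translates hU'0]; trivial
    induction hv using Submodule.iSup_induction' with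
    | mem g x hx =>
      obtain ⟨_, ⟨u, hu, rfl⟩, rfl⟩ := hx
      let y : G ⧸ S := (g : G ⧸ S)
      have hmem : y.out⁻¹ * g ∈ S := QuotientGroup.eq.1 (QuotientGroup.out_eq' y)
      refine ⟨Pi.single y (restrictRep (π.comp S.subtype) _ (invt_eigS π A lam) ⟨_, hmem⟩ u), fun x => ?_, ?_⟩
      · rcases eq_or_ne x y with rfl | hxy
        · rw [Pi.single_eq_same]; exact hU _ u hu
        · rw [Pi.single_eq_of_ne hxy]; exact Submodule.zero_mem _
      · show ∑ x : G ⧸ S, π x.out _ = π g u
        rw [Finset.sum_eq_single y]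
        · rw [Pi.single_eq_same]
          show π y.out (π (y.out⁻¹ * g) (u : W)) = π g u
          rw [← Module.End.mul_apply, ← map_mul, mul_inv_cancel_left]
        · intro x _ hx
          rw [Pi.single_eq_of_ne hx]; simp
        · simp
    | zero => exact ⟨0, fun x => Submodule.zero_mem _, map_zero _⟩
    | add x y _ _ hx hy =>
      obtain ⟨f, hf, rfl⟩ := hx
      obtain ⟨f', hf', rfl⟩ := hy
      exact ⟨f + f', fun x => Submodule.add_mem _ (hf x) (hf' x), map_add _ _ _⟩
  let y : G ⧸ S := ((1 : G) : G ⧸ S)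
  have hmem : y.out ∈ S := by
    have := QuotientGroup.eq.1 (QuotientGroup.out_eq' y).symm
    simpa using this
  obtain ⟨f, hf, hfe⟩ := key (π y.out w)
  have h1 : blockSum π A lam (Pi.single y w) = π y.out w := by
    show ∑ x : G ⧸ S, π x.out _ = _
    rw [Finset.sum_eq_single y]
    · rw [Pi.single_eq_same]
    · intro x _ hx
      rw [Pi.single_eq_of_ne hx]; simp
    · simp
  have h2 := congrFun (blockSum_injective π A lam (hfe.trans h1.symm)) y
  rw [Pi.single_eq_same] at h2
  rw [← h2]
  exact hf y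

end CfsgLib.SolvLinK
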