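import Cfsg.Agent.SolvLinK.Classes
import Cfsg.Agent.SolvLinK.Arith
import Mathlib.Tactic.LinearCombination

/-!
The numerical part of the lower bound for class numbers of solvable groups.
-/

set_option autoImplicit false

namespace CfsgLib.SolvLinK

theorem amgm_bound {p N h K k : ℕ} (hh : 0 < h) {r : ℚ} (hr : 0 < r) (hK : (h : ℚ) ≤ r * K)
    (h0 : N - 1 + h * K ≤ h * k) (hN : 1 ≤ N) (hc : 2401 * (p : ℚ) ^ 2 * r ≤ 14400 * ((N : ℚ) - 1)) :
    49 * p ≤ 60 * k := by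
  have h0' : ((N : ℚ) - 1) + h * K ≤ h * k := by
    have : ((N - 1 + h * K : ℕ) : ℚ) ≤ ((h * k : ℕ) : ℚ) := by exact_mod_cast h0
    push_cast [hN] at this
    exact this
  have hhq : (0 : ℚ) < h := by exact_mod_cast hh
  suffices (49 : ℚ) * p ≤ 60 * k by exact_mod_cast this
  have hp0 : (0 : ℚ) ≤ p := Nat.cast_nonneg p
  have h1 : ((N : ℚ) - 1) * r + h * h ≤ h * k * r := by
    have e1 := mul_le_mul_of_nonneg_right h0' hr.le
    have e2 := mul_le_mul_of_nonneg_left hK hhq.le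
    linarith
  by_contra hlt
  push Not at hlt
  have hA : (0 : ℚ) < ((N : ℚ) - 1) * r + h * h := by
    have : (0 : ℚ) ≤ (N : ℚ) - 1 := by
      have : (1 : ℚ) ≤ N := by exact_mod_cast hN
      linarith
    positivity
  have h2 : 60 * (((N : ℚ) - 1) * r + h * h) < 49 * p * h * r := by
    have := mul_lt_mul_of_pos_right hlt (mul_pos hhq hr)
    nlinarith
  have h3 : 14400 * ((((N : ℚ) - 1) * r) * (h * h)) ≤ 3600 * (((N : ℚ) - 1) * r + h * h) ^ 2 := by
    nlinarith [sq_nonneg (((N : ℚ) - 1) * r - h * h)]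
  have h4 : 3600 * (((N : ℚ) - 1) * r + h * h) ^ 2 < (49 * p * h * r) ^ 2 := by
    have := mul_self_lt_mul_self (by positivity) h2
    nlinarith
  have h5 : (49 * (p : ℚ) * h * r) ^ 2 ≤ 14400 * ((((N : ℚ) - 1) * r) * (h * h)) := by
    have := mul_le_mul_of_nonneg_right hc (by positivity : (0 : ℚ) ≤ r * (h * h))
    nlinarith
  linarith

theorem strict_bound {N h K k M : ℕ} (hh : 0 < h) {r : ℚ} (hr : 0 < r) (hK : (h : ℚ) ≤ r * K)
    (h0 : N - 1 + h * K ≤ h * k) (hN : 1 ≤ N) (hc : (M : ℚ) ^ 2 * r < 4 * ((N : ℚ) - 1)) : M < k := by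
  by_contra hle
  push Not at hle
  have h0' : ((N : ℚ) - 1) + h * K ≤ h * k := by
    have : ((N - 1 + h * K : ℕ) : ℚ) ≤ ((h * k : ℕ) : ℚ) := by exact_mod_cast h0
    push_cast [hN] at this
    exact this
  have hkM : (k : ℚ) ≤ M := by exact_mod_cast hle
  have hhq : (0 : ℚ) < h := by exact_mod_cast hh
  have e1 := mul_le_mul_of_nonneg_right h0' hr.le
  have e2 := mul_le_mul_of_nonneg_left hK hhq.le
  have e3 := mul_le_mul_of_nonneg_left hkM (mul_pos hhq hr).le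
  have h1 : ((N : ℚ) - 1) * r + h * h ≤ M * r * h := by linarith
  have h2 : 0 < r * (4 * ((N : ℚ) - 1) - M ^ 2 * r) := mul_pos hr (by linarith)
  nlinarith [sq_nonneg (2 * (h : ℚ) - M * r)]

theorem prime_cases {p : ℕ} (hp : p.Prime) (h : 11 ≤ p) : p = 11 ∨ p = 13 ∨ 17 ≤ p := by
  rcases Nat.lt_or_ge p 17 with hlt | hge
  · interval_cases p <;> first | omega | (exfalso; revert hp; norm_num)
  · omega

theorem dim_arith {p a h K k : ℕ} (hp : p.Prime) (h11 : 11 ≤ p) (ha : 3 ≤ a) (hh : 0 < h)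
    (hK : (h : ℚ) ≤ gB a * K) (h0 : p ^ a - 1 + h * K ≤ h * k) : 49 * p ≤ 60 * k := by
  have hN : 1 ≤ p ^ a := Nat.one_le_pow _ _ hp.pos
  rcases Nat.lt_or_ge a 5 with h5 | h5
  swap
  · refine amgm_bound hh (gB_pos a) hK h0 hN ?_
    rw [gB_of_five h5]
    push_cast
    have hX : (11 : ℚ) ^ (a - 2) * (p : ℚ) ^ 2 ≤ (p : ℚ) ^ a := by
      rw [show (p : ℚ) ^ a = (p : ℚ) ^ (a - 2) * (p : ℚ) ^ 2 by rw [← pow_add]; congr 1; omega]
      refine mul_le_mul_of_nonneg_right (pow_le_pow_left₀ (by norm_num) ?_ _) (by positivity)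
      exact_mod_cast h11
    have h2 : (161051 : ℚ) ≤ (p : ℚ) ^ a := by
      calc (161051 : ℚ) = 11 ^ 5 := by norm_num
        _ ≤ (p : ℚ) ^ 5 := pow_le_pow_left₀ (by norm_num) (by exact_mod_cast h11) 5
        _ ≤ (p : ℚ) ^ a := pow_le_pow_right₀ (by exact_mod_cast hp.one_le) h5
    linarith
  interval_cases a
  · have hg : gB 3 = 81 := by norm_num [gB]
    rw [hg] at hK
    rcases prime_cases hp h11 with rfl | rfl | h17
    · have := strict_bound (M := 8) hh (by norm_num) hK h0 hN (by norm_num)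
      omega
    · have := strict_bound (M := 10) hh (by norm_num) hK h0 hN (by norm_num)
      omega
    · refine amgm_bound hh (by norm_num) hK h0 hN ?_
      push_cast
      have : (17 : ℚ) ≤ p := by exact_mod_cast h17
      have h2 : 17 * (p : ℚ) ^ 2 ≤ (p : ℚ) ^ 3 := by
        rw [pow_succ (p : ℚ) 2, mul_comm]
        exact mul_le_mul_of_nonneg_left this (by positivity)
      nlinarith
  · have hg : gB 4 = 900 := by norm_num [gB]
    rw [hg] at hK
    rcases prime_cases hp h11 with rfl | rfl | h17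
    · have := strict_bound (M := 8) hh (by norm_num) hK h0 hN (by norm_num)
      omega
    · exact amgm_bound hh (by norm_num) hK h0 hN (by norm_num)
    · refine amgm_bound hh (by norm_num) hK h0 hN ?_
      push_cast
      have : (289 : ℚ) ≤ (p : ℚ) ^ 2 := by
        have : (17 : ℚ) ≤ p := by exact_mod_cast h17
        nlinarith
      have h2 : 289 * (p : ℚ) ^ 2 ≤ (p : ℚ) ^ 4 := by
        rw [show (p : ℚ) ^ 4 = (p : ℚ) ^ 2 * (p : ℚ) ^ 2 by ring]
        exact mul_le_mul_of_nonneg_right this (by positivity)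
      nlinarith

theorem two_arith {p h K k : ℕ} (h11 : 11 ≤ p) (hh : 0 < h) (hK : (h : ℚ) ≤ 4 * K)
    (h0 : p ^ 2 - 1 + h * K ≤ h * k) : 49 * p ≤ 60 * k := by
  refine amgm_bound hh (by norm_num) hK h0 (Nat.one_le_pow _ _ (by omega)) ?_
  push_cast
  have : (121 : ℚ) ≤ (p : ℚ) ^ 2 := by
    have : (11 : ℚ) ≤ p := by exact_mod_cast h11
    nlinarith
  linarith

theorem oct_arith {p z k K : ℕ} (h11 : 11 ≤ p) (hz2 : 2 ∣ z) (hzp : z ∣ p - 1) (hz : 0 < z)
    (hK : 4 * z ≤ K) (h0 : p ^ 2 - 1 + 24 * z * K ≤ 24 * z * k) : 49 * p ≤ 60 * k := by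
  obtain ⟨m, hm⟩ := hzp
  obtain rfl : p = z * m + 1 := by omega
  obtain ⟨y, rfl⟩ := hz2
  have h1 : (2 * y * m) ^ 2 + 2 * (2 * y * m) + 96 * (2 * y) ^ 2 ≤ 24 * (2 * y) * k := by
    have e1 : (2 * y * m + 1) ^ 2 - 1 = (2 * y * m) ^ 2 + 2 * (2 * y * m) := by
      rw [Nat.sub_eq_iff_eq_add (Nat.one_le_pow _ _ (by omega))]; ring
    have e2 : 24 * (2 * y) * (4 * (2 * y)) ≤ 24 * (2 * y) * K := Nat.mul_le_mul_left _ hK
    rw [e1] at h0
    nlinarith
  have h2 : 2 * y * m ^ 2 + 2 * m + 192 * y ≤ 24 * k := by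
    refine Nat.le_of_mul_le_mul_left (?_ : 2 * y * (2 * y * m ^ 2 + 2 * m + 192 * y) ≤ 2 * y * (24 * k)) (by omega)
    nlinarith
  have hy : 1 ≤ y := by omega
  rcases Nat.lt_or_ge m 11 with hm11 | hm11
  · rcases (show m = 9 ∧ y = 1 ∨ ¬ (m = 9 ∧ y = 1) from em _) with ⟨rfl, rfl⟩ | hne
    · omega
    · interval_cases m <;> omega
  · obtain ⟨e, rfl⟩ : ∃ e, m = e + 11 := ⟨m - 11, by omega⟩
    nlinarith [Nat.mul_le_mul_right (e * e) hy, Nat.mul_le_mul_right e hy]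

theorem small_arith {p N h K k : ℕ} (hp : p.Prime) (h7 : p ≤ 7) (hN : p ^ 2 ≤ N) (hh : 0 < h) (hK1 : 1 ≤ K)
    (hs3 : K ≤ 3 → h ≤ 6) (hs4 : K ≤ 4 → h ≤ 42) (h0 : N - 1 + h * K ≤ h * k) : 49 * p ≤ 60 * k := by
  have hp2 := hp.two_le
  by_contra hc
  push Not at hc
  have hk5 : k ≤ 5 := by omega
  have hKk : h * K < h * k := by
    have : 4 ≤ p ^ 2 := Nat.pow_le_pow_left hp2 2
    omega
  have hK4 : K < k := Nat.lt_of_mul_lt_mul_left hKk
  rcases Nat.lt_or_ge K 4 with h3 | h3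
  · have := hs3 (by omega)
    interval_cases h <;> interval_cases p <;> first | omega | (revert hp; norm_num)
  · have := hs4 (by omega)
    obtain rfl : K = 4 := by omega
    obtain rfl : k = 5 := by omega
    interval_cases p <;> first | omega | (revert hp; norm_num)

end CfsgLib.SolvLinK
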