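import Cfsg.Agent.SolvLinK.Main
import Cfsg.Agent.SolvLinK.Bound
import Cfsg.Agent.FGSA.InvariantComplement
import Mathlib.FieldTheory.IsAlgClosed.AlgebraicClosure
import Mathlib.GroupTheory.SchurZassenhaus
import Mathlib.LinearAlgebra.Matrix.ToLin
import Mathlib.LinearAlgebra.Dual.Lemmas
import Mathlib.FieldTheory.Finiteness
import Mathlib.Algebra.Field.ZMod

/-!
Solvable groups of order divisible by the square of a prime: the lower bound for the class number.
-/

set_option autoImplicit false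
set_option linter.style.haveILetI false
set_option linter.unusedSectionVars false

namespace CfsgLib.SolvLinK

universe u

variable {G : Type u} [Group G] [Finite G]

/-- A normal subgroup with a central Hall subgroup has a normal complement to it. -/
theorem exists_normal_hall (D V : Subgroup G) [hD : D.Normal] (hVD : V ≤ D)
    (hc : ∀ x ∈ D, ∀ v ∈ V, x * v = v * x) (hcop : (Nat.card V).Coprime (V.relIndex D)) :
    ∃ K : Subgroup G, K.Normal ∧ Nat.card K = V.relIndex D := by
  have hcard : Nat.card (V.subgroupOf D) = Nat.card V := Nat.card_congr (Subgroup.subgroupOfEquivOfLe hVD).toEquiv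
  haveI : (V.subgroupOf D).Normal := ⟨fun v hv g => by
    rw [Subgroup.mem_subgroupOf] at hv ⊢
    rwa [Subgroup.coe_mul, Subgroup.coe_mul, Subgroup.coe_inv, hc g g.2 v hv, mul_inv_cancel_right]⟩
  obtain ⟨K, hK⟩ := Subgroup.exists_right_complement'_of_coprime (N := V.subgroupOf D) (by rw [hcard]; exact hcop)
  have hKc : Nat.card K = V.relIndex D := hK.symm.index_eq_card.symm
  refine ⟨K.map D.subtype, ⟨?_⟩, (Nat.card_congr (Subgroup.equivMapOfInjective _ _ D.subtype_injective).toEquiv).symm.trans hKc⟩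
  rintro _ ⟨k, hk, rfl⟩ g
  set c : D := ⟨g * D.subtype k * g⁻¹, hD.conj_mem _ k.2 g⟩
  suffices c ∈ K from ⟨c, this, rfl⟩
  have hk1 : k ^ V.relIndex D = 1 := by
    rw [← hKc]; exact congrArg Subtype.val (pow_card_eq_one' (x := (⟨k, hk⟩ : K)))
  have hc1 : c ^ V.relIndex D = 1 := Subtype.ext (by
    rw [Subgroup.coe_pow]
    show (g * (k : G) * g⁻¹) ^ _ = 1
    rw [conj_pow, ← Subgroup.coe_pow, hk1, Subgroup.coe_one, mul_one, mul_inv_cancel])
  obtain ⟨v, hv, k', hk', hvk⟩ := Subgroup.mem_sup_of_normal_left.1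
    (show c ∈ V.subgroupOf D ⊔ K by rw [hK.sup_eq_top]; trivial)
  have hcomm : Commute v k' := (Subtype.ext (hc k' k'.2 v hv) : k' * v = v * k').symm
  have hk'1 : k' ^ V.relIndex D = 1 := by
    rw [← hKc]; exact congrArg Subtype.val (pow_card_eq_one' (x := (⟨k', hk'⟩ : K)))
  rw [← hvk, hcomm.mul_pow, hk'1, mul_one] at hc1
  have hv1 : v = 1 := by
    have h1 : orderOf v ∣ Nat.card V := by
      rw [← hcard]; exact Subgroup.orderOf_dvd_natCard _ hv
    have h2 : orderOf v ∣ V.relIndex D := orderOf_dvd_of_pow_eq_one hc1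
    exact orderOf_eq_one_iff.1 (Nat.eq_one_of_dvd_coprimes hcop h1 h2)
  rwa [← hvk, hv1, one_mul]

/-- Commutators centralise normal subgroups of prime order. -/
theorem commutator_fixes {X : Type*} [Group X] (N : Subgroup X) [hN : N.Normal] [IsCyclic N] (g h : X)
    {x : X} (hx : x ∈ N) : (g * h * g⁻¹ * h⁻¹) * x * (g * h * g⁻¹ * h⁻¹)⁻¹ = x := by
  obtain ⟨y, hy⟩ := IsCyclic.exists_generator (α := N)
  have key : ∀ g : X, ∃ i : ℤ, ∀ z ∈ N, g * z * g⁻¹ = z ^ i := by
    intro g
    obtain ⟨i, hi⟩ := Subgroup.mem_zpowers_iff.1 (hy ⟨g * y * g⁻¹, hN.conj_mem _ y.2 g⟩)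
    refine ⟨i, fun z hz => ?_⟩
    obtain ⟨j, hj⟩ := Subgroup.mem_zpowers_iff.1 (hy ⟨z, hz⟩)
    have hj' : (y : X) ^ j = z := by rw [← Subgroup.coe_zpow, hj]
    have hi' : (y : X) ^ i = g * y * g⁻¹ := by rw [← Subgroup.coe_zpow, hi]
    rw [← hj', ← conj_zpow, ← hi', ← zpow_mul, ← zpow_mul, mul_comm]
  obtain ⟨i, hi⟩ := key g
  obtain ⟨j, hj⟩ := key h
  have hcomm : ∀ z ∈ N, g * (h * z * h⁻¹) * g⁻¹ = h * (g * z * g⁻¹) * h⁻¹ := fun z hz => by
    rw [hi _ (hN.conj_mem z hz h), hj z hz, hj _ (hN.conj_mem z hz g), hi z hz, ← zpow_mul, ← zpow_mul, mul_comm]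
  set z := g⁻¹ * (h⁻¹ * x * h) * g
  have hz : z ∈ N := by
    have h1 : h⁻¹ * x * h ∈ N := by simpa using hN.conj_mem x hx h⁻¹
    simpa [z] using hN.conj_mem _ h1 g⁻¹
  have := hcomm z hz
  simp only [z] at this
  rw [show h * (g * (g⁻¹ * (h⁻¹ * x * h) * g) * g⁻¹) * h⁻¹ = x by group] at this
  conv_rhs => rw [← this]
  group

section

variable (p : ℕ) [hp : Fact p.Prime]

theorem pow_dvd_bound (hq : ∀ N : Subgroup G, N.Normal → N ≠ ⊥ → ¬ p ^ 2 ∣ Nat.card (G ⧸ N))
    {N : Subgroup G} (hN : N.Normal) (hN0 : N ≠ ⊥) {i j : ℕ} (hj : Nat.card N = p ^ j)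
    (hi : p ^ i ∣ Nat.card G) : i ≤ j + 1 := by
  by_contra h
  push Not at h
  refine hq N hN hN0 (Nat.dvd_of_mul_dvd_mul_right (pow_pos hp.out.pos j) ?_)
  rw [← pow_add]
  refine (pow_dvd_pow p (by omega)).trans (hi.trans (dvd_of_eq ?_))
  rw [Subgroup.card_eq_card_quotient_mul_card_subgroup N, hj]

theorem eq_bot_of_coprime (hp2 : p ^ 2 ∣ Nat.card G)
    (hq : ∀ N : Subgroup G, N.Normal → N ≠ ⊥ → ¬ p ^ 2 ∣ Nat.card (G ⧸ N))
    {N : Subgroup G} (hN : N.Normal) (hcop : (Nat.card N).Coprime p) : N = ⊥ := by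
  by_contra h0
  refine hq N hN h0 ((Nat.Coprime.pow_left 2 hcop.symm).dvd_of_dvd_mul_right ?_)
  rwa [← Subgroup.card_eq_card_quotient_mul_card_subgroup]

/-- A prime square order normal Sylow subgroup. -/
theorem sylow_square_case (hp2 : p ^ 2 ∣ Nat.card G)
    (hq : ∀ N : Subgroup G, N.Normal → N ≠ ⊥ → ¬ p ^ 2 ∣ Nat.card (G ⧸ N))
    (V P : Subgroup G) [hV : V.Normal] [hP : P.Normal] (hV0 : V ≠ ⊥) (hVP : V < P) (hPp : IsPGroup p P)
    (hVc : ∀ v ∈ V, ∀ x ∈ P, v * x = x * v) (hexp : ∀ v ∈ V, v ^ p = 1) :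
    49 * p ≤ 60 * Nat.card (ConjClasses G) := by
  classical
  obtain ⟨a, ha⟩ := IsPGroup.iff_card.1 (hPp.to_le hVP.le)
  obtain ⟨b, hb⟩ := IsPGroup.iff_card.1 hPp
  have ha1 : 1 ≤ a := by
    by_contra h
    exact hV0 (Subgroup.eq_bot_of_card_eq _ (by rw [ha, show a = 0 by omega, pow_zero]))
  have hab : a < b := by
    refine (Nat.pow_lt_pow_iff_right hp.out.one_lt).1 ?_
    rw [← ha, ← hb]; exact CfsgLib.Solvable.card_lt_of_lt hVP
  have hGP := Subgroup.card_eq_card_quotient_mul_card_subgroup P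
  have hbG : p ^ b ∣ Nat.card G := hb ▸ Subgroup.card_subgroup_dvd_card P
  have hb1 : b = a + 1 := le_antisymm (pow_dvd_bound p hq hV hV0 ha hbG) hab
  subst hb1
  have hnp : ¬ p ∣ Nat.card (G ⧸ P) := fun hd => by
    have := pow_dvd_bound p hq hV hV0 ha (i := a + 2) (by
      rw [hGP, hb, pow_succ', show a + 1 = a + 1 from rfl]
      exact Nat.mul_dvd_mul hd dvd_rfl)
    omega
  obtain ⟨x, hxP, hxV⟩ := SetLike.exists_of_lt hVP
  have hsup : V ⊔ Subgroup.zpowers x = P := by
    have hle : V ⊔ Subgroup.zpowers x ≤ P := sup_le hVP.le (Subgroup.zpowers_le.2 hxP)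
    refine CfsgLib.Solvable.eq_of_le_of_card_le hle ?_
    obtain ⟨c, hc, hcard⟩ := (Nat.dvd_prime_pow hp.out).1 (hb ▸ Subgroup.card_dvd_of_le hle)
    have hlt : Nat.card V < Nat.card (V ⊔ Subgroup.zpowers x : Subgroup G) :=
      CfsgLib.Solvable.card_lt_of_lt (lt_of_le_of_ne le_sup_left fun h =>
        hxV (h ▸ Subgroup.mem_sup_right (Subgroup.mem_zpowers x)))
    rw [ha, hcard, Nat.pow_lt_pow_iff_right hp.out.one_lt] at hlt
    rw [hb, hcard]
    exact Nat.pow_le_pow_right hp.out.pos hlt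
  have hcomm : ∀ y ∈ P, ∀ z ∈ P, y * z = z * y := by
    have hx : ∀ z ∈ P, x * z = z * x := fun z hz => by
      have hle : P ≤ Subgroup.centralizer ({x} : Set G) := hsup ▸ sup_le
        (fun v hv => Subgroup.mem_centralizer_singleton_iff.2 (hVc v hv x hxP))
        (Subgroup.zpowers_le.2 (Subgroup.mem_centralizer_singleton_iff.2 rfl))
      exact (Subgroup.mem_centralizer_singleton_iff.1 (hle hz)).symm
    intro y hy z hz
    have hle : P ≤ Subgroup.centralizer ({z} : Set G) := hsup ▸ sup_le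
      (fun v hv => Subgroup.mem_centralizer_singleton_iff.2 (hVc v hv z hz))
      (Subgroup.zpowers_le.2 (Subgroup.mem_centralizer_singleton_iff.2 (hx z hz)))
    exact Subgroup.mem_centralizer_singleton_iff.1 (hle hy)
  letI : CommGroup P := { (inferInstance : Group P) with mul_comm := fun y z => Subtype.ext (hcomm y y.2 z z.2) }
  have hcop : (Nat.card P).Coprime P.index := by
    rw [hb]; exact Nat.Coprime.pow_left _ (hp.out.coprime_iff_not_dvd.2 hnp)
  obtain ⟨M, hM⟩ := Subgroup.exists_right_complement'_of_coprime (N := P) hcop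
  -- the kernel and the image of the power map
  have hKP : Nat.card (V.subgroupOf P) = p ^ a := by
    rw [Nat.card_congr (Subgroup.subgroupOfEquivOfLe hVP.le).toEquiv, ha]
  have ha_one : a = 1 := by
    by_cases hpow : ∀ y : P, y ^ p = 1
    · letI : MulDistribMulAction M P :=
        MulDistribMulAction.compHom _ ((MulAut.conjNormal : G →* MulAut P).comp M.subtype)
      have hsmul : ∀ (m : M) (y : P), ((m • y : P) : G) = (m : G) * y * (m : G)⁻¹ := fun m y =>
        MulAut.conjNormal_apply (m : G) y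
      obtain ⟨C, hC, hC1, hC2⟩ := CfsgLib.InvariantComplement.exists_invariant_compl (X := M) (p := p)
        (by
          rw [← hM.symm.index_eq_card]
          exact hcop.symm) (n := 0) (fun y => by rw [zero_add, pow_one]; exact hpow y) (V.subgroupOf P)
        (fun m y hy => by
          rw [Subgroup.mem_subgroupOf] at hy ⊢
          rw [hsmul]; exact hV.conj_mem _ hy _)
        (fun y _ h => ⟨1, one_mem _, by rw [pow_zero, pow_one] at h; rw [one_pow, h]⟩)
      have hsupC := CfsgLib.Solvable.card_sup_of_disjoint (A := C) (K := V.subgroupOf P)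
        Subgroup.le_normalizer_of_normal hC1
      rw [hC2, Subgroup.card_top, hb, hKP, pow_succ'] at hsupC
      have hCp : Nat.card C = p := Nat.eq_of_mul_eq_mul_right (pow_pos hp.out.pos a) hsupC.symm
      let W := C.map P.subtype
      have hWn : W.Normal := by
        refine ⟨?_⟩
        rintro _ ⟨y, hy, rfl⟩ g
        obtain ⟨q, hqP, m, hm, rfl⟩ := Subgroup.mem_sup_of_normal_left.1
          (show g ∈ P ⊔ M by rw [hM.sup_eq_top]; trivial)
        refine ⟨(⟨m, hm⟩ : M) • y, hC ⟨m, hm⟩ y hy, ?_⟩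
        show (((⟨m, hm⟩ : M) • y : P) : G) = q * m * y * (q * m)⁻¹
        rw [hsmul, show q * m * (y : G) * (q * m)⁻¹ = q * (m * y * m⁻¹) * q⁻¹ by group,
          hcomm q hqP _ (hP.conj_mem _ y.2 m), mul_inv_cancel_right]
      have hWc : Nat.card W = p ^ 1 := by
        rw [pow_one, ← hCp]
        exact (Nat.card_congr (Subgroup.equivMapOfInjective _ _ P.subtype_injective).toEquiv).symm
      have := pow_dvd_bound p hq hWn (fun h => by
        rw [h, Subgroup.card_bot, pow_one] at hWc; exact hp.out.one_lt.ne hWc) hWc hbG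
      omega
    · let φ : P →* P := powMonoidHom p
      have hker : V.subgroupOf P ≤ φ.ker := fun y hy => Subtype.ext (by
        show ((y ^ p : P) : G) = 1
        rw [Subgroup.coe_pow]; exact hexp _ hy)
      let W := φ.range.map P.subtype
      have hWn : W.Normal := by
        refine ⟨?_⟩
        rintro _ ⟨_, ⟨y, rfl⟩, rfl⟩ g
        refine ⟨φ ⟨g * y * g⁻¹, hP.conj_mem _ y.2 g⟩, ⟨_, rfl⟩, ?_⟩
        show (((⟨g * (y : G) * g⁻¹, _⟩ : P) ^ p : P) : G) = g * ((y ^ p : P) : G) * g⁻¹
        rw [Subgroup.coe_pow, Subgroup.coe_pow]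
        exact conj_pow
      obtain ⟨j, hj⟩ := IsPGroup.iff_card.1 (hPp.to_subgroup φ.range)
      have hj1 : j ≤ 1 := by
        have h1 : Nat.card φ.range * Nat.card φ.ker = p ^ (a + 1) := by
          rw [← hb, ← φ.ker.card_mul_index, Subgroup.index_ker, mul_comm]
        have h2 := Nat.mul_le_mul_left (Nat.card φ.range) (Subgroup.card_le_of_le hker)
        rw [h1, hKP, hj, ← pow_add, Nat.pow_le_pow_iff_right hp.out.one_lt] at h2
        omega
      have hWc : Nat.card W = p ^ j := by
        rw [← hj]; exact (Nat.card_congr (Subgroup.equivMapOfInjective _ _ P.subtype_injective).toEquiv).symm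
      have := pow_dvd_bound p hq hWn (fun h => hpow fun y => by
        have : ((φ y : P) : G) ∈ W := ⟨_, ⟨y, rfl⟩, rfl⟩
        rw [h, Subgroup.mem_bot] at this
        exact Subtype.ext this) hWc hbG
      omega
  subst ha_one
  -- the quotient is commutative
  have hPC : Subgroup.centralizer (P : Set G) ≤ P := by
    set D := Subgroup.centralizer (P : Set G)
    have hPD : P ≤ D := fun y hy z hz => hcomm z hz y hy
    have hdvd : P.relIndex D ∣ P.index := Subgroup.relIndex_dvd_index_of_normal P D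
    obtain ⟨K, hK, hKc⟩ := exists_normal_hall D P hPD (fun y hy z hz => (hy z hz).symm)
      (hcop.coprime_dvd_right hdvd)
    have hK0 := eq_bot_of_coprime p hp2 hq hK (by
      rw [hKc]
      exact Nat.Coprime.coprime_dvd_left hdvd (hp.out.coprime_iff_not_dvd.2 hnp).symm)
    rw [hK0, Subgroup.card_bot] at hKc
    exact Subgroup.relIndex_eq_one.1 hKc.symm
  have hH : ∀ s t : G ⧸ P, s * t = t * s := by
    intro s t
    obtain ⟨g, rfl⟩ := QuotientGroup.mk'_surjective P s
    obtain ⟨h, rfl⟩ := QuotientGroup.mk'_surjective P t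
    rw [← mul_inv_eq_one]
    have hrw : QuotientGroup.mk' P g * QuotientGroup.mk' P h * (QuotientGroup.mk' P h * QuotientGroup.mk' P g)⁻¹ =
        QuotientGroup.mk' P (g * h * g⁻¹ * h⁻¹) := by
      simp [mul_assoc]
    rw [hrw, ← MonoidHom.mem_ker, QuotientGroup.ker_mk']
    refine hPC fun y hy => ?_
    set c := g * h * g⁻¹ * h⁻¹ with hc
    haveI : IsCyclic V := isCyclic_of_prime_card (p := p) (by rw [ha, pow_one])
    have hfix : ∀ v ∈ V, c * v * c⁻¹ = v := fun v hv => commutator_fixes V g h hv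
    haveI : (P.map (QuotientGroup.mk' V)).Normal := hP.map _ (QuotientGroup.mk'_surjective V)
    have hPb : Nat.card (P.map (QuotientGroup.mk' V)) = p := by
      have h1 := Subgroup.card_subgroup_dvd_card (P.map (QuotientGroup.mk' V))
      let f : P →* P.map (QuotientGroup.mk' V) := (QuotientGroup.mk' V).subgroupMap P
      have hf : f.ker = V.subgroupOf P := by
        ext z
        rw [MonoidHom.mem_ker, Subgroup.mem_subgroupOf, ← QuotientGroup.eq_one_iff (N := V) (z : G)]
        exact ⟨fun e => congrArg Subtype.val e, fun e => Subtype.ext e⟩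
      have h2 := f.ker.card_mul_index
      rw [Subgroup.index_ker, MonoidHom.range_eq_top.2 (MonoidHom.subgroupMap_surjective _ _), Subgroup.card_top,
        hf, hKP, hb, pow_one, pow_succ, pow_one] at h2
      exact Nat.eq_of_mul_eq_mul_left hp.out.pos h2
    haveI : IsCyclic (P.map (QuotientGroup.mk' V)) := isCyclic_of_prime_card hPb
    obtain ⟨w, hw, hcy⟩ : ∃ w ∈ V, c * y * c⁻¹ = y * w := by
      refine ⟨y⁻¹ * (c * y * c⁻¹), QuotientGroup.eq.1 ?_, by group⟩
      symm
      show QuotientGroup.mk' V (c * y * c⁻¹) = QuotientGroup.mk' V y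
      rw [hc]
      simp only [map_mul, map_inv]
      exact commutator_fixes (P.map (QuotientGroup.mk' V)) (QuotientGroup.mk' V g) (QuotientGroup.mk' V h)
        (Subgroup.mem_map_of_mem _ hy)
    have hiter : ∀ n : ℕ, c ^ n * y * (c ^ n)⁻¹ = y * w ^ n := fun n => by
      induction n with
      | zero => simp
      | succ n ih =>
        rw [pow_succ' c, show c * c ^ n * y * (c * c ^ n)⁻¹ = c * (c ^ n * y * (c ^ n)⁻¹) * c⁻¹ by group, ih,
          show c * (y * w ^ n) * c⁻¹ = (c * y * c⁻¹) * (c * w ^ n * c⁻¹) by group, hcy,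
          hfix _ (V.pow_mem hw n), mul_assoc, ← pow_succ']
    have hmem : c ^ Nat.card (G ⧸ P) ∈ P := by
      rw [← QuotientGroup.eq_one_iff, QuotientGroup.mk_pow, pow_card_eq_one']
    have h1 := hiter (Nat.card (G ⧸ P))
    rw [hcomm _ hmem y hy, mul_inv_cancel_right] at h1
    have hw1 : w ^ Nat.card (G ⧸ P) = 1 := (mul_eq_left.1 h1.symm)
    have hw0 : w = 1 := orderOf_eq_one_iff.1 (Nat.eq_one_of_dvd_coprimes (hp.out.coprime_iff_not_dvd.2 hnp)
      (orderOf_dvd_of_pow_eq_one (hexp w hw)) (orderOf_dvd_of_pow_eq_one hw1))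
    rw [hw0, mul_one] at hcy
    exact (mul_inv_eq_iff_eq_mul.1 hcy).symm
  have hk := classes_over_abelian P hcomm
  have hRB := RB.of_comm hH
  rw [RB, one_mul] at hRB
  refine amgm_bound (r := 1) Nat.card_pos one_pos (by rw [one_mul]; exact hRB) hk Nat.card_pos ?_
  rw [hb]
  push_cast
  have : (4 : ℚ) ≤ (p : ℚ) ^ 2 := by
    have : (2 : ℚ) ≤ p := by exact_mod_cast hp.out.two_le
    nlinarith
  rw [show (p : ℚ) ^ (1 + 1) = (p : ℚ) ^ 2 by norm_num]
  linarith

/-- A self-centralising minimal normal subgroup. -/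
theorem faithful_case {a : ℕ} (ha : 2 ≤ a) (V : Subgroup G) [hV : V.Normal] (hVa : Nat.card V = p ^ a)
    (hexp : ∀ v ∈ V, v ^ p = 1) (hcomm : ∀ v ∈ V, ∀ w ∈ V, v * w = w * v)
    (hC : Subgroup.centralizer (V : Set G) ≤ V) (hmin : ∀ K : Subgroup G, K.Normal → K ≤ V → K = ⊥ ∨ K = V)
    (hsol : Group.IsSolvable G) : 49 * p ≤ 60 * Nat.card (ConjClasses G) := by
  classical
  have hk := classes_over_abelian V hcomm
  rw [hVa] at hk
  have hh : 0 < Nat.card (G ⧸ V) := Nat.card_pos
  rcases Nat.lt_or_ge p 11 with hsmall | h11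
  · have h7 : p ≤ 7 := by
      by_contra h
      have := hp.out
      interval_cases p <;> norm_num at this
    exact small_arith hp.out h7 (Nat.pow_le_pow_right hp.out.pos ha) hh conjClasses_pos (few_classes _).1
      (few_classes _).2 hk
  -- the action
  letI : CommGroup V := { (inferInstance : Group V) with mul_comm := fun v w => Subtype.ext (hcomm v v.2 w w.2) }
  haveI := hsol
  haveI : Group.IsSolvable (G ⧸ V) := Group.isSolvable_of_surjective (QuotientGroup.mk'_surjective V)
  let act : G ⧸ V →* MulAut V := QuotientGroup.lift V MulAut.conjNormal fun v hv =>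
    MonoidHom.mem_ker.2 (MulEquiv.ext fun x => Subtype.ext (by
      rw [MulAut.conjNormal_apply, hcomm v hv x x.2, mul_inv_cancel_right]; rfl))
  have hact : ∀ (g : G) (x : V), (act (g : G ⧸ V) x : G) = g * x * g⁻¹ := fun g x => MulAut.conjNormal_apply g x
  have hactinj : ∀ h, (∀ x, act h x = x) → h = 1 := by
    intro h hh'
    obtain ⟨g, rfl⟩ := QuotientGroup.mk'_surjective V h
    refine (QuotientGroup.eq_one_iff g).2 (hC fun x hx => ?_)
    have := congrArg Subtype.val (hh' ⟨x, hx⟩)
    rw [QuotientGroup.mk'_apply, hact] at this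
    exact (mul_inv_eq_iff_eq_mul.1 this).symm
  have hirr : ∀ F : Subgroup V, (∀ h, ∀ x ∈ F, act h x ∈ F) → F = ⊥ ∨ F = ⊤ := by
    intro F hF
    have hn : (F.map V.subtype).Normal := ⟨by
      rintro _ ⟨x, hx, rfl⟩ g
      exact ⟨act g x, hF _ x hx, hact g x⟩⟩
    rcases hmin _ hn (Subgroup.map_subtype_le F) with h | h
    · exact Or.inl (Subgroup.map_injective V.subtype_injective (h.trans (Subgroup.map_bot _).symm))
    · refine Or.inr (eq_top_iff.2 fun x _ => ?_)
      obtain ⟨y, hy, hyx⟩ := h.ge x.2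
      rwa [← Subtype.ext hyx]
  haveI : Module (ZMod p) (Additive V) := AddCommGroup.zmodModule fun x =>
    Additive.toMul.injective (Subtype.ext (by
      show ((Additive.toMul x ^ p : V) : G) = 1
      rw [Subgroup.coe_pow]; exact hexp _ (Additive.toMul x).2))
  haveI : Module.Finite (ZMod p) (Additive V) := Module.Finite.of_finite
  have hfr : Module.finrank (ZMod p) (Additive V) = a := by
    have h := Module.natCard_eq_pow_finrank (K := ZMod p) (V := Additive V)
    rw [Nat.card_zmod, show Nat.card (Additive V) = p ^ a from hVa] at h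
    exact (Nat.pow_right_injective hp.out.two_le h).symm
  let e : Additive V ≃ₗ[ZMod p] (Fin a → ZMod p) := (Module.finBasisOfFinrankEq _ _ hfr).equivFun
  let lin : G ⧸ V →* Module.End (ZMod p) (Additive V) :=
    { toFun := fun h => (MonoidHom.toAdditive (act h).toMonoidHom).toZModLinearMap p
      map_one' := LinearMap.ext fun x => by
        show Additive.ofMul (act 1 (Additive.toMul x)) = x
        rw [map_one]; rfl
      map_mul' := fun h h' => LinearMap.ext fun x => by
        show Additive.ofMul (act (h * h') (Additive.toMul x)) = Additive.ofMul (act h (act h' (Additive.toMul x)))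
        rw [map_mul]; rfl }
  let ρ₀ : G ⧸ V →* Module.End (ZMod p) (Fin a → ZMod p) :=
    { toFun := fun h => e.toLinearMap ∘ₗ lin h ∘ₗ e.symm.toLinearMap
      map_one' := LinearMap.ext fun x => by simp
      map_mul' := fun h h' => LinearMap.ext fun x => by simp }
  let Mh : G ⧸ V →* Matrix (Fin a) (Fin a) (ZMod p) :=
    (LinearMap.toMatrixAlgEquiv' : Module.End (ZMod p) (Fin a → ZMod p) ≃ₐ[ZMod p] _).toAlgHom.toMonoidHom.comp ρ₀
  have hMh : ∀ h x, (Mh h).mulVec x = e (lin h (e.symm x)) := fun h x => by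
    show (LinearMap.toMatrixAlgEquiv' (ρ₀ h)).mulVec x = _
    rw [← Matrix.toLinAlgEquiv'_apply, Matrix.toLinAlgEquiv'_toMatrixAlgEquiv']
    rfl
  let k := AlgebraicClosure (ZMod p)
  let ι : ZMod p →+* k := algebraMap _ _
  let π : G ⧸ V →* Module.End k (Fin a → k) :=
    (Matrix.toLinAlgEquiv' : Matrix (Fin a) (Fin a) k ≃ₐ[k] _).toAlgHom.toMonoidHom.comp
      (ι.mapMatrix.toMonoidHom.comp Mh)
  have hπ : ∀ h x, π h x = ((Mh h).map ι).mulVec x := fun h x => Matrix.toLinAlgEquiv'_apply _ _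
  have htop : (⊤ : Submodule k (Fin a → k)) ≠ ⊥ := by
    intro h
    have := finrank_top k (Fin a → k)
    rw [h, finrank_bot, Module.finrank_fin_fun] at this
    omega
  obtain ⟨U, -, hU0, hU, hUmin⟩ := exists_minimal_invt (π := π) (U := ⊤) (fun _ _ _ => Submodule.mem_top) htop
  let σ := restrictRep π U hU
  have hσirr : IsIrr σ := by
    haveI : Nontrivial U := Submodule.nontrivial_iff_ne_bot.2 hU0
    refine ⟨top_ne_bot, fun T hT => ?_⟩
    have hT' : Invt π (T.map U.subtype) := by
      rintro g _ ⟨v, hv, rfl⟩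
      exact ⟨σ g v, hT g v hv, rfl⟩
    rcases hUmin _ (Submodule.map_subtype_le _ _) hT' with h | h
    · exact Or.inl (Submodule.map_injective_of_injective U.injective_subtype (h.trans (Submodule.map_bot _).symm))
    · refine Or.inr (eq_top_iff.2 fun x _ => ?_)
      obtain ⟨y, hy, hyx⟩ := h.ge x.2
      rwa [← Subtype.ext hyx]
  have hσinj : Function.Injective σ := by
    obtain ⟨u, hu, hu0⟩ := (Submodule.ne_bot_iff _).1 hU0
    obtain ⟨i, hi⟩ := Function.ne_iff.1 hu0
    obtain ⟨f, hf⟩ : ∃ f : Module.Dual (ZMod p) k, f (u i) ≠ 0 := by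
      by_contra hc
      push Not at hc
      exact hi ((Module.forall_dual_apply_eq_zero_iff (ZMod p) (u i)).1 hc)
    let y : V := Additive.toMul (e.symm fun j => f (u j))
    have hy1 : y ≠ 1 := fun h => hf (by
      have h' : e.symm (fun j => f (u j)) = 0 := Additive.toMul.injective h
      exact congrFun (e.symm.map_eq_zero_iff.1 h') i)
    let F : Subgroup V :=
      { carrier := {x | ∀ n : G ⧸ V, σ n = 1 → act n x = x}
        one_mem' := fun n _ => map_one _
        mul_mem' := fun {x z} hx hz n hn => by rw [map_mul, hx n hn, hz n hn]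
        inv_mem' := fun {x} hx n hn => by rw [map_inv, hx n hn] }
    have hFinv : ∀ h, ∀ x ∈ F, act h x ∈ F := by
      intro h x hx n hn
      have h1 : σ (h⁻¹ * n * h) = 1 := by
        rw [map_mul, map_mul, hn, mul_one, ← map_mul, inv_mul_cancel, map_one]
      have h2 := hx _ h1
      conv_rhs => rw [← h2]
      rw [← MulAut.mul_apply, ← MulAut.mul_apply, ← map_mul, ← map_mul]
      congr 2
      group
    have hyF : y ∈ F := by
      intro n hn
      have hu' : π n u = u := congrArg Subtype.val (LinearMap.congr_fun hn ⟨u, hu⟩)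
      have h1 : (Mh n).mulVec (fun j => f (u j)) = fun j => f (u j) := by
        funext l
        have h2 := congrArg f (congrFun hu' l)
        rw [hπ] at h2
        simp only [Matrix.mulVec, dotProduct, Matrix.map_apply, map_sum] at h2 ⊢
        rw [← h2]
        refine Finset.sum_congr rfl fun j _ => ?_
        show _ = f (algebraMap (ZMod p) k (Mh n l j) * u j)
        rw [← Algebra.smul_def, map_smul, smul_eq_mul]
      rw [hMh] at h1
      have h3 := congrArg e.symm h1
      rw [e.symm_apply_apply] at h3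
      exact congrArg Additive.toMul h3
    have hFt : F = ⊤ := (hirr F hFinv).resolve_left fun h => hy1 (Subgroup.mem_bot.1 (h ▸ hyF))
    refine (injective_iff_map_eq_one σ).2 fun n hn => hactinj n fun x => ?_
    exact (hFt.ge (Subgroup.mem_top x)) n hn
  obtain ⟨hR, hR2⟩ := irr_bound σ hσinj inferInstance hσirr
  have hdle : Module.finrank k U ≤ a := U.finrank_le.trans_eq (Module.finrank_fin_fun k)
  have hd1 : 1 ≤ Module.finrank k U := Submodule.one_le_finrank_iff.2 hU0
  set d := Module.finrank k U with hd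
  rcases (by omega : 3 ≤ a ∨ a = 2) with ha3 | rfl
  · refine dim_arith hp.out h11 ha3 hh (hR.mono ?_) hk
    rcases hdle.eq_or_lt with h | h
    · rw [h]
    · have := gB_mul hd1 (show 1 ≤ a - d by omega)
      rw [Nat.add_sub_cancel' hdle] at this
      exact le_trans (le_mul_of_one_le_right (gB_pos d).le (one_le_gB _)) this
  rcases (by omega : d = 1 ∨ d = 2) with h1 | h2
  · refine two_arith h11 hh (hR.mono ?_) hk
    rw [h1]; norm_num [gB]
  rcases hR2 h2 with h4 | ⟨z, hz, hzk, hz2, hzc, hzs⟩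
  · exact two_arith h11 hh h4 hk
  rw [hz] at hk
  refine oct_arith h11 hz2 ?_ (hzc ▸ Nat.card_pos) hzk hk
  have hUt : U = ⊤ := Submodule.eq_top_of_finrank_eq (h2.trans (Module.finrank_fin_fun k).symm)
  obtain ⟨v, -, hv⟩ := (Submodule.ne_bot_iff _).1 hσirr.1
  obtain ⟨ζ, hζ⟩ := exists_eigHom (σ.comp (Subgroup.center (G ⧸ V)).subtype) hv fun x => by
    obtain ⟨c, hc⟩ := hzs x x.2
    exact ⟨c, LinearMap.congr_fun hc v⟩
  have hζ1 : ∀ x : Subgroup.center (G ⧸ V), σ x = (ζ x : k) • (1 : Module.End k U) := fun x => by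
    obtain ⟨c, hc⟩ := hzs x x.2
    rw [hc]
    congr 1
    refine smul_left_injective k hv ?_
    show c • v = (ζ x : k) • v
    rw [← hζ x]
    exact (LinearMap.congr_fun hc v).symm
  have hentry : ∀ x : Subgroup.center (G ⧸ V), ι (Mh x 0 0) = (ζ x : k) := by
    intro x
    have hmem : (Pi.single (0 : Fin 2) (1 : k)) ∈ U := hUt ▸ Submodule.mem_top
    have h3 := congrFun (congrArg Subtype.val (LinearMap.congr_fun (hζ1 x) ⟨_, hmem⟩)) 0
    have h4 : ((σ (x : G ⧸ V) ⟨_, hmem⟩ : U) : Fin 2 → k) 0 = ι (Mh x 0 0) := by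
      rw [restrictRep_apply, hπ, Matrix.mulVec_single_one]
      rfl
    rw [← h4, h3]
    simp
  let ψ : Subgroup.center (G ⧸ V) →* ZMod p :=
    { toFun := fun x => Mh x 0 0
      map_one' := ι.injective (by rw [hentry, map_one, Units.val_one, map_one])
      map_mul' := fun x y => ι.injective (by rw [map_mul ι, hentry, hentry, hentry, map_mul, Units.val_mul]) }
  have hψ : Function.Injective ψ.toHomUnits := fun x y hxy => by
    have h5 : (ζ x : k) = ζ y := by
      rw [← hentry, ← hentry]; exact congrArg ι (congrArg Units.val hxy)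
    exact Subtype.ext (hσinj (by rw [hζ1, hζ1, h5]))
  have := Subgroup.card_dvd_of_injective _ hψ
  rwa [hzc, Nat.card_units, Nat.card_zmod] at this

/-- The induction step. -/
theorem reduced_case (hsol : Group.IsSolvable G) (hp2 : p ^ 2 ∣ Nat.card G)
    (hq : ∀ N : Subgroup G, N.Normal → N ≠ ⊥ → ¬ p ^ 2 ∣ Nat.card (G ⧸ N)) :
    49 * p ≤ 60 * Nat.card (ConjClasses G) := by
  classical
  haveI := hsol
  have hG : (⊤ : Subgroup G) ≠ ⊥ := fun h => by
    have h1 : Nat.card G = 1 := by rw [← Subgroup.card_top, h, Subgroup.card_bot]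
    rw [h1] at hp2
    have := Nat.le_of_dvd one_pos hp2
    nlinarith [hp.out.two_le]
  haveI : Group.IsSolvable (⊤ : Subgroup G) :=
    Group.isSolvable_of_isSolvable_injective (Subgroup.subtype_injective (⊤ : Subgroup G))
  have hkind : ∀ {L : Subgroup G}, L.Normal → L ≠ ⊥ → ∀ {l : ℕ}, l.Prime → IsPGroup l L → l = p := by
    intro L hL hL0 l hl hLl
    by_contra hne
    haveI := Fact.mk hl
    obtain ⟨e, he⟩ := IsPGroup.iff_card.1 hLl
    exact hL0 (eq_bot_of_coprime p hp2 hq hL (by
      rw [he]; exact Nat.Coprime.pow_left _ ((Nat.coprime_primes hl hp.out).2 hne)))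
  obtain ⟨V₀, hV₀, hV₀0, -, -, -, l, hl, -, hV₀l⟩ :=
    CfsgLib.Solvable.exists_normal_elementary_le (N := (⊤ : Subgroup G)) hG inferInstance
  obtain rfl := hkind hV₀ hV₀0 hl hV₀l
  set P := Cfsg.pCore l G with hPdef
  have hPn : P.Normal := CfsgLib.Solvable.pCore_normal l
  haveI := hPn
  have hPp : IsPGroup l P := CfsgLib.Solvable.isPGroup_pCore l
  have hP0 : P ≠ ⊥ := fun h => hV₀0 (eq_bot_iff.2 (h ▸ CfsgLib.Solvable.le_pCore l hV₀ hV₀l))
  haveI : Nontrivial P := (Subgroup.nontrivial_iff_ne_bot P).2 hP0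
  haveI := hPp.center_nontrivial
  let Z := (Subgroup.center P).map P.subtype
  have hZn : Z.Normal := ConjAct.normal_of_characteristic_of_normal
  have hZ0 : Z ≠ ⊥ := fun h => (Subgroup.nontrivial_iff_ne_bot _).1 ‹Nontrivial (Subgroup.center P)›
    (Subgroup.map_injective P.subtype_injective (h.trans (Subgroup.map_bot _).symm))
  haveI := hZn
  haveI : Group.IsSolvable Z := Group.isSolvable_of_isSolvable_injective Z.subtype_injective
  obtain ⟨V, hVn, hV0, hVZ, hVc, hmin, l', hl', hexp, hVl⟩ :=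
    CfsgLib.Solvable.exists_normal_elementary_le hZ0 inferInstance
  obtain rfl := hkind hVn hV0 hl' hVl
  haveI := hVn
  have hVP : V ≤ P := hVZ.trans (Subgroup.map_subtype_le _)
  have hVcP : ∀ v ∈ V, ∀ x ∈ P, v * x = x * v := by
    intro v hv x hx
    obtain ⟨z, hz, rfl⟩ := hVZ hv
    exact congrArg Subtype.val (Subgroup.mem_center_iff.1 hz ⟨x, hx⟩).symm
  rcases hVP.eq_or_lt with heq | hlt
  swap
  · exact sylow_square_case l' hp2 hq V P hV0 hlt hPp hVcP hexp
  obtain ⟨a, ha⟩ := IsPGroup.iff_card.1 hVl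
  have hcomm : ∀ v ∈ V, ∀ w ∈ V, v * w = w * v := fun v hv w hw => hVcP v hv w (hVP hw)
  have hC : Subgroup.centralizer (V : Set G) ≤ V := by
    by_contra hne
    set C := Subgroup.centralizer (V : Set G)
    have hVC : V ≤ C := fun v hv w hw => hcomm w hw v hv
    let Cb := C.map (QuotientGroup.mk' V)
    haveI : C.Normal := inferInstance
    haveI hCbn : Cb.Normal := Subgroup.Normal.map inferInstance _ (QuotientGroup.mk'_surjective V)
    have hCb0 : Cb ≠ ⊥ := fun h => hne fun x hx => (QuotientGroup.eq_one_iff x).1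
      (Subgroup.mem_bot.1 (h ▸ Subgroup.mem_map_of_mem (QuotientGroup.mk' V) hx))
    haveI : Group.IsSolvable (G ⧸ V) := Group.isSolvable_of_surjective (QuotientGroup.mk'_surjective V)
    haveI : Group.IsSolvable Cb := Group.isSolvable_of_isSolvable_injective Cb.subtype_injective
    obtain ⟨Db, hDbn, hDb0, hDbC, -, -, r, hr, -, hDbr⟩ :=
      CfsgLib.Solvable.exists_normal_elementary_le hCb0 inferInstance
    haveI := hDbn
    haveI := Fact.mk hr
    let D := Db.comap (QuotientGroup.mk' V)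
    have hDn : D.Normal := Subgroup.Normal.comap hDbn _
    have hVD : V ≤ D := fun v hv => by
      show QuotientGroup.mk' V v ∈ Db
      rw [show QuotientGroup.mk' V v = 1 from (QuotientGroup.eq_one_iff v).2 hv]; exact Db.one_mem
    have hrel : V.relIndex D = Nat.card Db := by
      have := Subgroup.relIndex_comap (H := (⊥ : Subgroup (G ⧸ V))) (f := QuotientGroup.mk' V) D
      rwa [MonoidHom.comap_bot, QuotientGroup.ker_mk', Subgroup.map_comap_eq_self_of_surjective
        (QuotientGroup.mk'_surjective V), Subgroup.relIndex_bot_left] at this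
    obtain ⟨e, he⟩ := IsPGroup.iff_card.1 hDbr
    by_cases hrp : r = l'
    · subst hrp
      have hDl : IsPGroup r D := IsPGroup.of_card (n := a + e) (by
        rw [← Subgroup.relIndex_bot_left, ← Subgroup.relIndex_mul_relIndex ⊥ V D bot_le hVD,
          Subgroup.relIndex_bot_left, ha, hrel, he, pow_add])
      have hDV : D ≤ V := heq ▸ CfsgLib.Solvable.le_pCore r hDn hDl
      refine hDb0 (eq_bot_iff.2 fun t ht => ?_)
      obtain ⟨g, rfl⟩ := QuotientGroup.mk'_surjective V t
      exact Subgroup.mem_bot.2 ((QuotientGroup.eq_one_iff g).2 (hDV ht))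
    · haveI := hDn
      have hcop : (l' ^ a).Coprime (r ^ e) := ((Nat.coprime_primes hl' hr).2 (Ne.symm hrp)).pow a e
      obtain ⟨K, hK, hKc⟩ := exists_normal_hall D V hVD (fun x hx v hv => by
        have hxC : x ∈ C := by
          obtain ⟨y, hy, hyx⟩ := hDbC hx
          have h1 : y⁻¹ * x ∈ V := QuotientGroup.eq.1 hyx
          rw [show x = y * (y⁻¹ * x) by group]
          exact C.mul_mem hy (hVC h1)
        exact (hxC v hv).symm) (by rw [ha, hrel, he]; exact hcop)
      have hK0 := eq_bot_of_coprime l' hp2 hq hK (by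
        rw [hKc, hrel, he]; exact Nat.Coprime.pow_left e ((Nat.coprime_primes hr hl').2 hrp))
      rw [hK0, Subgroup.card_bot, hrel] at hKc
      exact hDb0 (Subgroup.eq_bot_of_card_eq _ hKc.symm)
  have ha2 : 2 ≤ a := by
    by_contra hlt'
    have ha1 : a = 1 := by
      by_contra h
      exact hV0 (Subgroup.eq_bot_of_card_eq _ (by rw [ha, show a = 0 by omega, pow_zero]))
    subst ha1
    haveI : Finite (MulAut V) := Finite.of_injective (fun φ : MulAut V => (φ : V → V)) DFunLike.coe_injective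
    let f : G →* MulAut V := MulAut.conjNormal
    have hker : f.ker ≤ V := fun g hg => hC fun v hv => by
      have := congrArg Subtype.val (DFunLike.congr_fun (MonoidHom.mem_ker.1 hg) ⟨v, hv⟩)
      rw [MulAut.conjNormal_apply] at this
      exact (mul_inv_eq_iff_eq_mul.1 this).symm
    have h1 : Nat.card f.range ≤ l' - 1 := by
      refine (Subgroup.card_le_card_group _).trans ((card_mulAut_le hl' ha).trans ?_)
      simp
    have h2 : l' ^ 2 ∣ l' * Nat.card f.range := by
      refine hp2.trans ?_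
      rw [← f.ker.card_mul_index, Subgroup.index_ker]
      refine Nat.mul_dvd_mul_right ?_ _
      have := Subgroup.card_dvd_of_le hker
      rwa [ha, pow_one] at this
    rw [sq] at h2
    have h3 := Nat.le_of_dvd Nat.card_pos (Nat.dvd_of_mul_dvd_mul_left hl'.pos h2)
    have := hl'.two_le
    omega
  exact faithful_case l' ha2 V ha hexp hcomm hC hmin hsol

end

/-- A solvable group of order divisible by the square of a prime has many classes. -/
theorem class_bound (p : ℕ) [Fact p.Prime] : ∀ (G : Type u) [Group G] [Finite G], Group.IsSolvable G →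
    p ^ 2 ∣ Nat.card G → 49 * p ≤ 60 * Nat.card (ConjClasses G) := by
  intro G _ _ hs hd
  induction hn : Nat.card G using Nat.strong_induction_on generalizing G with
  | _ n ih =>
    subst hn
    by_cases hq : ∀ N : Subgroup G, N.Normal → N ≠ ⊥ → ¬ p ^ 2 ∣ Nat.card (G ⧸ N)
    · exact reduced_case p hs hd hq
    push Not at hq
    obtain ⟨N, hN, hN0, hdN⟩ := hq
    haveI := hN
    haveI := hs
    refine (ih _ (CfsgLib.Solvable.card_quotient_lt hN0) (G ⧸ N)
      (Group.isSolvable_of_surjective (QuotientGroup.mk'_surjective N)) hdN rfl).trans (Nat.mul_le_mul_left _ ?_)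
    exact Nat.card_le_card_of_surjective _ (ConjClasses.map_surjective (QuotientGroup.mk'_surjective N))

end CfsgLib.SolvLinK
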