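import Mathlib.GroupTheory.GroupAction.ConjAct
import Mathlib.GroupTheory.GroupAction.Quotient
import Mathlib.GroupTheory.ClassEquation
import Mathlib.GroupTheory.Index
import Mathlib.Algebra.BigOperators.Field
import Mathlib.Data.Rat.Cast.Order
import Mathlib.Algebra.Order.BigOperators.Group.Finset
import Mathlib.Tactic.FieldSimp
import Mathlib.Tactic.Linarith
import Mathlib.Tactic.NormNum
import Mathlib.Tactic.Positivity
import Mathlib.Tactic.IntervalCases

/-!
Lower bounds for class numbers: over a commutative normal subgroup, and for very few classes.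
-/

set_option autoImplicit false
set_option linter.style.haveILetI false

namespace CfsgLib.SolvLinK

variable {G : Type*} [Group G] [Finite G]

theorem carrier_card (g : G) :
    Nat.card (ConjClasses.mk g).carrier = (Subgroup.centralizer ({g} : Set G)).index := by
  rw [← ConjAct.orbit_eq_carrier_conjClasses, Nat.card_coe_set_eq, ← MulAction.index_stabilizer]
  rw [ConjAct.stabilizer_eq_centralizer]
  rw [Subgroup.index, Subgroup.index]
  exact Nat.card_congr (Equiv.refl _)

theorem classes_over_abelian (V : Subgroup G) [V.Normal] (hV : ∀ a ∈ V, ∀ b ∈ V, a * b = b * a) :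
    Nat.card V - 1 + Nat.card (G ⧸ V) * Nat.card (ConjClasses (G ⧸ V)) ≤
      Nat.card (G ⧸ V) * Nat.card (ConjClasses G) := by
  classical
  haveI := Fintype.ofFinite G
  haveI := Fintype.ofFinite (ConjClasses G)
  haveI := Fintype.ofFinite (ConjClasses (G ⧸ V))
  let f : ConjClasses G → ConjClasses (G ⧸ V) := ConjClasses.map (QuotientGroup.mk' V)
  set s₀ := Finset.univ.filter (fun C : ConjClasses G => f C = ConjClasses.mk 1) with hs₀
  set s₁ := Finset.univ.filter (fun C : ConjClasses G => ¬ f C = ConjClasses.mk 1) with hs₁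
  have hsplit : s₀.card + s₁.card = Nat.card (ConjClasses G) := by
    rw [Finset.card_filter_add_card_filter_not, Finset.card_univ, ← Nat.card_eq_fintype_card]
  have h1 : Nat.card (ConjClasses (G ⧸ V)) ≤ s₁.card + 1 := by
    rw [Nat.card_eq_fintype_card, ← Finset.card_univ]
    refine (Finset.card_le_card (t := insert (ConjClasses.mk 1) (s₁.image f)) fun D _ => ?_).trans
      ((Finset.card_insert_le _ _).trans (Nat.add_le_add_right Finset.card_image_le 1))
    obtain ⟨C, rfl⟩ := ConjClasses.map_surjective (QuotientGroup.mk'_surjective V) D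
    by_cases hC : f C = ConjClasses.mk 1
    · exact Finset.mem_insert.2 (Or.inl hC)
    · exact Finset.mem_insert_of_mem (Finset.mem_image.2 ⟨C, by simp [hs₁, hC], rfl⟩)
  have hmem : ∀ g : G, f (ConjClasses.mk g) = ConjClasses.mk 1 ↔ g ∈ V := by
    intro g
    show ConjClasses.mk (QuotientGroup.mk' V g) = ConjClasses.mk 1 ↔ _
    rw [ConjClasses.mk_eq_mk_iff_isConj, isConj_one_left]
    exact QuotientGroup.eq_one_iff g
  have hone : ConjClasses.mk (1 : G) ∈ s₀ := by
    rw [hs₀, Finset.mem_filter]
    exact ⟨Finset.mem_univ _, (hmem 1).2 V.one_mem⟩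
  have hfib : ∀ C ∈ s₀.erase (ConjClasses.mk (1 : G)),
      ((Finset.univ.filter fun g : G => g ∈ V ∧ g ≠ 1).filter fun g => ConjClasses.mk g = C).card ≤
        Nat.card (G ⧸ V) := by
    intro C hC
    obtain ⟨g, rfl⟩ := ConjClasses.mk_surjective C
    have hg : g ∈ V := (hmem g).1 (Finset.mem_filter.1 (Finset.mem_erase.1 hC).2).2
    refine le_trans ?_ (Nat.le_of_dvd Nat.card_pos
      (Subgroup.index_dvd_of_le (H := V) (K := Subgroup.centralizer ({g} : Set G)) fun v hv => by
        rw [Subgroup.mem_centralizer_singleton_iff]; exact (hV v hv g hg)))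
    rw [← carrier_card, Nat.card_coe_set_eq, ← Set.ncard_coe_finset]
    refine Set.ncard_le_ncard fun x hx => ?_
    rw [Finset.mem_coe, Finset.mem_filter] at hx
    exact ConjClasses.mem_carrier_iff_mk_eq.2 hx.2
  have h2 : Nat.card V - 1 ≤ (s₀.erase (ConjClasses.mk (1 : G))).card * Nat.card (G ⧸ V) := by
    have hcard : (Finset.univ.filter fun g : G => g ∈ V ∧ g ≠ 1).card = Nat.card V - 1 := by
      have e : (Finset.univ.filter fun g : G => g ∈ V ∧ g ≠ 1) = (Finset.univ.filter fun g : G => g ∈ V).erase 1 := by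
        ext g; simp [and_comm]
      rw [e, Finset.card_erase_of_mem (by simp [V.one_mem]), ← Fintype.card_subtype, ← Nat.card_eq_fintype_card]
    rw [← hcard, mul_comm]
    refine Finset.card_le_mul_card_image_of_maps_to (f := ConjClasses.mk) (fun g hg => ?_) _ hfib
    obtain ⟨hgV, hg1⟩ := (Finset.mem_filter.1 hg).2
    refine Finset.mem_erase.2 ⟨fun h => hg1 ?_, Finset.mem_filter.2 ⟨Finset.mem_univ _, (hmem g).2 hgV⟩⟩
    exact isConj_one_left.1 (ConjClasses.mk_eq_mk_iff_isConj.1 h)
  rw [Finset.card_erase_of_mem hone] at h2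
  have h0 : 1 ≤ s₀.card := Finset.card_pos.2 ⟨_, hone⟩
  obtain ⟨c, hc⟩ : ∃ c, s₀.card = c + 1 := ⟨s₀.card - 1, by omega⟩
  rw [hc, Nat.add_sub_cancel] at h2
  rw [← hsplit, hc]
  nlinarith

theorem inv_le_inv_nat {a b : ℕ} (ha : 0 < a) (h : a ≤ b) : (1 : ℚ) / b ≤ 1 / a :=
  one_div_le_one_div_of_le (by exact_mod_cast ha) (by exact_mod_cast h)

theorem two_frac {a b : ℕ} (ha : 0 < a) (hb : 0 < b) (h : (1 : ℚ) / a + 1 / b < 1) :
    (1 : ℚ) / a + 1 / b ≤ 5 / 6 := by
  wlog hab : a ≤ b generalizing a b
  · rw [add_comm]; exact this hb ha (by rwa [add_comm]) (by omega)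
  have h1 := inv_le_inv_nat ha hab
  rcases Nat.lt_or_ge a 3 with h3 | h3
  · interval_cases a
    · have : (0 : ℚ) ≤ 1 / (b : ℚ) := by positivity
      norm_num at h; linarith
    · rcases Nat.lt_or_ge b 3 with hb3 | hb3
      · obtain rfl : b = 2 := by omega
        norm_num at h
      · have := inv_le_inv_nat (by norm_num : 0 < 3) hb3
        norm_num at this ⊢; linarith
  · have := inv_le_inv_nat (by norm_num : 0 < 3) h3
    norm_num at this h1 ⊢; linarith

theorem three_frac {a b c : ℕ} (ha : 0 < a) (hab : a ≤ b) (hbc : b ≤ c)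
    (h : (1 : ℚ) / a + 1 / b + 1 / c < 1) : (1 : ℚ) / a + 1 / b + 1 / c ≤ 41 / 42 := by
  have h1 := inv_le_inv_nat ha hab
  have h2 := inv_le_inv_nat (ha.trans_le hab) hbc
  have hc : (0 : ℚ) ≤ 1 / (c : ℚ) := by positivity
  have hb : (0 : ℚ) ≤ 1 / (b : ℚ) := by positivity
  have hcb : ∀ n : ℕ, 0 < n → c ≤ n → (1 : ℚ) / n ≤ 1 / c := fun n _ hn => inv_le_inv_nat (by omega) hn
  rcases Nat.lt_or_ge a 4 with h4 | h4
  swap
  · have := inv_le_inv_nat (by norm_num : 0 < 4) h4
    norm_num at this h1 h2 ⊢; linarith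
  interval_cases a
  · norm_num at h
    have : (0 : ℚ) ≤ (b : ℚ)⁻¹ := by positivity
    have : (0 : ℚ) ≤ (c : ℚ)⁻¹ := by positivity
    linarith
  · rcases Nat.lt_or_ge b 5 with h5 | h5
    swap
    · have := inv_le_inv_nat (by norm_num : 0 < 5) h5
      norm_num at this h2 ⊢; linarith
    interval_cases b
    · norm_num at h
      have : (0 : ℚ) ≤ (c : ℚ)⁻¹ := by positivity
      linarith
    · rcases Nat.lt_or_ge c 7 with h7 | h7
      · have := hcb 6 (by norm_num) (by omega)
        norm_num at this h; linarith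
      · have := inv_le_inv_nat (by norm_num : 0 < 7) h7
        norm_num at this ⊢; linarith
    · rcases Nat.lt_or_ge c 5 with h5' | h5'
      · have := hcb 4 (by norm_num) (by omega)
        norm_num at this h; linarith
      · have := inv_le_inv_nat (by norm_num : 0 < 5) h5'
        norm_num at this ⊢; linarith
  · rcases Nat.lt_or_ge b 4 with h4' | h4'
    swap
    · have := inv_le_inv_nat (by norm_num : 0 < 4) h4'
      norm_num at this h2 ⊢; linarith
    obtain rfl : b = 3 := by omega
    rcases Nat.lt_or_ge c 4 with h4'' | h4''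
    · have := hcb 3 (by norm_num) (by omega)
      norm_num at this h; linarith
    · have := inv_le_inv_nat (by norm_num : 0 < 4) h4''
      norm_num at this ⊢; linarith

theorem three_frac' {a b c : ℕ} (ha : 0 < a) (hb : 0 < b) (hc : 0 < c)
    (h : (1 : ℚ) / a + 1 / b + 1 / c < 1) : (1 : ℚ) / a + 1 / b + 1 / c ≤ 41 / 42 := by
  rcases le_total a b with hab | hab <;> rcases le_total b c with hbc | hbc <;> rcases le_total a c with hac | hac
  all_goals first
    | exact three_frac ha hab hbc h
    | (have := three_frac ha hac hbc (by linarith); linarith)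
    | (have := three_frac hb hab hac (by linarith); linarith)
    | (have := three_frac hb hbc hac (by linarith); linarith)
    | (have := three_frac hc hac hab (by linarith); linarith)
    | (have := three_frac hc hbc hab (by linarith); linarith)

/-- Groups with at most four classes. -/
theorem few_classes (H : Type*) [Group H] [Finite H] :
    (Nat.card (ConjClasses H) ≤ 3 → Nat.card H ≤ 6) ∧ (Nat.card (ConjClasses H) ≤ 4 → Nat.card H ≤ 42) := by
  classical
  haveI := Fintype.ofFinite H
  haveI := Fintype.ofFinite (ConjClasses H)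
  let n : ConjClasses H → ℕ := fun C => Nat.card (Subgroup.centralizer ({Quotient.out C} : Set H))
  have hn : ∀ C, 0 < n C := fun C => Nat.card_pos
  have hN : (0 : ℚ) < Nat.card H := by exact_mod_cast Nat.card_pos
  have hC : ∀ C : ConjClasses H, (Nat.card C.carrier : ℚ) / Nat.card H = 1 / n C := by
    intro C
    have h : Nat.card C.carrier = (Subgroup.centralizer ({Quotient.out C} : Set H)).index := by
      have e : ConjClasses.mk (Quotient.out C) = C := Quotient.out_eq C
      conv_lhs => rw [← e]
      exact carrier_card _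
    have h' : (n C : ℚ) * (Nat.card C.carrier : ℚ) = Nat.card H := by
      rw [h]; exact_mod_cast (Subgroup.centralizer ({Quotient.out C} : Set H)).card_mul_index
    have : (0 : ℚ) < n C := by exact_mod_cast hn C
    field_simp
    linarith
  have hsum : ∑ C : ConjClasses H, (1 : ℚ) / n C = 1 := by
    simp only [← hC, ← Finset.sum_div]
    rw [div_eq_one_iff_eq hN.ne']
    have h := sum_conjClasses_card_eq_card (G := H)
    rw [Nat.card_eq_fintype_card (α := H), ← h]
    push_cast
    exact Finset.sum_congr rfl fun C _ => by rw [Nat.card_eq_card_toFinset]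
  set C₁ := ConjClasses.mk (1 : H)
  have h1 : (1 : ℚ) / n C₁ = 1 / Nat.card H := by
    rw [← hC, carrier_card, Subgroup.centralizer_eq_top_iff_subset.2 (by simp), Subgroup.index_top, Nat.cast_one]
  rw [← Finset.add_sum_erase _ _ (Finset.mem_univ C₁), h1] at hsum
  have hcard : (Finset.univ.erase C₁).card = Nat.card (ConjClasses H) - 1 := by
    rw [Finset.card_erase_of_mem (Finset.mem_univ _), Finset.card_univ, Nat.card_eq_fintype_card]
  have hlt : ∑ C ∈ Finset.univ.erase C₁, (1 : ℚ) / n C < 1 := by
    have : (0 : ℚ) < 1 / Nat.card H := by positivity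
    linarith
  have hfin : ∀ (B : ℕ), 0 < B → ∑ C ∈ Finset.univ.erase C₁, (1 : ℚ) / n C ≤ 1 - 1 / B → Nat.card H ≤ B := by
    intro B hB hle
    by_contra hc
    have : (1 : ℚ) / Nat.card H < 1 / B :=
      one_div_lt_one_div_of_lt (by exact_mod_cast hB) (by exact_mod_cast Nat.lt_of_not_le hc)
    linarith
  have e2 : ∀ s : Finset (ConjClasses H), s.card ≤ 2 → ∑ C ∈ s, (1 : ℚ) / n C < 1 →
      ∑ C ∈ s, (1 : ℚ) / n C ≤ 5 / 6 := by
    intro s hs h
    rcases (by omega : s.card = 0 ∨ s.card = 1 ∨ s.card = 2) with h0 | h0 | h0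
    · rw [Finset.card_eq_zero.1 h0, Finset.sum_empty]; norm_num
    · obtain ⟨a, rfl⟩ := Finset.card_eq_one.1 h0
      rw [Finset.sum_singleton] at h ⊢
      rcases Nat.lt_or_ge (n a) 2 with h2 | h2
      · rw [show n a = 1 by have := hn a; omega] at h; norm_num at h
      · have := inv_le_inv_nat (by norm_num : 0 < 2) h2
        norm_num at this ⊢; linarith
    · obtain ⟨a, b, hab, rfl⟩ := Finset.card_eq_two.1 h0
      rw [Finset.sum_pair hab] at h ⊢
      exact two_frac (hn a) (hn b) h
  refine ⟨fun hk => hfin 6 (by norm_num) ?_, fun hk => hfin 42 (by norm_num) ?_⟩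
  · have := e2 _ (by rw [hcard]; omega) hlt
    norm_num at this ⊢; linarith
  · rcases Nat.lt_or_ge (Finset.univ.erase C₁).card 3 with h3 | h3
    · have := e2 _ (by omega) hlt
      norm_num at this ⊢; linarith
    · obtain ⟨a, b, c, hab, hac, hbc, he⟩ := Finset.card_eq_three.1 (show (Finset.univ.erase C₁).card = 3 by omega)
      rw [he, Finset.sum_insert (by simp [hab, hac]), Finset.sum_pair hbc, ← add_assoc] at hlt ⊢
      have := three_frac' (hn a) (hn b) (hn c) hlt
      norm_num at this ⊢; linarith

end CfsgLib.SolvLinK
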