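import Mathlib.GroupTheory.CommutingProbability
import Cfsg.Agent.S4200
import Cfsg.Agent.S4201
import Mathlib.Tactic.Linarith
import Mathlib.Tactic.Positivity
import Mathlib.Tactic.FieldSimp

/-!
The ratio of the order of a finite group to its number of conjugacy classes.
-/

set_option autoImplicit false
set_option linter.style.haveILetI false

namespace CfsgLib.SolvLinK

universe u v

/-- The order is at most `c` times the number of classes. -/
def RB (G : Type*) [Group G] (c : ℚ) : Prop := (Nat.card G : ℚ) ≤ c * Nat.card (ConjClasses G)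

variable {G : Type u} [Group G] [Finite G]

theorem conjClasses_pos : 0 < Nat.card (ConjClasses G) := by
  haveI : Nonempty (ConjClasses G) := ⟨ConjClasses.mk 1⟩
  exact Nat.card_pos

theorem RB.one_le {c : ℚ} (h : RB G c) : 1 ≤ c := by
  have hk : (0 : ℚ) < Nat.card (ConjClasses G) := by exact_mod_cast conjClasses_pos
  have h1 : (Nat.card (ConjClasses G) : ℚ) ≤ Nat.card G := by
    exact_mod_cast Nat.card_le_card_of_surjective _ (ConjClasses.mk_surjective (α := G))
  rw [RB] at h
  by_contra hc
  nlinarith [not_le.1 hc]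

theorem RB.mono {c c' : ℚ} (h : RB G c) (hc : c ≤ c') : RB G c' :=
  h.trans (mul_le_mul_of_nonneg_right hc (Nat.cast_nonneg _))

theorem RB.of_comm (h : ∀ a b : G, a * b = b * a) : RB G 1 := by
  have : IsMulCommutative G := ⟨⟨h⟩⟩
  have h1 := (commProb_eq_one_iff (M := G)).2 this
  rw [commProb_def', div_eq_one_iff_eq (by exact_mod_cast Nat.card_pos.ne')] at h1
  rw [RB, one_mul, h1]

theorem RB.subgroup {c : ℚ} (h : RB G c) (K : Subgroup G) : RB K c := by
  have h2 : (Nat.card (ConjClasses G) : ℚ) ≤ K.index * Nat.card (ConjClasses K) := by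
    exact_mod_cast (Cfsg.Agent.S4200.result K).2.1
  have h3 : (Nat.card K : ℚ) * K.index = Nat.card G := by exact_mod_cast K.card_mul_index
  have hi : (0 : ℚ) < K.index := by exact_mod_cast Nat.pos_of_ne_zero K.index_ne_zero_of_finite
  have hc := h.one_le
  rw [RB] at h ⊢
  nlinarith [mul_le_mul_of_nonneg_left h2 (zero_le_one.trans hc)]

theorem RB.quot {c : ℚ} (h : RB G c) (N : Subgroup G) [N.Normal] : RB (G ⧸ N) c := by
  have h1 : (Nat.card (ConjClasses N) : ℚ) ≤ Nat.card N := by
    exact_mod_cast Nat.card_le_card_of_surjective _ (ConjClasses.mk_surjective (α := N))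
  have h2 : (Nat.card (ConjClasses G) : ℚ) ≤ Nat.card (ConjClasses N) * Nat.card (ConjClasses (G ⧸ N)) := by
    exact_mod_cast Cfsg.Agent.S4201.result N
  have h3 : (Nat.card (G ⧸ N) : ℚ) * Nat.card N = Nat.card G := by
    exact_mod_cast (Subgroup.card_eq_card_quotient_mul_card_subgroup N).symm
  have hN : (0 : ℚ) < Nat.card N := by exact_mod_cast Nat.card_pos
  have hc := zero_le_one.trans h.one_le
  have hk : (0 : ℚ) ≤ Nat.card (ConjClasses (G ⧸ N)) := Nat.cast_nonneg _
  rw [RB] at h ⊢
  nlinarith [mul_le_mul_of_nonneg_left h2 hc,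
    mul_le_mul_of_nonneg_left (mul_le_mul_of_nonneg_right h1 hk) hc]

theorem RB.congr {c : ℚ} {G' : Type v} [Group G'] (h : RB G c) (e : G ≃* G') : RB G' c := by
  rw [RB] at h ⊢
  have h1 : Nat.card G = Nat.card G' := Nat.card_congr e.toEquiv
  have h2 : Nat.card (ConjClasses G) ≤ Nat.card (ConjClasses G') := by
    haveI : Finite G' := Finite.of_equiv _ e.toEquiv
    exact Nat.card_le_card_of_surjective (ConjClasses.map e.symm.toMonoidHom)
      (ConjClasses.map_surjective e.symm.surjective)
  rw [← h1]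
  refine h.trans (mul_le_mul_of_nonneg_left (by exact_mod_cast h2) ?_)
  by_contra hc
  have hk : (0 : ℚ) ≤ Nat.card (ConjClasses G) := Nat.cast_nonneg _
  have hp : (0 : ℚ) < Nat.card G := by exact_mod_cast Nat.card_pos
  nlinarith [not_le.1 hc]

theorem RB.of_surjective {c : ℚ} {G' : Type v} [Group G'] (h : RB G c) (f : G →* G')
    (hf : Function.Surjective f) : RB G' c :=
  (h.quot f.ker).congr (QuotientGroup.quotientKerEquivOfSurjective f hf)

theorem RB.of_injective {c : ℚ} {G' : Type v} [Group G'] [Finite G'] (h : RB G' c) (f : G →* G')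
    (hf : Function.Injective f) : RB G c :=
  (h.subgroup f.range).congr (MonoidHom.ofInjective hf).symm

theorem RB.prod {c d : ℚ} {G' : Type v} [Group G'] [Finite G'] (h : RB G c) (h' : RB G' d) :
    RB (G × G') (c * d) := by
  have e := commProb_prod (M := G) (M' := G')
  rw [commProb_def', commProb_def', commProb_def'] at e
  have hG : (0 : ℚ) < Nat.card G := by exact_mod_cast Nat.card_pos
  have hG' : (0 : ℚ) < Nat.card G' := by exact_mod_cast Nat.card_pos
  rw [Nat.card_prod, Nat.cast_mul] at e
  have e' : (Nat.card (ConjClasses (G × G')) : ℚ) = Nat.card (ConjClasses G) * Nat.card (ConjClasses G') := by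
    field_simp at e
    exact e
  rw [RB] at h h' ⊢
  rw [Nat.card_prod, Nat.cast_mul, e',
    show c * d * ((Nat.card (ConjClasses G) : ℚ) * Nat.card (ConjClasses G')) =
      (c * Nat.card (ConjClasses G)) * (d * Nat.card (ConjClasses G')) by ring]
  exact mul_le_mul h h' hG'.le (hG.le.trans h)

theorem RB.pi {ι : Type v} [Finite ι] {K : ι → Type u} [∀ i, Group (K i)] [∀ i, Finite (K i)]
    {c : ℚ} (h : ∀ i, RB (K i) c) : RB (∀ i, K i) (c ^ Nat.card ι) := by
  classical
  haveI := Fintype.ofFinite ι
  have e := commProb_pi K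
  simp only [commProb_def'] at e
  have hP : (0 : ℚ) < Nat.card (∀ i, K i) := by exact_mod_cast Nat.card_pos
  have hcard : (Nat.card (∀ i, K i) : ℚ) = ∏ i, (Nat.card (K i) : ℚ) := by
    rw [Nat.card_pi, Nat.cast_prod]
  rw [Finset.prod_div_distrib, ← hcard, div_left_inj' hP.ne'] at e
  rw [RB, hcard, e, Nat.card_eq_fintype_card, ← Finset.card_univ, ← Finset.prod_const, ← Finset.prod_mul_distrib]
  exact Finset.prod_le_prod (fun i _ => Nat.cast_nonneg _) fun i _ => h i

/-- A normal subgroup costs the square of its index. -/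
theorem RB.of_normal {c : ℚ} (N : Subgroup G) (h : RB N c) : RB G ((N.index : ℚ) ^ 2 * c) := by
  have h1 : (Nat.card (ConjClasses N) : ℚ) ≤ N.index * Nat.card (ConjClasses G) := by
    exact_mod_cast (Cfsg.Agent.S4200.result N).1
  have h3 : (Nat.card N : ℚ) * N.index = Nat.card G := by exact_mod_cast N.card_mul_index
  have hc := zero_le_one.trans h.one_le
  rw [RB] at h ⊢
  rw [← h3]
  calc (Nat.card N : ℚ) * N.index ≤ c * (N.index * Nat.card (ConjClasses G)) * N.index :=
        mul_le_mul_of_nonneg_right (h.trans (mul_le_mul_of_nonneg_left h1 hc)) (Nat.cast_nonneg _)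
    _ = _ := by ring

theorem RB.of_commutator {c : ℕ} (h : Nat.card (commutator G) ≤ c) : RB G c := by
  have h1 := inv_card_commutator_le_commProb G
  rw [commProb_def'] at h1
  have hG : (0 : ℚ) < Nat.card G := by exact_mod_cast Nat.card_pos
  have hC : (0 : ℚ) < Nat.card (commutator G) := by exact_mod_cast Nat.card_pos
  rw [inv_le_iff_one_le_mul₀ hC, div_mul_eq_mul_div, one_le_div₀ hG] at h1
  rw [RB]
  refine h1.trans ?_
  rw [mul_comm]
  exact mul_le_mul_of_nonneg_right (by exact_mod_cast h) (Nat.cast_nonneg _)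

end CfsgLib.SolvLinK
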